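import Groth.Agent.RefCh.K939.Dual1
import Groth.Agent.Cyc.K305.DimIntegral
import Groth.Agent.CycA.SetupField
import Groth.Agent.CurvesB.DimPts
import Groth.Agent.SDiv.K476.HomSh6

/-!
# Functions on coherent modules which are additive and kill the modules supported in codimension `≥ 2`

* `IsAdd2 F`: `F` is additive on short exact sequences of coherent modules and vanishes on the coherent modules with
  zero stalks in codimension `≤ 1`;
* `refTensor_add`, `refPow_sub`, `dual_eq`: on an integral normal scheme with a dimension function, `F` applied to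
  reflexive tensor products, reflexive powers and duals of rank one reflexive modules;
* `exists_isSetup`: the dimension function of an integral scheme locally of finite type over a field.
-/

set_option autoImplicit false
set_option linter.style.haveILetI false
universe w u v

open CategoryTheory CategoryTheory.Limits AlgebraicGeometry TopologicalSpace

namespace K939.Abs

open Groth.Agent.CycB Groth.Agent.CycB.StalkExact Groth.Agent.Sga67.K0Basic

variable {X : Scheme.{u}} {δ : X → ℤ} {A : Type v} [AddCommGroup A]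

/-- Additive on short exact sequences of coherent modules, zero on coherent modules with zero stalks in
codimension `≤ 1`. -/
structure IsAdd2 (F : X.Modules → A) : Prop where
  add : ∀ S : ShortComplex X.Modules, S.ShortExact → Coh.IsCoh S.X₁ → Coh.IsCoh S.X₂ → Coh.IsCoh S.X₃ →
    F S.X₂ = F S.X₁ + F S.X₃
  kill : ∀ G : X.Modules, Coh.IsCoh G →
    (∀ x : X, ringKrullDim (X.presheaf.stalk x) ≤ 1 → Subsingleton (G.presheaf.stalk x)) → F G = 0

/-- An integral scheme locally of finite type over a field has a dimension function. -/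
theorem exists_isSetup {K : Type u} [Field K] (f : X ⟶ Spec (CommRingCat.of K)) [LocallyOfFiniteType f] :
    ∃ δ : X → ℤ, Cyc.IsSetup X δ := by
  obtain ⟨δ, hδ⟩ := Groth.Agent.CycB.SetupLft.exists_deltaCompat f (fun _ => 0)
  exact ⟨δ, Groth.Agent.CycA.SetupField.isSetup_of_field f hδ⟩

section Integral

variable [IsIntegral X]

theorem le_one_iff (hX : Cyc.IsSetup X δ) (x : X) :
    ringKrullDim (X.presheaf.stalk x) ≤ 1 ↔ δ (genericPoint X) - 1 ≤ δ x := by
  rw [K305.DimIntegral.ringKrullDim_stalk hX.2.2]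
  have h1 : (((δ (genericPoint X) - δ x).toNat : ℕ) : WithBot ℕ∞) ≤ 1 ↔
      (δ (genericPoint X) - δ x).toNat ≤ 1 := by
    constructor
    · intro h
      exact_mod_cast h
    · intro h
      exact_mod_cast h
  rw [h1]
  omega

variable {F : X.Modules → A}

/-- The homomorphism on `K_0 / K_{n-2}`. -/
noncomputable def lift (hX : Cyc.IsSetup X δ) (hF : IsAdd2 F) :
    Cyc.K0CohQuot δ (δ (genericPoint X)) (δ (genericPoint X) - 1 - 1) →+ A :=
  QuotientAddGroup.lift _ (liftSub (Cyc.CohLe δ (δ (genericPoint X))) F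
    (fun S hS h₁ h₂ h₃ => hF.add S hS h₁.1 h₂.1 h₃.1)) (by
    rw [AddSubgroup.closure_le]
    rintro _ ⟨G, hG, rfl⟩
    change liftSub _ _ _ _ = _
    rw [liftSub_clSub _ _ (Gen.cohLe_of_isCoh hX hG.1 rfl)]
    refine hF.kill G hG.1 fun x hx => not_nontrivial_iff_subsingleton.1 fun hn => ?_
    have h1 := hG.2 x hn
    rw [le_one_iff hX] at hx
    omega)

theorem lift_toQ (hX : Cyc.IsSetup X δ) (hF : IsAdd2 F) {G : X.Modules} (hG : Coh.IsCoh G) :
    lift hX hF (Cyc.toK0CohQuot δ (δ (genericPoint X)) (δ (genericPoint X) - 1 - 1) G) = F G := by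
  unfold Cyc.toK0CohQuot lift
  rw [QuotientAddGroup.lift_mk, liftSub_clSub _ _ (Gen.cohLe_of_isCoh hX hG rfl)]

end Integral

theorem isCoh_refTensor [IsLocallyNoetherian X] {L M : X.Modules} (hL : Coh.IsCoh L) (hM : Coh.IsCoh M) :
    Coh.IsCoh (RefPow.refTensor L M) :=
  K476.HomSh4.isCoh_ddual (Codim1.isCoh_tensor hL hM)

theorem isCoh_refPow [IsLocallyNoetherian X] {L : X.Modules} (hL : Coh.IsCoh L) (m : ℕ) :
    Coh.IsCoh (RefPow.refPow L m) := by
  induction m with
  | zero => exact Ref1.isCoh_structureModule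
  | succ m ih =>
    cases m with
    | zero => exact hL
    | succ m => exact isCoh_refTensor ih hL

/-! ### Modules free of rank one in codimension `≤ 1` -/

/-- Free of rank one in codimension `≤ 1`. -/
def Inv1 (L : X.Modules) : Prop :=
  ∀ x : X, ringKrullDim (X.presheaf.stalk x) ≤ 1 →
    Nonempty (L.presheaf.stalk x ≃ₗ[X.presheaf.stalk x] X.presheaf.stalk x)

theorem Inv1.of_iso {L M : X.Modules} (e : L ≅ M) (h : Inv1 L) : Inv1 M := fun x hx =>
  (h x hx).map fun e' => (stalkLinEquiv e x).symm.trans e'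

theorem inv1_of_isInvertible {L : X.Modules} (h : PicF.IsInvertible L) : Inv1 L := by
  intro x _
  obtain ⟨t, ht⟩ := ModStalk.exists_isGen h x
  exact ⟨(Ref1.genEquiv ht).symm⟩

theorem inv1_structureModule : Inv1 (Coh.structureModule X) :=
  inv1_of_isInvertible (Groth.Agent.Ega4dA.ParaCrit.structureModule_isInvertible X)

theorem inv1_of_ref1 [IsIntegral X] (hX : Cyc.IsSetup X δ) (hnorm : Pi1.IsNormalScheme X) {L : X.Modules}
    (h : RefHull.IsRef1 L) : Inv1 L := fun x hx =>
  Codim1.nonempty_equiv_of_ref1 hX hnorm ((le_one_iff hX x).1 hx) h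

theorem Inv1.tensor {L M : X.Modules} (hL : Inv1 L) (hM : Inv1 M) : Inv1 (CohB1.tensorMod L M) := by
  intro x hx
  obtain ⟨e⟩ := hL x hx
  obtain ⟨e'⟩ := hM x hx
  exact TensCmp.free_stalk_tensor e e'

theorem Inv1.dual {L : X.Modules} (hL : Inv1 L) (hP : CohB1.IsFP L) : Inv1 (RefHull.dual L) := by
  intro x hx
  obtain ⟨e⟩ := hL x hx
  exact ⟨(K476.HomSh4.dualStalkEquiv L hP x).trans (e.symm.dualMap.trans
    (LinearMap.ringLmapEquivSelf (X.presheaf.stalk x) (X.presheaf.stalk x) (X.presheaf.stalk x)))⟩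

theorem Inv1.ddual [IsLocallyNoetherian X] {L : X.Modules} (hL : Inv1 L) (hP : Coh.IsCoh L) :
    Inv1 (RefHull.ddual L) :=
  (hL.dual (K476.HomSh3.isFP_of_isCoh hP)).dual (K476.HomSh3.isFP_of_isCoh (K476.HomSh4.isCoh_dual hP))

theorem Inv1.refTensor [IsLocallyNoetherian X] {L M : X.Modules} (hL : Inv1 L) (hM : Inv1 M)
    (hLc : Coh.IsCoh L) (hMc : Coh.IsCoh M) : Inv1 (RefPow.refTensor L M) :=
  (hL.tensor hM).ddual (Codim1.isCoh_tensor hLc hMc)

theorem Inv1.refPow [IsLocallyNoetherian X] {L : X.Modules} (hL : Inv1 L) (hLc : Coh.IsCoh L) (m : ℕ) :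
    Inv1 (RefPow.refPow L m) := by
  induction m with
  | zero => exact inv1_structureModule
  | succ m ih =>
    cases m with
    | zero => exact hL
    | succ m => exact ih.refTensor hL (isCoh_refPow hLc _) hLc

section Integral

variable [IsIntegral X] {F : X.Modules → A}

/-- `F(ℒ ⊗̂ 𝓜) + F(O) = F(ℒ) + F(𝓜)`, for coherent modules free of rank one in codimension `≤ 1`. -/
theorem refTensor_add (hX : Cyc.IsSetup X δ) (hF : IsAdd2 F) {L M : X.Modules} (hL : Coh.IsCoh L)
    (hM : Coh.IsCoh M) (hL1 : Inv1 L) (hM1 : Inv1 M) :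
    F (RefPow.refTensor L M) + F (Coh.structureModule X) = F L + F M := by
  have := hX.1
  have h := congrArg (lift hX hF) (TensCmp.toQ_refTensor hX rfl hL hM
    (fun x hx => hL1 x ((le_one_iff hX x).2 hx)) (fun x hx => hM1 x ((le_one_iff hX x).2 hx)))
  rwa [map_add, map_add, lift_toQ hX hF hL, lift_toQ hX hF hM, lift_toQ hX hF Ref1.isCoh_structureModule,
    lift_toQ hX hF (isCoh_refTensor hL hM)] at h

/-- Modules which agree in codimension `≤ 1`. -/
theorem eq_of_bij (hX : Cyc.IsSetup X δ) (hF : IsAdd2 F) {L M : X.Modules} (hL : Coh.IsCoh L)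
    (hM : Coh.IsCoh M) (u : L ⟶ M)
    (hu : ∀ x : X, ringKrullDim (X.presheaf.stalk x) ≤ 1 →
      Function.Bijective (StalkExact.stalkLin u x)) : F L = F M := by
  have := hX.1
  have h := congrArg (lift hX hF) (Idx.toQ_eq_of_bij (Gen.cohLe_of_isCoh hX hL rfl)
    (Gen.cohLe_of_isCoh hX hM rfl) u fun x hx => hu x ((le_one_iff hX x).2 (by omega)))
  rwa [lift_toQ hX hF hL, lift_toQ hX hF hM] at h

/-- `F(ℒ ⊗ 𝓜) + F(O) = F(ℒ) + F(𝓜)`, for coherent modules free of rank one in codimension `≤ 1`. -/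
theorem tensor_add (hX : Cyc.IsSetup X δ) (hF : IsAdd2 F) {L M : X.Modules} (hL : Coh.IsCoh L)
    (hM : Coh.IsCoh M) (hL1 : Inv1 L) (hM1 : Inv1 M) :
    F (CohB1.tensorMod L M) + F (Coh.structureModule X) = F L + F M := by
  have := hX.1
  rw [← refTensor_add hX hF hL hM hL1 hM1, eq_of_bij hX hF (Codim1.isCoh_tensor hL hM)
    (isCoh_refTensor hL hM) (RefPow.toRefTensor L M)]
  intro x hx
  obtain ⟨e⟩ := hL1.tensor hM1 x hx
  rw [← K476.HomSh1.stalkMapₗ_eq]
  exact K476.HomSh4.bijective_stalkMapₗ_bidualMap_of_free (Codim1.isCoh_tensor hL hM) x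
    (Module.Free.of_equiv e.symm)

/-- `F(ℒ^[m]) - F(O) = m (F(ℒ) - F(O))`. -/
theorem refPow_sub (hX : Cyc.IsSetup X δ) (hF : IsAdd2 F) {L : X.Modules} (hL : Coh.IsCoh L)
    (hL1 : Inv1 L) (m : ℕ) :
    F (RefPow.refPow L m) - F (Coh.structureModule X) = m • (F L - F (Coh.structureModule X)) := by
  have := hX.1
  induction m with
  | zero => rw [RefPow.refPow_zero, sub_self, zero_smul]
  | succ m ih =>
    cases m with
    | zero => rw [RefPow.refPow_one, zero_add, one_smul]
    | succ m =>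
      have h := refTensor_add hX hF (isCoh_refPow hL (m + 1)) hL (hL1.refPow hL (m + 1)) hL1
      rw [RefPow.refPow_succ_succ, succ_nsmul, ← ih, sub_eq_iff_eq_add]
      rw [← sub_eq_zero]
      rw [← sub_eq_zero] at h
      rw [← h]
      abel

/-- `F(ℒ^*) + F(ℒ) = 2 F(O)`. -/
theorem dual_add (hX : Cyc.IsSetup X δ) (hnorm : Pi1.IsNormalScheme X) (hF : IsAdd2 F) {L : X.Modules}
    (hL : Coh.IsCoh L) (hL1 : Inv1 L) :
    F (RefHull.dual L) + F L = F (Coh.structureModule X) + F (Coh.structureModule X) := by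
  have := hX.1
  have hO := Ref1.isCoh_structureModule (X := X)
  have h := congrArg (lift hX hF) (Dual1.toQ_dual hX hnorm rfl hL hO
    (fun x hx => hL1 x ((le_one_iff hX x).2 hx))
    (fun x hx => inv1_structureModule x ((le_one_iff hX x).2 hx)))
  rw [map_add, map_add, lift_toQ hX hF hL, lift_toQ hX hF hO, lift_toQ hX hF (K476.HomSh4.isCoh_dual hL),
    lift_toQ hX hF (K476.HomSh4.isCoh_dual hO)] at h
  have h2 : F (RefHull.dual (Coh.structureModule X)) = F (Coh.structureModule X) := by
    let e : RefHull.dual (Coh.structureModule X) ≅ Coh.structureModule X :=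
      K476.HomSh6.homStructIso (Coh.structureModule X)
    refine eq_of_bij hX hF (K476.HomSh4.isCoh_dual hO) hO e.hom fun x _ => ?_
    exact (stalkLinEquiv e x).bijective
  rw [h, h2]

end Integral

end K939.Abs
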