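import Groth.Agent.Htor.H255.ThetaIso
import Groth.Agent.SDiv.K476.HomSh6
import Groth.Agent.SDiv.K476.Ref1
import Groth.Agent.Ega3B.PullTensor
import Groth.Agent.RefCh.K939.Abs
import Mathlib.AlgebraicGeometry.Morphisms.UniversallyOpen

/-!
# Flat pullback and duals

For `f : X ⟶ Y` flat and `F` coherent on a locally Noetherian scheme `Y`:
* `nonempty_dual`: `f^* F^* ≅ (f^* F)^*`, `nonempty_ddual`: `f^* F^** ≅ (f^* F)^**`;
* `nonempty_tensor`: `f^*(F ⊗ G) ≅ f^* F ⊗ f^* G` for any morphism and any modules;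
* `nonempty_refTensor`, `nonempty_refPow`.
-/

set_option autoImplicit false
set_option linter.style.haveILetI false
universe u

open CategoryTheory CategoryTheory.Limits AlgebraicGeometry Opposite TopologicalSpace MonoidalCategory

namespace K939.FlatDual

open scoped Groth.Agent.Dcoh.MonCat Groth.Agent.Dcoh.MonPull
open Groth.Agent.Dcoh.MonPull Groth.Agent.Dcoh.MonClosed Groth.Agent.CohqB.HomSheaf Groth.Agent.Ega2

variable {X Y : Scheme.{u}} (f : X ⟶ Y)

/-- Pullback commutes with tensor products. -/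
noncomputable def tensorIso (M N : Y.Modules) :
    (Scheme.Modules.pullback f).obj (CohB1.tensorMod M N) ≅
      CohB1.tensorMod ((Scheme.Modules.pullback f).obj M) ((Scheme.Modules.pullback f).obj N) :=
  (Functor.Monoidal.μIso (Scheme.Modules.pullback f) M N).symm

/-- Pullback of the structure sheaf. -/
noncomputable def unitIso : (Scheme.Modules.pullback f).obj (Coh.structureModule Y) ≅ Coh.structureModule X :=
  (Groth.Agent.Ega3B.PullTensor.nonempty_pullUnitIso f).some

variable {f}

theorem nonempty_dual [Flat f] {F : Y.Modules} (hF : Coh.IsQCoh F) (hF' : CohB1.IsFP F) :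
    Nonempty ((Scheme.Modules.pullback f).obj (RefHull.dual F) ≅
      RefHull.dual ((Scheme.Modules.pullback f).obj F)) := by
  have h1 := Groth.Agent.Htor.H255.ThetaIso.isIso_theta f F (Coh.structureModule Y) hF hF'
  let e1 := (Scheme.Modules.pullback f).mapIso (K476.HomSh6.cmpIso F (Coh.structureModule Y))
  let e2 := asIso (Groth.Agent.Htor.H255.Theta.theta f F (Coh.structureModule Y))
  let e3 := (homFunctor ((Scheme.Modules.pullback f).obj F)).mapIso (unitIso f)
  exact ⟨e1 ≪≫ e2 ≪≫ e3 ≪≫ (K476.HomSh6.cmpIso _ _).symm⟩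

theorem nonempty_dual_of_isCoh [Flat f] [IsLocallyNoetherian Y] {F : Y.Modules} (hF : Coh.IsCoh F) :
    Nonempty ((Scheme.Modules.pullback f).obj (RefHull.dual F) ≅
      RefHull.dual ((Scheme.Modules.pullback f).obj F)) :=
  nonempty_dual hF.1 (K476.HomSh3.isFP_of_isCoh hF)

theorem nonempty_ddual [Flat f] [IsLocallyNoetherian Y] {F : Y.Modules} (hF : Coh.IsCoh F) :
    Nonempty ((Scheme.Modules.pullback f).obj (RefHull.ddual F) ≅
      RefHull.ddual ((Scheme.Modules.pullback f).obj F)) := by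
  obtain ⟨e1⟩ := nonempty_dual_of_isCoh (f := f) (K476.HomSh4.isCoh_dual hF)
  obtain ⟨e2⟩ := nonempty_dual_of_isCoh (f := f) hF
  exact ⟨e1 ≪≫ K476.HomSh1.dualIso e2⟩

theorem nonempty_refTensor [Flat f] [IsLocallyNoetherian Y] {F G : Y.Modules} (hF : Coh.IsCoh F)
    (hG : Coh.IsCoh G) :
    Nonempty ((Scheme.Modules.pullback f).obj (RefPow.refTensor F G) ≅
      RefPow.refTensor ((Scheme.Modules.pullback f).obj F) ((Scheme.Modules.pullback f).obj G)) := by
  obtain ⟨e1⟩ := nonempty_ddual (f := f) (K939.Codim1.isCoh_tensor hF hG)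
  exact ⟨e1 ≪≫ K476.HomSh1.ddualIso (tensorIso f F G)⟩

theorem refTensor_congr {F F' G G' : X.Modules} (e : F ≅ F') (e' : G ≅ G') :
    Nonempty (RefPow.refTensor F G ≅ RefPow.refTensor F' G') :=
  ⟨K476.HomSh1.ddualIso (Tens.mapTIso e e')⟩

theorem nonempty_refPow [Flat f] [IsLocallyNoetherian Y] {F : Y.Modules} (hF : Coh.IsCoh F) (m : ℕ) :
    Nonempty ((Scheme.Modules.pullback f).obj (RefPow.refPow F m) ≅
      RefPow.refPow ((Scheme.Modules.pullback f).obj F) m) := by
  induction m with
  | zero => exact ⟨unitIso f⟩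
  | succ m ih =>
    cases m with
    | zero => exact ⟨Iso.refl _⟩
    | succ m =>
      obtain ⟨e⟩ := ih
      obtain ⟨e1⟩ := nonempty_refTensor (f := f) (K939.Abs.isCoh_refPow hF (m + 1)) hF
      obtain ⟨e2⟩ := refTensor_congr e (Iso.refl ((Scheme.Modules.pullback f).obj F))
      exact ⟨e1 ≪≫ e2⟩

theorem isCoh_pullback (f : X ⟶ Y) {F : Y.Modules} (hF : Coh.IsCoh F) :
    Coh.IsCoh ((Scheme.Modules.pullback f).obj F) :=
  ⟨Groth.Agent.FormalA.PullbackQC.isQCoh_pullback f F hF.1,
    Groth.Agent.FormalA.PullbackQC.isFT_pullback f F hF.2⟩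

/-- Flat pullback preserves reflexive modules, to an integral scheme. -/
theorem isReflexive_pullback [Flat f] [IsLocallyNoetherian Y] [IsLocallyNoetherian X] [IsIntegral X]
    {F : Y.Modules} (hF : Coh.IsCoh F) (hr : RefHull.IsReflexive F) :
    RefHull.IsReflexive ((Scheme.Modules.pullback f).obj F) := by
  have h1 : IsIso (RefHull.bidualMap F) := hr
  obtain ⟨e⟩ := nonempty_ddual (f := f) hF
  exact K476.HomSh1.isReflexive_of_iso
    ((Scheme.Modules.pullback f).mapIso (asIso (RefHull.bidualMap F)) ≪≫ e).symm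
    (K476.Ref1.isReflexive_ddual (isCoh_pullback f hF))

/-- A flat morphism of integral schemes maps the generic point to the generic point. -/
theorem map_genericPoint [Flat f] [IsIntegral X] [IsIntegral Y] : f (genericPoint X) = genericPoint Y := by
  have hg : GeneralizingMap f := Flat.generalizingMap f
  obtain ⟨x, hx, hfx⟩ := hg (genericPoint_specializes (f (genericPoint X)))
  have h1 : x = genericPoint X := (hx.antisymm (genericPoint_specializes x)).eq
  rw [← h1, hfx]

theorem genInvertible_pullback [Flat f] [IsLocallyNoetherian Y] [IsLocallyNoetherian X] [IsIntegral X]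
    [IsIntegral Y] {F : Y.Modules} (hF : Coh.IsCoh F) (h : RefHull.GenInvertible F) :
    RefHull.GenInvertible ((Scheme.Modules.pullback f).obj F) := by
  obtain ⟨t, ht⟩ := (K476.Ref1.genInvertible_iff hF).1 h
  obtain ⟨W, hW, e, he⟩ := K476.Ref1.exists_isGenOn hF ht
  have he' : Groth.Agent.Fdesc.LocGen.IsGen e := he
  have h1 := he'.pullSec f
  have h2 : Groth.Agent.CycB.ModStalk.IsGenOn ((Scheme.Modules.pullback f).obj F) (f ⁻¹ᵁ W)
    (Groth.Agent.Fdesc.LocGen.pullSec f e) := h1
  have hW' : genericPoint X ∈ f ⁻¹ᵁ W := by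
    change f (genericPoint X) ∈ W
    rw [map_genericPoint]
    exact hW
  exact (K476.Ref1.genInvertible_iff (isCoh_pullback f hF)).2 ⟨_, h2.isGen _ hW'⟩

theorem isRef1_pullback [Flat f] [IsLocallyNoetherian Y] [IsLocallyNoetherian X] [IsIntegral X]
    [IsIntegral Y] {F : Y.Modules} (hF : RefHull.IsRef1 F) :
    RefHull.IsRef1 ((Scheme.Modules.pullback f).obj F) :=
  ⟨isCoh_pullback f hF.1, isReflexive_pullback hF.1 hF.2.1, genInvertible_pullback hF.1 hF.2.2⟩

end K939.FlatDual
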