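import Groth.Agent.CycB.OrdDet
import Mathlib.LinearAlgebra.ExteriorPower.Basis
import Mathlib.LinearAlgebra.Determinant
import Mathlib.RingTheory.OrzechProperty
import Mathlib.LinearAlgebra.Matrix.Basis

/-!
# The cokernel of `Λ^r f` for `f : R^r → R^r`
-/

set_option autoImplicit false
universe u v

open Module Groth.Agent.CycB.OrdDet

namespace K939.DetLen

variable {R : Type u} [CommRing R] {r : ℕ} {M N : Type v} [AddCommGroup M] [Module R M]
  [AddCommGroup N] [Module R N]

/-- The determinant on the top exterior power. -/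
noncomputable def topMap (b : Basis (Fin r) R M) : ⋀[R]^r M →ₗ[R] R :=
  exteriorPower.alternatingMapLinearEquiv b.det

theorem topMap_ιMulti (b : Basis (Fin r) R M) (v : Fin r → M) :
    topMap b (exteriorPower.ιMulti R r v) = b.det v :=
  exteriorPower.alternatingMapLinearEquiv_apply_ιMulti _ _

theorem topMap_bijective (b : Basis (Fin r) R M) : Function.Bijective (topMap b) := by
  rcases subsingleton_or_nontrivial R with hR | hR
  · have h1 : Subsingleton (⋀[R]^r M) := Module.subsingleton R _
    exact ⟨Function.injective_of_subsingleton _, fun y => ⟨0, Subsingleton.elim _ _⟩⟩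
  have hfr : Module.Free R M := Module.Free.of_basis b
  have hfi : Module.Finite R M := Module.Finite.of_basis b
  have h1 : Module.finrank R (⋀[R]^r M) = 1 := by
    rw [exteriorPower.finrank_eq, Module.finrank_eq_card_basis b, Fintype.card_fin, Nat.choose_self]
  let e : ⋀[R]^r M ≃ₗ[R] R := LinearEquiv.ofFinrankEq _ _ (by rw [h1, Module.finrank_self])
  have hs : Function.Surjective (topMap b) := by
    intro a
    refine ⟨a • exteriorPower.ιMulti R r b, ?_⟩
    rw [map_smul, topMap_ιMulti, Basis.det_self, smul_eq_mul, mul_one]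
  have h2 : Function.Bijective ((topMap b) ∘ₗ e.symm.toLinearMap) :=
    OrzechProperty.bijective_of_surjective_endomorphism _ (hs.comp e.symm.surjective)
  have h3 : ⇑((topMap b) ∘ₗ e.symm.toLinearMap) = topMap b ∘ e.symm := rfl
  rw [h3] at h2
  exact (Function.Bijective.of_comp_iff _ e.symm.bijective).1 h2

theorem topMap_map (b : Basis (Fin r) R M) (c : Basis (Fin r) R N) (f : M →ₗ[R] N)
    (z : ⋀[R]^r M) : topMap c (exteriorPower.map r f z) = c.det (f ∘ b) * topMap b z := by
  have h : (topMap c) ∘ₗ (exteriorPower.map r f) = c.det (f ∘ b) • topMap b := by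
    refine exteriorPower.linearMap_ext ?_
    ext v
    change topMap c (exteriorPower.map r f (exteriorPower.ιMulti R r v)) =
      c.det (f ∘ b) * topMap b (exteriorPower.ιMulti R r v)
    rw [exteriorPower.map_apply_ιMulti, topMap_ιMulti, topMap_ιMulti]
    have h1 := AlternatingMap.eq_smul_basis_det (e := b) (c.det.compLinearMap f)
    exact DFunLike.congr_fun h1 v
  exact LinearMap.congr_fun h z

theorem det_eq (b : Basis (Fin r) R M) (c : Basis (Fin r) R N) (f : M →ₗ[R] N) :
    c.det (f ∘ b) = (LinearMap.toMatrix b c f).det := by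
  rw [Basis.det_apply]
  congr 1
  ext i j
  rw [LinearMap.toMatrix_apply, Basis.toMatrix_apply]
  rfl

variable [IsDomain R]

theorem det_ne_zero (b : Basis (Fin r) R M) (c : Basis (Fin r) R N) (f : M →ₗ[R] N)
    (hf : Function.Injective f) : (LinearMap.toMatrix b c f).det ≠ 0 := by
  intro h
  obtain ⟨v, hv, h0⟩ := Matrix.exists_mulVec_eq_zero_iff.2 h
  apply hv
  have h1 := LinearMap.toMatrix_mulVec_repr b c f (b.equivFun.symm v)
  have h2 : ⇑(b.repr (b.equivFun.symm v)) = v := by
    rw [← Basis.equivFun_apply, LinearEquiv.apply_symm_apply]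
  rw [h2, h0] at h1
  have h3 : f (b.equivFun.symm v) = 0 := by
    apply c.equivFun.injective
    rw [map_zero, Basis.equivFun_apply]
    exact h1.symm
  have h4 := hf (h3.trans (map_zero f).symm)
  exact b.equivFun.symm.map_eq_zero_iff.1 h4

theorem injective_map (b : Basis (Fin r) R M) (c : Basis (Fin r) R N) (f : M →ₗ[R] N)
    (hf : Function.Injective f) : Function.Injective (exteriorPower.map r f) := by
  intro z z' h
  have h1 := congrArg (topMap c) h
  rw [topMap_map b, topMap_map b, det_eq] at h1
  exact (topMap_bijective b).1 (mul_left_cancel₀ (det_ne_zero b c f hf) h1)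

omit [IsDomain R] in
theorem coLen_eq_of_equiv {P Q P' Q' : Type*} [AddCommGroup P] [AddCommGroup Q] [AddCommGroup P']
    [AddCommGroup Q'] [Module R P] [Module R Q] [Module R P'] [Module R Q'] (f : P →ₗ[R] Q)
    (f' : P' →ₗ[R] Q') (e : P ≃ₗ[R] P') (e' : Q ≃ₗ[R] Q') (h : ∀ m, e' (f m) = f' (e m)) :
    coLen f = coLen f' := by
  refine (Submodule.Quotient.equiv _ _ e' ?_).length_eq
  ext n'
  constructor
  · rintro ⟨_, ⟨m, rfl⟩, rfl⟩
    exact ⟨e m, (h m).symm⟩
  · rintro ⟨m', rfl⟩
    refine ⟨f (e.symm m'), ⟨_, rfl⟩, ?_⟩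
    change e' (f (e.symm m')) = f' m'
    rw [h, e.apply_symm_apply]

theorem coLen_map [IsNoetherianRing R] [Ring.KrullDimLE 1 R] (b : Basis (Fin r) R M)
    (c : Basis (Fin r) R N) (f : M →ₗ[R] N) (hf : Function.Injective f) :
    coLen (exteriorPower.map r f) = coLen f := by
  have h0 := det_ne_zero b c f hf
  have h1 : coLen f = mLen (LinearMap.toMatrix b c f) :=
    coLen_eq_of_equiv f _ b.equivFun c.equivFun fun m => by
      rw [Basis.equivFun_apply, Basis.equivFun_apply, Matrix.mulVecLin_apply,
        LinearMap.toMatrix_mulVec_repr]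
  rw [h1, show mLen (LinearMap.toMatrix b c f) = _ from good _ h0]
  have h2 : coLen (exteriorPower.map r f) =
      coLen (LinearMap.mulLeft R (LinearMap.toMatrix b c f).det) :=
    coLen_eq_of_equiv _ _ (LinearEquiv.ofBijective _ (topMap_bijective b))
      (LinearEquiv.ofBijective _ (topMap_bijective c)) fun m => by
        rw [LinearEquiv.ofBijective_apply, LinearEquiv.ofBijective_apply, topMap_map b, det_eq]
        rfl
  rw [h2]
  have h3 : LinearMap.range (LinearMap.mulLeft R (LinearMap.toMatrix b c f).det) =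
      Ideal.span {(LinearMap.toMatrix b c f).det} := by
    ext a
    rw [Ideal.mem_span_singleton', LinearMap.mem_range]
    constructor
    · rintro ⟨y, hy⟩
      exact ⟨y, by rw [← hy, LinearMap.mulLeft_apply, mul_comm]⟩
    · rintro ⟨y, hy⟩
      exact ⟨y, by rw [← hy, LinearMap.mulLeft_apply, mul_comm]⟩
  unfold coLen Ring.ord
  exact (Submodule.quotEquivOfEq _ _ h3).length_eq

end K939.DetLen
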