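import Groth.Agent.Sga67.ExtSheaf
import Groth.Agent.Sga67.LocBasis
import Groth.Agent.RefCh.K939.DetLen
import Groth.Agent.Krr.H495.ExtPre
import Mathlib.CategoryTheory.Limits.Constructions.FiniteProductsOfBinaryProducts

/-!
# Free modules: the top exterior power, and induction on the rank
-/

set_option autoImplicit false
set_option linter.style.haveILetI false
universe u

open CategoryTheory CategoryTheory.Limits AlgebraicGeometry Opposite TopologicalSpace

namespace K939.FreeExt

open Groth.Agent.Sga67.Sec Groth.Agent.Sga67.ExtSheaf Groth.Agent.Sga67.LocBasis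

variable {X : Scheme.{u}}

theorem nonempty_freeMod_succ (n : ℕ) :
    Nonempty (FlatMod.freeMod X (n + 1) ≅ Coh.structureModule X ⊞ FlatMod.freeMod X n) := by
  let t₁ := coproductIsCoproduct (fun _ : Fin n => Coh.structureModule X)
  let t₂ := BinaryBiproduct.isColimit (Coh.structureModule X) (∐ fun _ : Fin n => Coh.structureModule X)
  exact ⟨(coproductIsCoproduct (fun _ : Fin (n + 1) => Coh.structureModule X)).coconePointUniqueUpToIso
    (extendCofanIsColimit (fun _ : Fin (n + 1) => Coh.structureModule X) t₁ t₂)⟩

/-- The basis of the sections of the free module. -/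
noncomputable def bs (X : Scheme.{u}) (r : ℕ) (U : X.Opens) :
    Module.Basis (Fin r) Γ(X, U) (Sec (FlatMod.freeMod X r) U) :=
  (free_isLocBasis X r).basis le_top

theorem bs_apply (r : ℕ) (U : X.Opens) (i : Fin r) :
    bs X r U i = res _ le_top (freeBasis X r i) := IsLocBasis.basis_apply _ _ _

theorem res_bs (r : ℕ) {U V : X.Opens} (h : V ≤ U) (i : Fin r) :
    res _ h (bs X r U i) = bs X r V i := by
  rw [bs_apply, bs_apply, res_res]

theorem repr_res (r : ℕ) {U V : X.Opens} (h : V ≤ U) (e : Sec (FlatMod.freeMod X r) U) (i : Fin r) :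
    (bs X r V).repr (res _ h e) i = resO X h ((bs X r U).repr e i) := by
  have h1 : res _ h e = ∑ j, resO X h ((bs X r U).repr e j) • bs X r V j := by
    conv_lhs => rw [← (bs X r U).sum_repr e]
    rw [map_sum]
    exact Finset.sum_congr rfl fun j _ => by rw [res_smul, res_bs]
  rw [h1]
  exact congrFun ((bs X r V).repr_sum_self (fun j => resO X h ((bs X r U).repr e j))) i

theorem det_res (r : ℕ) {U V : X.Opens} (h : V ≤ U) (e : Fin r → Sec (FlatMod.freeMod X r) U) :
    (bs X r V).det (fun j => res _ h (e j)) = resO X h ((bs X r U).det e) := by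
  rw [Module.Basis.det_apply, Module.Basis.det_apply, RingHom.map_det]
  congr 1
  ext i j
  rw [Module.Basis.toMatrix_apply, repr_res, RingHom.mapMatrix_apply, Matrix.map_apply,
    Module.Basis.toMatrix_apply]

/-- `O_X` is the top exterior power of the free module. -/
theorem isExtPow_freeMod (r : ℕ) :
    ExtPow.IsExtPow r (FlatMod.freeMod X r) (Coh.structureModule X) := by
  let φ : Phi r (FlatMod.freeMod X r) (Coh.structureModule X) := fun U =>
    (LinearEquiv.ofBijective (DetLen.topMap (bs X r U.1)) (DetLen.topMap_bijective _)).symm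
  have hφ : ∀ (U : X.affineOpens) (e : Fin r → Sec (FlatMod.freeMod X r) U.1),
      (φ U).symm (exteriorPower.ιMulti _ r e) = (bs X r U.1).det e := fun U e =>
    DetLen.topMap_ιMulti (bs X r U.1) e
  refine ⟨φ, fun U V h e => ?_⟩
  refine (congrArg (res (Coh.structureModule X) h) (hφ U e)).trans ?_
  refine Eq.trans ?_ (hφ V _).symm
  exact (det_res r h e).symm

end K939.FreeExt
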