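import Groth.Agent.RefCh.K939.ExtStalk
import Groth.Agent.RefCh.K939.FreeExt
import Groth.Agent.RefCh.K939.Abs
import Groth.Agent.PerfA.CohSerre

/-!
# The determinant in codimension one

* `toQ_ext`: `[H] - [F] = [Λ^r H] - [Λ^r F]` modulo `K_{n-2}` for `u : F ⟶ H` generically bijective between modules
  free of rank `r` in codimension `≤ 1`;
* `toQ_det`: `[F] - r [O] = [Λ^r F] - [O]`.
-/

set_option autoImplicit false
set_option linter.style.haveILetI false
universe u

open CategoryTheory CategoryTheory.Limits AlgebraicGeometry Opposite TopologicalSpace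

namespace K939.ExtIdx

open Groth.Agent.CycB Groth.Agent.CycB.StalkExact Groth.Agent.Sga67.Sec Groth.Agent.Sga67.ExtSheaf
  K939.Idx K939.Codim1

variable {X : Scheme.{u}} {δ : X → ℤ}

theorem stalkLin_specializes {M N : X.Modules} (u : M ⟶ N) {x ξ : X} (h : ξ ⤳ x)
    (m : M.presheaf.stalk x) :
    N.presheaf.stalkSpecializes h (stalkLin u x m) = stalkLin u ξ (M.presheaf.stalkSpecializes h m) := by
  obtain ⟨U, hU, m, rfl⟩ := M.presheaf.exists_germ_eq m
  rw [stalkLin_germ, StalkLoc.germ_stalkSpecializes, StalkLoc.germ_stalkSpecializes, stalkLin_germ]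

/-- Coherence of exterior powers. -/
theorem isCoh_of_isExtPow [IsLocallyNoetherian X] {i : ℕ} {F W : X.Modules} (hF : Coh.IsCoh F)
    (hW : ExtPow.IsExtPow i F W) : Coh.IsCoh W := by
  have hq : Coh.IsQCoh W := ExtStalk.isQCoh_of_isExtPow hF.1 hW
  obtain ⟨φ, -⟩ := exists_phi hW
  refine K476.HomSh3.isCoh_of_isFP ((Groth.Agent.Desc.FPSections.isFP_iff_sections hq).mpr (fun V hV => ?_))
  have h0 : IsNoetherianRing Γ(X, V) := IsLocallyNoetherian.component_noetherian ⟨V, hV⟩
  have h1 : Module.Finite Γ(X, V) (Sec F V) := Groth.Agent.Divis.StalkMod.finite_sections hF hV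
  have h2 : Module.Finite Γ(X, V) Γ(W, V) := Module.Finite.equiv (φ ⟨V, hV⟩).symm
  exact Module.finitePresentation_of_finite _ _

theorem bijective_map {R : Type u} [CommRing R] {M N : Type u} [AddCommGroup M] [AddCommGroup N]
    [Module R M] [Module R N] (r : ℕ) (f : M →ₗ[R] N) (hf : Function.Bijective f) :
    Function.Bijective (exteriorPower.map r f) := by
  let e := LinearEquiv.ofBijective f hf
  refine ⟨exteriorPower.map_injective e.symm.toLinearMap ?_, exteriorPower.map_surjective hf.2⟩
  ext m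
  exact e.symm_apply_apply m

section Integral

variable [IsIntegral X]

/-- Torsion-free stalks inject into the generic stalk. -/
theorem injective_specialize {F : X.Modules} (hF : Coh.IsQCoh F) {x ξ : X} (h : ξ ⤳ x)
    (htf : Module.IsTorsionFree (X.presheaf.stalk x) (F.presheaf.stalk x)) :
    Function.Injective (F.presheaf.stalkSpecializes h) := by
  rw [injective_iff_map_eq_zero]
  intro m hm
  letI := StalkLoc.specMod F h
  haveI := StalkLoc.isLocalizedModule_specLin F hF h
  obtain ⟨c, hc⟩ := (IsLocalizedModule.eq_zero_iff (RingHom.ker (Cyc.specMap x ξ h)).primeCompl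
    (StalkLoc.specLin F h) (m := m)).1 hm
  have hc0 : (c : X.presheaf.stalk x) ≠ 0 := by
    intro h0
    apply c.2
    rw [h0]
    exact zero_mem (RingHom.ker (Cyc.specMap x ξ h))
  exact (smul_eq_zero_iff_right hc0).1 hc

theorem injective_of_gen {F H : X.Modules} (hF : Coh.IsQCoh F) (u : F ⟶ H) {x ξ : X} (h : ξ ⤳ x)
    (htf : Module.IsTorsionFree (X.presheaf.stalk x) (F.presheaf.stalk x))
    (hu : Function.Injective (stalkLin u ξ)) : Function.Injective (stalkLin u x) := by
  intro m m' hm
  apply injective_specialize hF h htf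
  apply hu
  rw [← stalkLin_specializes, ← stalkLin_specializes, hm]

/-- `[H] - [F] = [Λ^r H] - [Λ^r F]` modulo `K_{n-2}`. -/
theorem toQ_ext (hX : Cyc.IsSetup X δ) (hnorm : Pi1.IsNormalScheme X) {n : ℤ}
    (hn : δ (genericPoint X) = n) {r : ℕ} {F H W K : X.Modules} (hF : Coh.IsCoh F) (hH : Coh.IsCoh H)
    (hW : ExtPow.IsExtPow r F W) (hK : ExtPow.IsExtPow r H K)
    (htfF : ∀ x, Module.IsTorsionFree (X.presheaf.stalk x) (F.presheaf.stalk x))
    (htfH : ∀ x, Module.IsTorsionFree (X.presheaf.stalk x) (H.presheaf.stalk x))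
    (hrk : Module.finrank (X.presheaf.stalk (genericPoint X)) (F.presheaf.stalk (genericPoint X)) = r)
    (u : F ⟶ H) (hu : Function.Bijective (stalkLin u (genericPoint X))) :
    Cyc.toK0CohQuot δ n (n - 1 - 1) H - Cyc.toK0CohQuot δ n (n - 1 - 1) F =
      Cyc.toK0CohQuot δ n (n - 1 - 1) K - Cyc.toK0CohQuot δ n (n - 1 - 1) W := by
  have := hX.1
  obtain ⟨φ, hφ⟩ := exists_phi hW
  obtain ⟨ψ, hψ⟩ := exists_phi hK
  obtain ⟨v, hv⟩ := exists_extMap u φ hφ ψ hψ
  have hWc := isCoh_of_isExtPow hF hW
  have hKc := isCoh_of_isExtPow hH hK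
  refine toQ_sub_eq_of_length hX (Gen.cohLe_of_isCoh hX hF hn) (Gen.cohLe_of_isCoh hX hH hn)
    (Gen.cohLe_of_isCoh hX hWc hn) (Gen.cohLe_of_isCoh hX hKc hn) u v ?_ ?_ ?_
  · intro x hx
    obtain rfl := Gen.eq_gen hX (x := x) (by omega)
    exact hu
  · intro x hx
    obtain rfl := Gen.eq_gen hX (x := x) (by omega)
    exact (show SameMap _ _ from
      ExtStalk.sameMap_ext hF.1 hH.1 hWc.1 hKc.1 φ ψ u v hv (genericPoint X)).symm.bijective
        (bijective_map r _ hu)
  · intro x hx
    obtain ⟨i1, i2⟩ := Gen.isDVR hX hnorm (x := x) (by omega)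
    have hs : SameMap (stalkLin v x) (exteriorPower.map r (stalkLin u x)) :=
      ExtStalk.sameMap_ext hF.1 hH.1 hWc.1 hKc.1 φ ψ u v hv x
    have hinj := injective_of_gen hF.1 u (genericPoint_specializes x) (htfF x) hu.1
    haveI fF := free_of_torsionFree hX hnorm (x := x) (by omega) hF (htfF x)
    haveI fH := free_of_torsionFree hX hnorm (x := x) (by omega) hH (htfH x)
    haveI gF := StalkLoc.finite_stalk F hF x
    haveI gH := StalkLoc.finite_stalk H hH x
    have rF : Module.finrank (X.presheaf.stalk x) (F.presheaf.stalk x) = r := by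
      rw [← finrank_stalk_eq hF.1 (genericPoint_specializes x), hrk]
    have rH : Module.finrank (X.presheaf.stalk x) (H.presheaf.stalk x) = r := by
      rw [← finrank_stalk_eq hH.1 (genericPoint_specializes x),
        ← (LinearEquiv.ofBijective _ hu).finrank_eq, hrk]
    let b := Module.finBasisOfFinrankEq (X.presheaf.stalk x) (F.presheaf.stalk x) rF
    let c := Module.finBasisOfFinrankEq (X.presheaf.stalk x) (H.presheaf.stalk x) rH
    haveI : Ring.KrullDimLE 1 (X.presheaf.stalk x) := inferInstance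
    have h1 := DetLen.coLen_map b c (stalkLin u x) hinj
    have h2 := DetLen.injective_map b c (stalkLin u x) hinj
    have h3 : LinearMap.ker (stalkLin u x) = ⊥ := LinearMap.ker_eq_bot.2 hinj
    have h4 : LinearMap.ker (exteriorPower.map r (stalkLin u x)) = ⊥ := LinearMap.ker_eq_bot.2 h2
    rw [hs.length_coker, hs.length_ker, h3, h4]
    unfold OrdDet.coLen at h1
    rw [h1, Module.length_bot, Module.length_bot]

end Integral

end K939.ExtIdx
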