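import Groth.Agent.Dual.H366.ExtQCoh
import Groth.Agent.Sga67.ExtSheaf
import Groth.Agent.CycB.StalkLoc
import Groth.Agent.CycB.StalkExact
import Groth.Agent.Ega1.QCohLoc

/-!
# Stalks of exterior powers

* `isQCoh_of_isExtPow`: exterior powers of quasi-coherent modules are quasi-coherent;
* `stalkEquivExt`: `(Λ^i E)_x = Λ^i E_x`, with `stalkEquivExt_germ`;
* `stalkEquivExt_natural`.
-/

set_option autoImplicit false
set_option linter.style.haveILetI false
universe u

open CategoryTheory CategoryTheory.Limits AlgebraicGeometry Opposite TopologicalSpace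

namespace K939.ExtStalk

open Groth.Agent.Sga67.Sec Groth.Agent.Fdesc Groth.Agent.Sga67.ExtSheaf Groth.Agent.Krr.H495.ExtSemi
  Groth.Agent.Krr.H495.ExtPre Groth.Agent.CycB.StalkExact Groth.Agent.Dual.H366

variable {X : Scheme.{u}} {E L F K : X.Modules} {i : ℕ}

theorem phi_res (φ : Phi i E L) (hφ : PhiComp φ) {U V : X.affineOpens} (h : V.1 ≤ U.1)
    (s : Sec L U.1) : φ V (res L h s) = eres i E h (φ U s) := by
  refine phi_induction φ U (C := fun s => φ V (res L h s) = eres i E h (φ U s)) ?_ ?_ ?_ ?_ s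
  · simp only [map_zero]
  · intro x y hx hy
    rw [map_add, map_add, hx, hy, map_add, map_add]
  · intro a x hx
    rw [res_smul, map_smul, hx, map_smul, LinearMap.map_smulₛₗ]
  · intro e
    rw [hφ U V h e, LinearEquiv.apply_symm_apply, LinearEquiv.apply_symm_apply, eres_ιMulti]

theorem isQCoh_of_isExtPow (hE : Coh.IsQCoh E) (h : ExtPow.IsExtPow i E L) : Coh.IsQCoh L := by
  obtain ⟨φ, hφ⟩ := exists_phi h
  refine Groth.Agent.Ega1.QCohLoc.isQCoh_of_isLocOnAffines _ (fun U hU g => ?_)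
  let i1 := QCohStalk.resModule E (X.basicOpen_le g)
  let i2 : Algebra Γ(X, U) Γ(X, X.basicOpen g) := (resO X (X.basicOpen_le g)).toAlgebra
  have i3 : IsScalarTower Γ(X, U) Γ(X, X.basicOpen g) Γ(E, X.basicOpen g) :=
    ⟨fun a b c => by rw [Algebra.smul_def, mul_smul]; rfl⟩
  have i4 : IsLocalization (.powers g) Γ(X, X.basicOpen g) := hU.isLocalization_basicOpen g
  have i5 := QCohStalk.isLocalizedModule_res E hU hE g
  let U' : X.affineOpens := ⟨U, hU⟩
  let V' : X.affineOpens := ⟨X.basicOpen g, hU.basicOpen g⟩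
  constructor
  · intro s
    obtain ⟨⟨_, k, rfl⟩, y, hy⟩ := ExtLoc.exists_smul_eq_extS (B := Γ(X, X.basicOpen g)) (.powers g)
      (QCohStalk.resₗ E (X.basicOpen_le g)) i (φ V' s)
    refine ⟨k, (φ U').symm y, (φ V').injective ?_⟩
    have h1 := phi_res φ hφ (U := U') (V := V') (X.basicOpen_le g) ((φ U').symm y)
    rw [LinearEquiv.apply_symm_apply] at h1
    refine h1.trans ?_
    have h2 : (algebraMap Γ(X, U) Γ(X, X.basicOpen g)) (g ^ k) = resO X (X.basicOpen_le g) g ^ k :=
      map_pow _ _ _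
    refine hy.symm.trans ?_
    exact (congrArg (· • (φ V' s)) h2).trans (map_smul (φ V') _ s).symm
  · intro t ht
    obtain ⟨⟨_, k, rfl⟩, hk⟩ := ExtLoc.exists_smul_eq_zero (B := Γ(X, X.basicOpen g)) (.powers g)
      (QCohStalk.resₗ E (X.basicOpen_le g)) i (φ U' t) (by
        have h1 := phi_res φ hφ (U := U') (V := V') (X.basicOpen_le g) t
        have h2 : res L (X.basicOpen_le g) t = 0 := ht
        rw [h2, map_zero] at h1
        exact h1.symm)
    refine ⟨k, (φ U').injective ?_⟩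
    exact (map_smul (φ U') _ t).trans (hk.trans (map_zero (φ U')).symm)

section Algebra

variable {A B : Type u} [CommRing A] [CommRing B] [Algebra A B] {M N P Q : Type u} [AddCommGroup M]
  [Module A M] [AddCommGroup N] [Module A N] [Module B N] [IsScalarTower A B N] [AddCommGroup P]
  [Module A P] [AddCommGroup Q] [Module A Q] [Module B Q] [IsScalarTower A B Q]

omit [AddCommGroup N] [Module A N] [Module B N] [IsScalarTower A B N] [AddCommGroup M] [Module A M] in
theorem exists_equiv_of_loc {T : Type u} [AddCommGroup T] [Module B T] (S : Submonoid A)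
    [IsLocalization S B] (a : P →ₗ[A] Q) [IsLocalizedModule S a] (b : P →+ T)
    (hb : ∀ (r : A) (p : P), b (r • p) = algebraMap A B r • b p)
    (hsurj : ∀ t : T, ∃ (s : S) (y : P), algebraMap A B s • t = b y)
    (hinj : ∀ x : P, b x = 0 → ∃ s : S, (s : A) • x = 0) :
    ∃ τ : Q ≃ₗ[B] T, ∀ p, τ (a p) = b p := by
  letI i1 : Module A T := Module.compHom _ (algebraMap A B)
  haveI i2 : IsScalarTower A B T := ⟨fun a b c => by
    rw [Algebra.smul_def, mul_smul]; rfl⟩
  let b' : P →ₗ[A] T :=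
    { toFun := b
      map_add' := fun x y => map_add b x y
      map_smul' := fun r x => hb r x }
  haveI i3 : IsLocalizedModule S b' := by
    refine ⟨?_, ?_, ?_⟩
    · intro s
      rw [Module.End.isUnit_iff]
      have h1 : IsUnit (algebraMap B (Module.End B T) (algebraMap A B s)) :=
        (IsLocalization.map_units B s).map _
      rw [Module.End.isUnit_iff] at h1
      exact h1
    · intro t
      obtain ⟨s, y, hy⟩ := hsurj t
      exact ⟨⟨y, s⟩, hy⟩
    · intro x y hxy
      have h0 : b (x - y) = 0 := by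
        have hxy' : b x = b y := hxy
        rw [map_sub, hxy', sub_self]
      obtain ⟨s, hs⟩ := hinj _ h0
      refine ⟨s, ?_⟩
      rw [← sub_eq_zero, ← smul_sub]
      exact hs
  refine ⟨(IsLocalizedModule.linearEquiv S a b').extendScalarsOfIsLocalization S B, fun p => ?_⟩
  exact IsLocalizedModule.linearEquiv_apply S a b' p

/-- Localization of exterior powers. -/
theorem exists_extEquiv (S : Submonoid A) [IsLocalization S B] (f : M →ₗ[A] N) [IsLocalizedModule S f]
    (a : P →ₗ[A] Q) [IsLocalizedModule S a] (i : ℕ) (φ : P ≃ₗ[A] ⋀[A]^i M) :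
    ∃ τ : Q ≃ₗ[B] ⋀[B]^i N, ∀ p, τ (a p) = extS i (ExtLoc.semi (B := B) f) (φ p) := by
  refine exists_equiv_of_loc S a
    { toFun := fun p => extS i (ExtLoc.semi (B := B) f) (φ p)
      map_add' := fun x y => by rw [map_add, map_add]
      map_zero' := by rw [map_zero, map_zero] } ?_ ?_ ?_
  · intro r p
    change extS i (ExtLoc.semi (B := B) f) (φ (r • p)) = _
    rw [map_smul, LinearMap.map_smulₛₗ]
    rfl
  · intro t
    obtain ⟨s, y, hy⟩ := ExtLoc.exists_smul_eq_extS (B := B) S f i t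
    refine ⟨s, φ.symm y, ?_⟩
    change algebraMap A B s • t = extS i (ExtLoc.semi (B := B) f) (φ (φ.symm y))
    rw [LinearEquiv.apply_symm_apply, hy]
  · intro x hx
    obtain ⟨s, hs⟩ := ExtLoc.exists_smul_eq_zero (B := B) S f i _ hx
    refine ⟨s, φ.injective ?_⟩
    rw [map_smul, hs, map_zero]

end Algebra

/-- The germ map as a semilinear map. -/
noncomputable def germS (E : X.Modules) (x : X) {U : X.Opens} (hx : x ∈ U) :
    Sec E U →ₛₗ[(X.presheaf.germ U x hx).hom] E.presheaf.stalk x where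
  toFun := E.presheaf.germ U x hx
  map_add' := map_add _
  map_smul' r s := germ_smul x hx r s

theorem exists_stalkEquiv (hE : Coh.IsQCoh E) (hL : Coh.IsQCoh L) (φ : Phi i E L) (x : X)
    (U : X.affineOpens) (hx : x ∈ U.1) :
    ∃ τ : L.presheaf.stalk x ≃ₗ[X.presheaf.stalk x] ⋀[X.presheaf.stalk x]^i (E.presheaf.stalk x),
      ∀ s : Sec L U.1, τ (L.presheaf.germ U.1 x hx s) = extS i (germS E x hx) (φ U s) := by
  letI a1 : Algebra Γ(X, U.1) (X.presheaf.stalk x) := (X.presheaf.germ U.1 x hx).hom.toAlgebra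
  letI a2 := QCohStalk.stalkModule E x hx
  letI a3 := QCohStalk.stalkModule L x hx
  haveI a4 : IsScalarTower Γ(X, U.1) (X.presheaf.stalk x) (E.presheaf.stalk x) :=
    ⟨fun a b c => by rw [Algebra.smul_def, mul_smul]; rfl⟩
  haveI a5 : IsScalarTower Γ(X, U.1) (X.presheaf.stalk x) (L.presheaf.stalk x) :=
    ⟨fun a b c => by rw [Algebra.smul_def, mul_smul]; rfl⟩
  haveI a6 := QCohStalk.isLocalizedModule_germ E U.2 hE x hx
  haveI a7 := QCohStalk.isLocalizedModule_germ L U.2 hL x hx
  haveI a8 : IsLocalization.AtPrime (X.presheaf.stalk x) (U.2.primeIdealOf ⟨x, hx⟩).asIdeal :=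
    U.2.isLocalization_stalk ⟨x, hx⟩
  obtain ⟨τ, hτ⟩ := exists_extEquiv (B := X.presheaf.stalk x)
    (U.2.primeIdealOf ⟨x, hx⟩).asIdeal.primeCompl (QCohStalk.germₗ E x hx) (QCohStalk.germₗ L x hx) i (φ U)
  exact ⟨τ, fun s => hτ s⟩

theorem extS_map {A B : Type u} [CommRing A] [CommRing B] {M M' N N' : Type u} [AddCommGroup M]
    [Module A M] [AddCommGroup M'] [Module A M'] [AddCommGroup N] [Module B N] [AddCommGroup N']
    [Module B N'] {ρ : A →+* B} (g : M →ₛₗ[ρ] N) (g' : M' →ₛₗ[ρ] N') (f : M →ₗ[A] M')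
    (f' : N →ₗ[B] N') (h : ∀ m, g' (f m) = f' (g m)) (z : ⋀[A]^i M) :
    extS i g' (exteriorPower.map i f z) = exteriorPower.map i f' (extS i g z) := by
  have hz : z ∈ Submodule.span A (Set.range (exteriorPower.ιMulti A i (M := M))) := by
    rw [exteriorPower.ιMulti_span]; trivial
  induction hz using Submodule.span_induction with
  | mem x hx =>
    obtain ⟨v, rfl⟩ := hx
    rw [exteriorPower.map_apply_ιMulti, extS_ιMulti, extS_ιMulti, exteriorPower.map_apply_ιMulti]
    congr 1
    funext j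
    exact h (v j)
  | zero => simp only [map_zero]
  | add x y _ _ hx hy => simp only [map_add, hx, hy]
  | smul a x _ hx => rw [map_smul, LinearMap.map_smulₛₗ, LinearMap.map_smulₛₗ, map_smul, hx]

/-- The stalk of `Λ^i f` is `Λ^i` of the stalk. -/
theorem sameMap_ext (hE : Coh.IsQCoh E) (hF : Coh.IsQCoh F) (hL : Coh.IsQCoh L) (hK : Coh.IsQCoh K)
    (φ : Phi i E L) (ψ : Phi i F K) (f : E ⟶ F) (g : L ⟶ K)
    (hg : ∀ (U : X.affineOpens) (s : Sec L U.1),
      ψ U (appS g U.1 s) = exteriorPower.map i (appS f U.1) (φ U s)) (x : X) :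
    ∃ (e : L.presheaf.stalk x ≃ₗ[X.presheaf.stalk x] ⋀[X.presheaf.stalk x]^i (E.presheaf.stalk x))
      (e' : K.presheaf.stalk x ≃ₗ[X.presheaf.stalk x] ⋀[X.presheaf.stalk x]^i (F.presheaf.stalk x)),
      ∀ t, e' (stalkLin g x t) = exteriorPower.map i (stalkLin f x) (e t) := by
  obtain ⟨_, ⟨U, hU, rfl⟩, hx, -⟩ := X.isBasis_affineOpens.exists_subset_of_mem_open
    (Set.mem_univ x) isOpen_univ
  obtain ⟨e, he⟩ := exists_stalkEquiv hE hL φ x ⟨U, hU⟩ hx
  obtain ⟨e', he'⟩ := exists_stalkEquiv hF hK ψ x ⟨U, hU⟩ hx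
  refine ⟨e, e', fun t => ?_⟩
  obtain ⟨a, s, ha, hs⟩ := QCohStalk.exists_germ_eq_smul L hU hL x hx t
  have hu : IsUnit (X.presheaf.germ U x hx a) := (X.mem_basicOpen a x hx).mp ha
  have h1 : e' (stalkLin g x (L.presheaf.germ U x hx s)) =
      exteriorPower.map i (stalkLin f x) (e (L.presheaf.germ U x hx s)) := by
    have h2 : stalkLin g x (L.presheaf.germ U x hx s) = K.presheaf.germ U x hx (appS g U s) :=
      stalkLin_germ g x hx s
    rw [h2, he' (appS g U s), he s, hg ⟨U, hU⟩ s]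
    exact extS_map (germS E x hx) (germS F x hx) (appS f U) (stalkLin f x)
      (fun m => (stalkLin_germ f x hx m).symm) (φ ⟨U, hU⟩ s)
  rw [hs, map_smul, map_smul, map_smul, map_smul] at h1
  exact (hu.smul_left_cancel).1 h1

end K939.ExtStalk
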