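import Groth.Agent.S0034
import Groth.Agent.RefCh.K939.FlatDual
import Groth.Agent.CurvesA.HHMap
import Groth.Prelude.Def_CurvBase
import Groth.Prelude.Def_FGA

/-!
# Base change of intersection numbers along field extensions

* `eulerCharLE_pullback`, `intNum_pullback`: for `X' = X ×_k k'` and any field extension `k'/k`;
* `intNum_congr`: invariance under isomorphisms of the modules.
-/

set_option autoImplicit false
set_option linter.style.haveILetI false
universe u

open CategoryTheory CategoryTheory.Limits AlgebraicGeometry Opposite TopologicalSpace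

namespace K939.IntNumBC

open Groth.Agent Groth.Agent.Ega2

theorem eulerCharLE_pullback (k : Type u) [Field k] (X : Scheme.{u}) [X.Over (Spec (CommRingCat.of k))]
    [CompactSpace X] [QuasiSeparatedSpace X]
    (k' : Type u) [Field k'] (X' : Scheme.{u}) [X'.Over (Spec (CommRingCat.of k'))]
    (g : X' ⟶ X) (s : Spec (CommRingCat.of k') ⟶ Spec (CommRingCat.of k))
    (hpb : IsPullback g (X' ↘ Spec (CommRingCat.of k')) (X ↘ Spec (CommRingCat.of k)) s)
    (F : X.Modules) (hF : Coh.IsQCoh F) (d : ℕ) :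
    FGA.eulerCharLE k' X' ((Scheme.Modules.pullback g).obj F) d = FGA.eulerCharLE k X F d := by
  obtain ⟨φ, rfl⟩ : ∃ φ, s = Spec.map φ := ⟨_, (Spec.map_preimage s).symm⟩
  let _ : Algebra k k' := φ.hom.toAlgebra
  unfold FGA.eulerCharLE
  refine Finset.sum_congr rfl fun i _ => ?_
  obtain ⟨e⟩ := Groth.Agent.S0034.result k k' X X' g hpb F i
  rw [← e.finrank_eq, Module.finrank_baseChange]

theorem eulerCharLE_congr (k : Type u) [Field k] (X : Scheme.{u}) [X.Over (Spec (CommRingCat.of k))]
    {M N : X.Modules} (e : M ≅ N) (d : ℕ) :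
    FGA.eulerCharLE k X M d = FGA.eulerCharLE k X N d := by
  unfold FGA.eulerCharLE
  refine Finset.sum_congr rfl fun i _ => ?_
  rw [(CurvesA.HHMap.equivOver k e i).finrank_eq]

/-- Congruence for `tensorList`. -/
theorem nonempty_tensorList_congr {X : Scheme.{u}} {ι : Type*} (l : List ι) {M N : ι → X.Modules}
    (h : ∀ i, Nonempty (M i ≅ N i)) : Nonempty (FGA.tensorList (l.map M) ≅ FGA.tensorList (l.map N)) := by
  induction l with
  | nil => exact ⟨Iso.refl _⟩
  | cons i l ih =>
    obtain ⟨e⟩ := ih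
    obtain ⟨e'⟩ := h i
    exact ⟨Tens.mapTIso e' e⟩

theorem intNum_congr (k : Type u) [Field k] (X : Scheme.{u}) [X.Over (Spec (CommRingCat.of k))]
    {r : ℕ} {M N : Fin r → X.Modules} (h : ∀ i, Nonempty (M i ≅ N i)) {F G : X.Modules} (e : F ≅ G)
    (d : ℕ) : FGA.intNum k X d M F = FGA.intNum k X d N G := by
  unfold FGA.intNum
  refine Finset.sum_congr rfl fun I _ => ?_
  obtain ⟨e'⟩ := nonempty_tensorList_congr (I.sort (· ≤ ·)) h
  rw [eulerCharLE_congr k X (Tens.mapTIso e' e)]

theorem nonempty_pull_tensorList {X Y : Scheme.{u}} (g : X ⟶ Y) {ι : Type*} (l : List ι)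
    (M : ι → Y.Modules) :
    Nonempty ((Scheme.Modules.pullback g).obj (FGA.tensorList (l.map M)) ≅
      FGA.tensorList (l.map fun i => (Scheme.Modules.pullback g).obj (M i))) := by
  induction l with
  | nil => exact ⟨FlatDual.unitIso g⟩
  | cons i l ih =>
    obtain ⟨e⟩ := ih
    exact ⟨FlatDual.tensorIso g _ _ ≪≫ Tens.mapTIso (Iso.refl _) e⟩

theorem isQCoh_tensorList {X : Scheme.{u}} {ι : Type*} (l : List ι) {M : ι → X.Modules}
    (hM : ∀ i, Coh.IsQCoh (M i)) : Coh.IsQCoh (FGA.tensorList (l.map M)) := by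
  induction l with
  | nil => exact Groth.Agent.Fdesc.StructMod.isQCoh_structureModule X
  | cons i l ih =>
    have := hM i
    have := ih
    exact (Groth.Agent.S2297.result (M i) (FGA.tensorList (l.map M))).1

/-- **Base change of intersection numbers.** -/
theorem intNum_pullback (k : Type u) [Field k] (X : Scheme.{u}) [X.Over (Spec (CommRingCat.of k))]
    [CompactSpace X] [QuasiSeparatedSpace X]
    (k' : Type u) [Field k'] (X' : Scheme.{u}) [X'.Over (Spec (CommRingCat.of k'))]
    (g : X' ⟶ X) (s : Spec (CommRingCat.of k') ⟶ Spec (CommRingCat.of k))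
    (hpb : IsPullback g (X' ↘ Spec (CommRingCat.of k')) (X ↘ Spec (CommRingCat.of k)) s)
    (d : ℕ) {r : ℕ} (M : Fin r → X.Modules) (hM : ∀ i, Coh.IsQCoh (M i)) (F : X.Modules)
    (hF : Coh.IsQCoh F) :
    FGA.intNum k' X' d (fun i => (Scheme.Modules.pullback g).obj (M i))
        ((Scheme.Modules.pullback g).obj F) =
      FGA.intNum k X d M F := by
  unfold FGA.intNum
  refine Finset.sum_congr rfl fun I _ => ?_
  obtain ⟨e⟩ := nonempty_pull_tensorList g (I.sort (· ≤ ·)) M
  have := isQCoh_tensorList (I.sort (· ≤ ·)) hM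
  have := hF
  rw [← eulerCharLE_pullback k X k' X' g s hpb (CohB1.tensorMod (FGA.tensorList ((I.sort (· ≤ ·)).map M)) F)
      (Groth.Agent.S2297.result _ _).1 d,
    eulerCharLE_congr k' X' (FlatDual.tensorIso g _ _ ≪≫ Tens.mapTIso e (Iso.refl _))]

/-- The same for `Curv2.bc`. -/
theorem intNum_bc (k : Type u) [Field k] (X : Scheme.{u}) [X.Over (Spec (CommRingCat.of k))]
    [CompactSpace X] [QuasiSeparatedSpace X] (K : Type u) [Field K] [Algebra k K]
    (d : ℕ) {r : ℕ} (M : Fin r → X.Modules) (hM : ∀ i, Coh.IsQCoh (M i)) (F : X.Modules)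
    (hF : Coh.IsQCoh F) :
    letI : (Curv2.bc k X K).Over (Spec (CommRingCat.of K)) := ⟨Curv2.bcSnd k X K⟩
    FGA.intNum K (Curv2.bc k X K) d (fun i => (Scheme.Modules.pullback (Curv2.bcFst k X K)).obj (M i))
        ((Scheme.Modules.pullback (Curv2.bcFst k X K)).obj F) =
      FGA.intNum k X d M F := by
  letI : (Curv2.bc k X K).Over (Spec (CommRingCat.of K)) := ⟨Curv2.bcSnd k X K⟩
  exact intNum_pullback k X K (Curv2.bc k X K) (Curv2.bcFst k X K) _ (IsPullback.of_hasPullback _ _) d M hM
    F hF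

end K939.IntNumBC
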