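import Groth.Agent.Fga.RegSec
import Groth.Agent.Fga.PicMon
import Groth.Agent.Ega1.ClosedKill
import Groth.Agent.Pi1C.ZeroScheme
import Groth.Agent.Sga7.H543.CutSec
import Groth.Agent.VarietyB.ProjForm
import Groth.Agent.RefCh.K939.FlatDual

/-!
# The cokernel of the multiplication by a section and the restriction to its zero scheme

`ι : Z ⟶ Y` a closed immersion whose ideal is that of the zero scheme of a section `s` of the invertible module `N`:
`P ⊗ coker (s : F ⟶ N ⊗ F) ≅ ι_* ι^* F` if `P ⊗ N ≅ O`.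
-/

set_option autoImplicit false
set_option linter.unusedSectionVars false
universe u

open CategoryTheory CategoryTheory.Limits AlgebraicGeometry Opposite TopologicalSpace

namespace K939.GenHypCut

open Groth.Agent Groth.Agent.Fdesc.LocGen Groth.Agent.Pi1C.ZeroScheme Groth.Agent.Fga.RegSec Groth.Agent.Ega2
open Groth.Agent.Ega1.ClosedKill (Kills kills_pushforward)
open Groth.Agent.Dix.TwistClosed490 (section_eq_zero_of_local)

variable {Y Z : Scheme.{u}} {N : Y.Modules} (hN : PicF.IsInvertible N) (s : Coh.structureModule Y ⟶ N)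

/-- local coordinates of the section on a small affine open -/
theorem exists_local_coord (hN : PicF.IsInvertible N) (U : Y.Opens) (x : Y) (hx : x ∈ U) :
    ∃ (V : Y.affineOpens) (_ : V.1 ≤ U) (_ : x ∈ V.1) (e : Γ(N, V.1)) (c : Γ(Y, V.1)), IsGen e ∧
      sec s V.1 = c • e ∧ (PicF2.zeroScheme N s).ideal V = Ideal.span {c} := by
  obtain ⟨V, hV, hxV, hVU, e, he⟩ := exists_affine_isGen hN U x hx
  obtain ⟨c, hc⟩ := he.exists_eq (sec s V)
  exact ⟨⟨V, hV⟩, hVU, hxV, e, c, he, hc, ideal_eq_span s hN ⟨V, hV⟩ he hc⟩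

theorem eq_zero_of_local (P : Y.Modules) (U : Y.Opens) (t : Γ(P, U))
    (h : ∀ x ∈ U, ∃ (V : Y.Opens) (hV : V ≤ U), x ∈ V ∧ res P hV t = 0) : t = 0 := by
  choose V hV hxV ht using h
  refine Fdesc.LocGen.res_ext P (ι := {x : Y // x ∈ U}) (fun x => V x.1 x.2) (fun x => hV x.1 x.2)
    (fun x hx => Opens.mem_iSup.mpr ⟨⟨x, hx⟩, hxV x hx⟩) fun x => ?_
  rw [ht, map_zero]

include hN

theorem mulS_comp_eq_zero (F : Y.Modules) {P : Y.Modules} (hP : Kills (PicF2.zeroScheme N s) P)
    (η : CohB1.tensorMod N F ⟶ P) : mulS s F ≫ η = 0 := by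
  apply Scheme.Modules.hom_ext
  intro U
  ext m
  change η.app U ((mulS s F).app U m) = 0
  refine eq_zero_of_local P U _ fun x hx => ?_
  obtain ⟨V, hVU, hxV, e, c, he, hc, hid⟩ := exists_local_coord s hN U x hx
  refine ⟨V.1, hVU, hxV, ?_⟩
  rw [← app_res, ← app_res, mulS_app, hc, smul_tmul, Scheme.Modules.Hom.app_smul]
  exact hP V c (by rw [hid]; exact Ideal.mem_span_singleton_self c) _

theorem kill_aux (F : Y.Modules) (V : Y.Opens) {e : Γ(N, V)} {c : Γ(Y, V)} (he : IsGen e)
    (hc : sec s V = c • e) (b : Γ(Y, V)) (t : Γ(CohB1.tensorMod N F, V)) :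
    (cokernel.π (mulS s F)).app V ((b * c) • t) = 0 := by
  obtain ⟨m, hm⟩ := (tmul_left_bijective F he (le_refl V)).2 t
  simp only [res_refl] at hm
  rw [← hm, mul_smul, ← smul_tmul, ← hc, ← tmul_smul, ← mulS_app]
  exact congr(Scheme.Modules.Hom.app $(cokernel.condition (mulS s F)) V (b • m))

theorem kills_cokernel (F : Y.Modules) : Kills (PicF2.zeroScheme N s) (cokernel (mulS s F)) := by
  intro U a ha t
  refine eq_zero_of_local _ U.1 _ fun x hx => ?_
  obtain ⟨W, hWU, t', hxW, ht⟩ := Groth.Agent.Dcoh.Restrict.exists_local_preimage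
    (cokernel.π (mulS s F)) U.1 t x hx
  have ht' : (cokernel.π (mulS s F)).app W t' = res _ hWU t := ht
  obtain ⟨V, hVW, hxV, e, c, he, hc, hid⟩ := exists_local_coord s hN W x hxW
  refine ⟨V.1, hVW.trans hWU, hxV, ?_⟩
  have h1 : ores (hVW.trans hWU) a ∈ (PicF2.zeroScheme N s).ideal V :=
    (PicF2.zeroScheme N s).ideal_le_comap_ideal (U := V) (V := U) (hVW.trans hWU) ha
  rw [hid, Ideal.mem_span_singleton'] at h1
  obtain ⟨b, hb⟩ := h1
  have h2 : res (cokernel (mulS s F)) (hVW.trans hWU) t = (cokernel.π (mulS s F)).app V.1 (res _ hVW t') := by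
    rw [app_res, ht', res_res]
  rw [res_smul, ← hb, h2, ← Scheme.Modules.Hom.app_smul]
  exact kill_aux hN s F V.1 he hc b _

section Closed

variable (ι : Z ⟶ Y) [IsClosedImmersion ι] (hι : ι.ker = PicF2.zeroScheme N s)

include hι

theorem pullback_mulS (F : Y.Modules) : (Scheme.Modules.pullback ι).map (mulS s F) = 0 := by
  apply ((Scheme.Modules.pullbackPushforwardAdjunction ι).homEquiv _ _).injective
  have h1 := (Scheme.Modules.pullbackPushforwardAdjunction ι).homEquiv_naturality_left (mulS s F)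
    (𝟙 ((Scheme.Modules.pullback ι).obj (CohB1.tensorMod N F)))
  rw [Category.comp_id] at h1
  rw [h1, mulS_comp_eq_zero hN s F (hι ▸ kills_pushforward ι _)]
  rw [Adjunction.homEquiv_unit, Functor.map_zero, comp_zero]

theorem isIso_pullback_π (F : Y.Modules) :
    IsIso ((Scheme.Modules.pullback ι).map (cokernel.π (mulS s F))) := by
  have : PreservesColimitsOfSize.{0, 0} (Scheme.Modules.pullback ι) :=
    (Scheme.Modules.pullbackPushforwardAdjunction ι).leftAdjoint_preservesColimits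
  have h0 := pullback_mulS hN s ι hι F
  have h1 : IsIso (cokernel.π ((Scheme.Modules.pullback ι).map (mulS s F))) :=
    Sga7.H543.CutSec.isIso_cokernelπ_of_eq_zero h0
  have h2 : (Scheme.Modules.pullback ι).map (cokernel.π (mulS s F)) =
      cokernel.π ((Scheme.Modules.pullback ι).map (mulS s F)) ≫
        (PreservesCokernel.iso (Scheme.Modules.pullback ι) (mulS s F)).inv := by
    rw [Iso.eq_comp_inv]
    exact PreservesCokernel.π_iso_hom _ _
  rw [h2]
  infer_instance

theorem isIso_unit_cokernel (F : Y.Modules) :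
    IsIso ((Scheme.Modules.pullbackPushforwardAdjunction ι).unit.app (cokernel (mulS s F))) :=
  Groth.Agent.Ega1.ClosedKill.Kills.isIso_unit ι (hι ▸ kills_cokernel hN s F)

/-- `P ⊗ coker (s : F ⟶ N ⊗ F) ≅ ι_* ι^* F`. -/
theorem nonempty_iso (F : Y.Modules) {P : Y.Modules} (hP : PicF.IsInvertible P)
    (hPN : Nonempty (CohB1.tensorMod P N ≅ Coh.structureModule Y)) :
    Nonempty (CohB1.tensorMod P (cokernel (mulS s F)) ≅
      (Coh.push ι).obj ((Scheme.Modules.pullback ι).obj F)) := by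
  obtain ⟨θ⟩ := hPN
  have h1 := isIso_unit_cokernel hN s ι hι F
  have h2 := isIso_pullback_π hN s ι hι F
  let e1 : cokernel (mulS s F) ≅ (Scheme.Modules.pushforward ι).obj
      ((Scheme.Modules.pullback ι).obj (cokernel (mulS s F))) :=
    @asIso _ _ _ _ ((Scheme.Modules.pullbackPushforwardAdjunction ι).unit.app (cokernel (mulS s F))) h1
  let e2 : (Scheme.Modules.pullback ι).obj (CohB1.tensorMod N F) ≅
      (Scheme.Modules.pullback ι).obj (cokernel (mulS s F)) := @asIso _ _ _ _ _ h2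
  have e3 := VarietyB.ProjForm.projIso ι
    (VarietyB.TensCoh.HasBases.of_isFinLocFreeOfRank (Ega2.QCohLocal.isFinLocFreeOfRank_one_iff.mpr hP))
    ((Scheme.Modules.pullback ι).obj (cokernel (mulS s F)))
  -- the module on `Z`
  let e4 : CohB1.tensorMod ((Scheme.Modules.pullback ι).obj P) ((Scheme.Modules.pullback ι).obj (cokernel (mulS s F)))
      ≅ (Scheme.Modules.pullback ι).obj F :=
    Tens.mapTIso (Iso.refl _) e2.symm ≪≫ (FlatDual.tensorIso ι P (CohB1.tensorMod N F)).symm ≪≫
      (Scheme.Modules.pullback ι).mapIso ((Tens.assoc P N F).symm ≪≫ Tens.mapTIso θ (Iso.refl F) ≪≫ Tens.lunit F)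
  exact ⟨Tens.mapTIso (Iso.refl P) e1 ≪≫ e3 ≪≫ (Coh.push ι).mapIso e4⟩

end Closed

end K939.GenHypCut
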