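import Groth.Agent.RefCh.K939.GenHyp
import Groth.Agent.Ega2.VeryAmpleAmple
import Groth.Prelude.Def_Twist2

/-!
# Very ample modules are generated by sections with affine loci of generation
-/

set_option autoImplicit false
universe u

open CategoryTheory CategoryTheory.Limits AlgebraicGeometry Opposite TopologicalSpace

namespace K939.GenHypVA

open Groth.Agent Groth.Agent.Fdesc.LocGen GenHyp Groth.Agent.Ega2.VeryAmpleAmple

theorem genAff_twistProjSpace (n : ℕ) (R : Type u) [CommRing R] : GenAff (Twist.twistProjSpace n R 1) := by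
  refine ⟨Fin (n + 1), inferInstance, fun i => globalSec (Xv (R := R) i), fun i => ?_, fun x => ?_⟩
  · have h : CohB1.genLocus (Twist.twistProjSpace n R 1) (globalSec (Xv (R := R) i)) =
        Proj.basicOpen (CohB1.polyGrading n R) (Xv (R := R) i).1 := genLocus_globalSec coveredByOne_poly _
    rw [h]
    exact Proj.isAffineOpen_basicOpen (CohB1.polyGrading n R) (Xv (R := R) i).1 (m := 1) (Xv (R := R) i).2 one_pos
  · obtain ⟨i, hi⟩ := exists_notMem_X x
    refine ⟨i, ?_⟩
    have h : CohB1.genLocus (Twist.twistProjSpace n R 1) (globalSec (Xv (R := R) i)) =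
        Proj.basicOpen (CohB1.polyGrading n R) (Xv (R := R) i).1 := genLocus_globalSec coveredByOne_poly _
    rw [h]
    exact hi

theorem genAff_of_veryAmple {X : Scheme.{u}} (n : ℕ) (R : Type u) [CommRing R] (φ : X ⟶ CohB1.ProjSpace n R)
    [IsAffineHom φ] {L : X.Modules} (e : L ≅ (Scheme.Modules.pullback φ).obj (Twist.twistProjSpace n R 1)) :
    GenAff L :=
  ((genAff_twistProjSpace n R).pullback φ (isInvertible_twistProjSpace (n := n) (R := R) 1)).of_iso e.symm

end K939.GenHypVA
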