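import Groth.Agent.RefCh.K939.DetCl
import Groth.Prelude.Def_TorSh

/-!
# Additive functions killing codimension two, on torsion-free modules and their determinants
-/

set_option autoImplicit false
set_option linter.style.haveILetI false
universe w u v

open CategoryTheory CategoryTheory.Limits AlgebraicGeometry TopologicalSpace

namespace K939.Abs2

open Groth.Agent.CycB K939.Abs

variable {X : Scheme.{u}} {δ : X → ℤ} {A : Type v} [AddCommGroup A] [IsIntegral X] {F : X.Modules → A}

/-- `F(L^**) = F(L)` for `L` free of rank one in codimension `≤ 1`. -/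
theorem ddual_eq (hX : Cyc.IsSetup X δ) (hF : IsAdd2 F) {L : X.Modules} (hL : Coh.IsCoh L)
    (hL1 : Inv1 L) : F (RefHull.ddual L) = F L := by
  have := hX.1
  symm
  refine eq_of_bij hX hF hL (K476.HomSh4.isCoh_ddual hL) (RefHull.bidualMap L) fun x hx => ?_
  obtain ⟨e⟩ := hL1 x hx
  rw [← K476.HomSh1.stalkMapₗ_eq]
  exact K476.HomSh4.bijective_stalkMapₗ_bidualMap_of_free hL x (Module.Free.of_equiv e.symm)

/-- `F(E) - r F(O) = F(Λ^r E) - F(O)`. -/
theorem det_sub (hX : Cyc.IsSetup X δ) (hnorm : Pi1.IsNormalScheme X) (hF : IsAdd2 F) {r : ℕ}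
    {E W : X.Modules} (hE : Coh.IsCoh E) (hW : ExtPow.IsExtPow r E W) (htf : TorSh.IsTorsionFree E)
    (hrk : Module.finrank (X.presheaf.stalk (genericPoint X)) (E.presheaf.stalk (genericPoint X)) = r) :
    F E - (r : ℤ) • F (Coh.structureModule X) = F W - F (Coh.structureModule X) := by
  have := hX.1
  have h := congrArg (lift hX hF) (DetCl.toQ_det hX hnorm rfl hE hW htf hrk)
  rwa [map_sub, map_sub, map_zsmul, lift_toQ hX hF hE, lift_toQ hX hF Ref1.isCoh_structureModule,
    lift_toQ hX hF (ExtIdx.isCoh_of_isExtPow hE hW)] at h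

/-- `F(E) - r F(O) = F((Λ^r E)^**) - F(O)`. -/
theorem detdd_sub (hX : Cyc.IsSetup X δ) (hnorm : Pi1.IsNormalScheme X) (hF : IsAdd2 F) {r : ℕ}
    {E W : X.Modules} (hE : Coh.IsCoh E) (hW : ExtPow.IsExtPow r E W) (htf : TorSh.IsTorsionFree E)
    (hrk : Module.finrank (X.presheaf.stalk (genericPoint X)) (E.presheaf.stalk (genericPoint X)) = r) :
    F E - (r : ℤ) • F (Coh.structureModule X) = F (RefHull.ddual W) - F (Coh.structureModule X) := by
  have := hX.1
  rw [ddual_eq hX hF (ExtIdx.isCoh_of_isExtPow hE hW) (DetCl.inv1_det hX hnorm hE hW htf hrk)]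
  exact det_sub hX hnorm hF hE hW htf hrk

end K939.Abs2
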