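import Groth.Agent.RefCh.K939.GenHyp

/-!
# Iterated generic hyperplane sections

`exists_iter`: `X` integral, normal and proper over `k` of dimension `s + n`, `L i` (`i < s`) invertible with inverses
`P i` and generated by sections with affine loci of generation: there are a field extension `K/k`, `Z` integral, normal and
proper over `K` of dimension `n` and `j : Z ⟶ X` flat and affine, compatible with the structure morphisms, with
`intNum k X (P, N) F = intNum K Z (j^* N) (j^* F)` for `F` coherent, `N i` invertible.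
-/

set_option autoImplicit false
set_option linter.style.haveILetI false
set_option linter.unusedSectionVars false
universe u

open CategoryTheory CategoryTheory.Limits AlgebraicGeometry Opposite TopologicalSpace

namespace K939.GenHypIter

open Groth.Agent Groth.Agent.Fdesc.LocGen GenHyp

theorem intNum_cast (k : Type u) [Field k] (X : Scheme.{u}) [X.Over (Spec (CommRingCat.of k))] (d : ℕ) {r r' : ℕ}
    (h : r' = r) (M : Fin r → X.Modules) (F : X.Modules) :
    FGA.intNum k X d (M ∘ Fin.cast h) F = FGA.intNum k X d M F := by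
  subst h
  rfl

/-- The conclusion of the iteration. -/
def Iter (s n : ℕ) (k : Type u) [Field k] (X : Scheme.{u}) [X.Over (Spec (CommRingCat.of k))]
    (P : Fin s → X.Modules) : Prop :=
  ∃ (K : Type u) (_ : Field K) (_ : Algebra k K) (Z : Scheme.{u}) (_ : Z.Over (Spec (CommRingCat.of K)))
    (j : Z ⟶ X), IsIntegral Z ∧ Pi1.IsNormalScheme Z ∧ IsProper (Z ↘ Spec (CommRingCat.of K)) ∧
    topologicalKrullDim Z = n ∧ Flat j ∧ IsAffineHom j ∧
    j ≫ (X ↘ Spec (CommRingCat.of k)) =
      (Z ↘ Spec (CommRingCat.of K)) ≫ Spec.map (CommRingCat.ofHom (algebraMap k K)) ∧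
    ∀ {r : ℕ} (N : Fin r → X.Modules), (∀ i, PicF.IsInvertible (N i)) → ∀ (F : X.Modules), Coh.IsCoh F →
      ∀ (d e : ℕ), s + n ≤ d → n ≤ e →
      FGA.intNum k X d (Fin.append P N : Fin (s + r) → X.Modules) F =
        FGA.intNum K Z e (fun i => (Scheme.Modules.pullback j).obj (N i)) ((Scheme.Modules.pullback j).obj F)

theorem exists_iter_zero (n : ℕ) (k : Type u) [Field k] (X : Scheme.{u}) [X.Over (Spec (CommRingCat.of k))]
    [IsProper (X ↘ Spec (CommRingCat.of k))] [IsIntegral X] (hnorm : Pi1.IsNormalScheme X)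
    (hdim : topologicalKrullDim X = (n : ℕ)) (P : Fin 0 → X.Modules) : Iter 0 n k X P := by
  refine ⟨k, inferInstance, inferInstance, X, inferInstance, 𝟙 X, inferInstance, hnorm, inferInstance, hdim,
    inferInstance, inferInstance, ?_, ?_⟩
  · rw [Category.id_comp]
    have : CommRingCat.ofHom (algebraMap k k) = 𝟙 (CommRingCat.of k) := rfl
    rw [this, Spec.map_id, Category.comp_id]
  · intro r N hN F hF d e hd he
    have nX : IsLocallyNoetherian X := LocallyOfFiniteType.isLocallyNoetherian (X ↘ Spec (CommRingCat.of k))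
    have cX : CompactSpace X := (quasiCompact_iff_compactSpace (X ↘ Spec (CommRingCat.of k))).mp inferInstance
    have : IsNoetherian X := {}
    rw [Fin.append_left_nil P N rfl, intNum_cast,
      IntNumBC.intNum_congr k X (N := N) (fun i => ⟨(Scheme.Modules.pullbackId X).app (N i)⟩)
        ((Scheme.Modules.pullbackId X).app F) e]
    -- independence of the truncation
    have hc : ∀ d' : ℕ, n ≤ d' → FGA.intNum k X d' N F = FGA.intNum k X n N F := by
      intro d' hd'
      unfold FGA.intNum
      refine Finset.sum_congr rfl fun I _ => ?_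
      rw [Groth.Agent.Fga.EulerLEAdd.eulerCharLE_eq_euler k X d' (by rw [hdim]; exact_mod_cast hd'),
        Groth.Agent.Fga.EulerLEAdd.eulerCharLE_eq_euler k X n hdim.le]
    rw [hc d (by omega)]
    exact (hc e he).symm

/-- **Iterated generic hyperplane sections.** -/
theorem exists_iter (s : ℕ) : ∀ (n : ℕ) (k : Type u) [Field k] (X : Scheme.{u}) [X.Over (Spec (CommRingCat.of k))]
    [IsProper (X ↘ Spec (CommRingCat.of k))] [IsIntegral X] (_ : Pi1.IsNormalScheme X)
    (_ : topologicalKrullDim X = (s + n : ℕ)) (L P : Fin s → X.Modules) (_ : ∀ i, PicF.IsInvertible (L i))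
    (_ : ∀ i, PicF.IsInvertible (P i))
    (_ : ∀ i, Nonempty (CohB1.tensorMod (P i) (L i) ≅ Coh.structureModule X)) (_ : ∀ i, GenAff (L i)),
    Iter s n k X P := by
  induction s with
  | zero =>
    intro n k _ X _ _ _ hnorm hdim L P _ _ _ _
    exact exists_iter_zero n k X hnorm (by rw [hdim, Nat.zero_add]) P
  | succ s ih =>
    intro n k _ X _ _ _ hnorm hdim L P hL hP hPL hgen
    obtain ⟨K₁, _, _, Z₁, _, j₁, h1, h2, h3, h4, h5, h6, h7, h8⟩ :=
      exists_hyp k X hnorm (s + n) (by rw [hdim]; congr 1; ring) (hL 0) (hP 0) (hPL 0) (hgen 0)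
    obtain ⟨K, _, _, Z, _, j, i1, i2, i3, i4, i5, i6, i7, i8⟩ := ih n K₁ Z₁ h2 h4
      (fun i => (Scheme.Modules.pullback j₁).obj (L i.succ)) (fun i => (Scheme.Modules.pullback j₁).obj (P i.succ))
      (fun i => isInvertible_pullback j₁ (hL i.succ)) (fun i => isInvertible_pullback j₁ (hP i.succ))
      (fun i => by
        obtain ⟨θ⟩ := hPL i.succ
        exact ⟨(FlatDual.tensorIso j₁ (P i.succ) (L i.succ)).symm ≪≫ (Scheme.Modules.pullback j₁).mapIso θ ≪≫
          FlatDual.unitIso j₁⟩)
      (fun i => (hgen i.succ).pullback j₁ (hL i.succ))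
    letI : Algebra k K := ((algebraMap K₁ K).comp (algebraMap k K₁)).toAlgebra
    refine ⟨K, inferInstance, inferInstance, Z, inferInstance, j ≫ j₁, i1, i2, i3, i4, inferInstance, inferInstance,
      ?_, ?_⟩
    · have h9 : CommRingCat.ofHom (algebraMap k K) =
          CommRingCat.ofHom (algebraMap k K₁) ≫ CommRingCat.ofHom (algebraMap K₁ K) := rfl
      rw [Category.assoc, h7, ← Category.assoc, i7, Category.assoc, h9, Spec.map_comp]
    · intro r N hN F hF d e hd he
      have hP' : P = Fin.cons (P 0) (fun i => P i.succ) := (Fin.cons_self_tail P).symm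
      have hF1 : Coh.IsCoh ((Scheme.Modules.pullback j₁).obj F) := FlatDual.isCoh_pullback j₁ hF
      have hN1 : ∀ i, PicF.IsInvertible ((Scheme.Modules.pullback j₁).obj (N i)) := fun i =>
        isInvertible_pullback j₁ (hN i)
      have hap : (fun i => (Scheme.Modules.pullback j₁).obj ((Fin.append (fun i : Fin s => P i.succ) N :
          Fin (s + r) → X.Modules) i)) =
          Fin.append (fun i : Fin s => (Scheme.Modules.pullback j₁).obj (P i.succ))
            (fun i => (Scheme.Modules.pullback j₁).obj (N i)) := by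
        funext i
        induction i using Fin.addCases with
        | left i => rw [Fin.append_left, Fin.append_left]
        | right i => rw [Fin.append_right, Fin.append_right]
      rw [hP', Fin.append_cons, intNum_cast,
        h8 (Fin.append (fun i : Fin s => P i.succ) N : Fin (s + r) → X.Modules) (by
          intro i
          induction i using Fin.addCases with
          | left i => rw [Fin.append_left]; exact hP i.succ
          | right i => rw [Fin.append_right]; exact hN i) F hF d (s + n) (by omega) le_rfl, hap,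
        i8 (fun i => (Scheme.Modules.pullback j₁).obj (N i)) hN1 _ hF1 (s + n) e le_rfl he]
      exact IntNumBC.intNum_congr K Z (fun i => ⟨(Scheme.Modules.pullbackComp j j₁).app (N i)⟩)
        ((Scheme.Modules.pullbackComp j j₁).app F) e

/-- The version without further invertible modules. -/
theorem exists_surface (s n : ℕ) (k : Type u) [Field k] (X : Scheme.{u}) [X.Over (Spec (CommRingCat.of k))]
    [IsProper (X ↘ Spec (CommRingCat.of k))] [IsIntegral X] (hnorm : Pi1.IsNormalScheme X)
    (hdim : topologicalKrullDim X = (s + n : ℕ)) (L P : Fin s → X.Modules) (hL : ∀ i, PicF.IsInvertible (L i))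
    (hP : ∀ i, PicF.IsInvertible (P i))
    (hPL : ∀ i, Nonempty (CohB1.tensorMod (P i) (L i) ≅ Coh.structureModule X)) (hgen : ∀ i, GenAff (L i)) :
    ∃ (K : Type u) (_ : Field K) (_ : Algebra k K) (Z : Scheme.{u}) (_ : Z.Over (Spec (CommRingCat.of K)))
      (j : Z ⟶ X), IsIntegral Z ∧ Pi1.IsNormalScheme Z ∧ IsProper (Z ↘ Spec (CommRingCat.of K)) ∧
      topologicalKrullDim Z = n ∧ Flat j ∧ IsAffineHom j ∧
      j ≫ (X ↘ Spec (CommRingCat.of k)) =
        (Z ↘ Spec (CommRingCat.of K)) ≫ Spec.map (CommRingCat.ofHom (algebraMap k K)) ∧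
      (∀ (F : X.Modules), Coh.IsCoh F → ∀ (d e : ℕ), s + n ≤ d → n ≤ e →
        FGA.intNum k X d P F = FGA.eulerCharLE K Z ((Scheme.Modules.pullback j).obj F) e) ∧
      ∀ {r : ℕ} (N : Fin r → X.Modules), (∀ i, PicF.IsInvertible (N i)) → ∀ (F : X.Modules), Coh.IsCoh F →
      ∀ (d e : ℕ), s + n ≤ d → n ≤ e →
      FGA.intNum k X d (Fin.append P N : Fin (s + r) → X.Modules) F =
        FGA.intNum K Z e (fun i => (Scheme.Modules.pullback j).obj (N i)) ((Scheme.Modules.pullback j).obj F) := by
  obtain ⟨K, _, _, Z, _, j, h1, h2, h3, h4, h5, h6, h7, h8⟩ := exists_iter s n k X hnorm hdim L P hL hP hPL hgen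
  refine ⟨K, inferInstance, inferInstance, Z, inferInstance, j, h1, h2, h3, h4, h5, h6, h7, ?_, h8⟩
  intro F hF d e hd he
  have h9 := h8 (r := 0) (fun i => i.elim0) (fun i => i.elim0) F hF d e hd he
  rw [Fin.append_right_nil P _ rfl, intNum_cast, Groth.Agent.Fga.PicMon.intNum_zero] at h9
  exact h9

end K939.GenHypIter
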