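import Groth.Agent.RefCh.K939.Op
import Groth.Agent.S2122
import Groth.Agent.Fdesc.LocGenTensor

/-!
# Mixed differences of classes of coherent modules

* `phi F : MC X → K`, `c ↦ [c ⊗ F]`;
* `S hM : K →+ K`, `S hM [F] = dSum (phi F) (mc ∘ M)`;
* `S_mem`: `S` maps `K_m` into `K_{m-r}`;
* `sum_eq_dSum`: the alternating sums of the statements.
-/

set_option autoImplicit false
set_option linter.style.haveILetI false
universe w u

open CategoryTheory CategoryTheory.Limits AlgebraicGeometry TopologicalSpace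

namespace K939.Op2

open Groth.Agent.CycB Groth.Agent.CycB.StalkExact Groth.Agent.CycB.RatK0 Groth.Agent.Sga67.K0Basic
  Groth.Agent.Fga Groth.Agent.Fga.PicMon Groth.Agent.Ega2 K939.Op

variable {X : Scheme.{u}} {δ : X → ℤ} {n : ℤ}

theorem isInvertible_of_tensor {L M : X.Modules} (e : CohB1.tensorMod L M ≅ Coh.structureModule X) :
    PicF.IsInvertible M :=
  Groth.Agent.S2122.result M L (Tens.swap M L ≪≫ e)

theorem isInvertible_tensorList (l : List X.Modules) (h : ∀ L ∈ l, PicF.IsInvertible L) :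
    PicF.IsInvertible (FGA.tensorList l) := by
  induction l with
  | nil => exact Groth.Agent.Fdesc.LocGen.isInvertible_structureModule
  | cons L l ih =>
    exact Groth.Agent.Fdesc.LocGen.isInvertible_tensorMod (h L (by simp))
      (ih fun L' hL' => h L' (by simp [hL']))

variable [IsLocallyNoetherian X]

/-- `c ↦ [c ⊗ F]`. -/
noncomputable def phi (δ : X → ℤ) (n : ℤ) (F : X.Modules) : MC X → KZero.K0sub (Cyc.CohLe δ n) :=
  Quot.lift (fun L => KZero.clSub (Cyc.CohLe δ n) (CohB1.tensorMod L F))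
    (fun _ _ ⟨e⟩ => cl_iso (Tens.mapTIso e (Iso.refl F)))

theorem phi_mc (F L : X.Modules) :
    phi δ n F (mc L) = KZero.clSub (Cyc.CohLe δ n) (CohB1.tensorMod L F) := rfl

theorem phi_one (F : X.Modules) : phi δ n F 1 = KZero.clSub (Cyc.CohLe δ n) F := by
  rw [← mc_one, phi_mc]
  exact cl_iso (Tens.lunit F)

theorem phi_tensor (F A : X.Modules) (c : MC X) :
    phi δ n (CohB1.tensorMod A F) c = phi δ n F (mc A * c) := by
  induction c using MC.ind with | h L => ?_
  rw [← mc_tensor, phi_mc, phi_mc]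
  refine cl_iso ?_
  exact (Tens.assoc L A F).symm ≪≫ Tens.mapTIso (Tens.swap L A) (Iso.refl F)

/-- The alternating sum of the statements as a mixed difference. -/
theorem sum_eq_dSum {r : ℕ} (M : Fin r → X.Modules) (F : X.Modules) :
    ∑ I : Finset (Fin r), (-1 : ℤ) ^ I.card •
      KZero.clSub (Cyc.CohLe δ n) (CohB1.tensorMod (FGA.tensorList ((I.sort (· ≤ ·)).map M)) F) =
      dSum (phi δ n F) (fun i => mc (M i)) := by
  unfold dSum
  refine Finset.sum_congr rfl fun I _ => ?_
  rw [← mc_tensorList_sort, phi_mc]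

theorem dSum_phi_cons {r : ℕ} (A : X.Modules) (M : Fin r → X.Modules) (F : X.Modules) :
    dSum (phi δ n F) (fun i => mc ((Fin.cons A M : Fin (r + 1) → X.Modules) i)) =
      dSum (phi δ n F) (fun i => mc (M i)) -
        dSum (phi δ n (CohB1.tensorMod A F)) (fun i => mc (M i)) := by
  rw [mc_cons, dSum_cons]
  congr 1
  unfold dSum
  exact Finset.sum_congr rfl fun I _ => by rw [phi_tensor]

theorem dSum_phi_shortExact {r : ℕ} {M : Fin r → X.Modules} (hM : ∀ i, PicF.IsInvertible (M i))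
    (T : ShortComplex X.Modules) (hT : T.ShortExact) (h₁ : Cyc.CohLe δ n T.X₁) (h₂ : Cyc.CohLe δ n T.X₂)
    (h₃ : Cyc.CohLe δ n T.X₃) :
    dSum (phi δ n T.X₂) (fun i => mc (M i)) =
      dSum (phi δ n T.X₁) (fun i => mc (M i)) + dSum (phi δ n T.X₃) (fun i => mc (M i)) := by
  unfold dSum
  rw [← Finset.sum_add_distrib]
  refine Finset.sum_congr rfl fun I _ => ?_
  rw [← smul_add, ← mc_tensorList_sort, phi_mc, phi_mc, phi_mc]
  congr 1
  have hI : PicF.IsInvertible (FGA.tensorList ((I.sort (· ≤ ·)).map M)) := by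
    refine isInvertible_tensorList _ fun L hL => ?_
    obtain ⟨i, -, rfl⟩ := List.mem_map.1 hL
    exact hM i
  exact clSub_of_shortExact _ (TwistCoh.shortExact_tensorBi hI T hT) (cohLe_tensor hI h₁)
    (cohLe_tensor hI h₂) (cohLe_tensor hI h₃)

/-- The mixed difference as an endomorphism of `K_0`. -/
noncomputable def S (δ : X → ℤ) (n : ℤ) {r : ℕ} {M : Fin r → X.Modules}
    (hM : ∀ i, PicF.IsInvertible (M i)) :
    KZero.K0sub (Cyc.CohLe δ n) →+ KZero.K0sub (Cyc.CohLe δ n) :=
  liftSub (Cyc.CohLe δ n) (fun F => dSum (phi δ n F) (fun i => mc (M i)))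
    (dSum_phi_shortExact hM)

theorem S_cl {r : ℕ} {M : Fin r → X.Modules} (hM : ∀ i, PicF.IsInvertible (M i)) {F : X.Modules}
    (hF : Cyc.CohLe δ n F) :
    S δ n hM (KZero.clSub (Cyc.CohLe δ n) F) = dSum (phi δ n F) (fun i => mc (M i)) :=
  liftSub_clSub _ _ hF

theorem S_zero {M : Fin 0 → X.Modules} (hM : ∀ i, PicF.IsInvertible (M i))
    (c : KZero.K0sub (Cyc.CohLe δ n)) : S δ n hM c = c := by
  have : S δ n hM = AddMonoidHom.id _ := by
    refine hom_ext_sub fun F hF => ?_
    rw [S_cl hM hF, dSum_zero, phi_one]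
    rfl
  rw [this]
  rfl

theorem S_succ {r : ℕ} {M : Fin (r + 1) → X.Modules} (hM : ∀ i, PicF.IsInvertible (M i))
    (c : KZero.K0sub (Cyc.CohLe δ n)) :
    S δ n hM c = S δ n (M := fun i => M i.succ) (fun i => hM i.succ) (c - T δ n (hM 0) c) := by
  have : S δ n hM = (S δ n (M := fun i => M i.succ) (fun i => hM i.succ)).comp
      (AddMonoidHom.id _ - T δ n (hM 0)) := by
    refine hom_ext_sub fun F hF => ?_
    rw [S_cl hM hF, AddMonoidHom.comp_apply, AddMonoidHom.sub_apply, AddMonoidHom.id_apply, map_sub,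
      T_cl (hM 0) hF, S_cl _ hF, S_cl _ (cohLe_tensor (hM 0) hF), ← dSum_phi_cons]
    congr 1
    funext i
    congr 1
    exact congrFun (Fin.cons_self_tail M).symm i
  rw [this]
  rfl

/-- An `r`-fold mixed difference lowers the dimension of the support by `r`. -/
theorem S_mem (hX : Cyc.IsSetup X δ) {r : ℕ} {M : Fin r → X.Modules} (hM : ∀ i, PicF.IsInvertible (M i))
    {m m' : ℤ} (hm : m ≤ n) (hm' : m' = m - r) {c : KZero.K0sub (Cyc.CohLe δ n)} (hc : c ∈ Km δ n m) :
    S δ n hM c ∈ Km δ n m' := by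
  subst hm'
  induction r generalizing m c with
  | zero =>
    rw [S_zero]
    exact Km_mono (by simp) hc
  | succ r ih =>
    rw [S_succ]
    have h1 := sub_T_mem hX hm (hM 0) hc
    have h2 := ih (M := fun i => M i.succ) (fun i => hM i.succ) (m := m - 1) (by omega) h1
    exact Km_mono (by push_cast; omega) h2

/-- The statements' alternating sum of differences. -/
theorem sum_sub_eq {r : ℕ} {M : Fin r → X.Modules} (hM : ∀ i, PicF.IsInvertible (M i)) {F G : X.Modules}
    (hF : Cyc.CohLe δ n F) (hG : Cyc.CohLe δ n G) :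
    ∑ I : Finset (Fin r), (-1 : ℤ) ^ I.card •
      (KZero.clSub (Cyc.CohLe δ n) (CohB1.tensorMod (FGA.tensorList ((I.sort (· ≤ ·)).map M)) F) -
        KZero.clSub (Cyc.CohLe δ n) (CohB1.tensorMod (FGA.tensorList ((I.sort (· ≤ ·)).map M)) G)) =
      S δ n hM (KZero.clSub (Cyc.CohLe δ n) F - KZero.clSub (Cyc.CohLe δ n) G) := by
  rw [map_sub, S_cl hM hF, S_cl hM hG, ← sum_eq_dSum, ← sum_eq_dSum, ← Finset.sum_sub_distrib]
  exact Finset.sum_congr rfl fun I _ => smul_sub _ _ _

end K939.Op2
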