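import Groth.Agent.RefCh.K939.FlatDual
import Groth.Prelude.Def_Frob

/-!
# Flat pullback of reflexive Frobenius pullbacks
-/

set_option autoImplicit false
set_option linter.style.haveILetI false
universe u

open CategoryTheory CategoryTheory.Limits AlgebraicGeometry Opposite TopologicalSpace

namespace K939.FrobBC

open K939.FlatDual

variable {X Y : Scheme.{u}} {f : X ⟶ Y}

theorem nonempty_pullback_frob (f : X ⟶ Y) (p : ℕ) [Fact p.Prime] [FrobSch.IsCharP X p]
    [FrobSch.IsCharP Y p] (F : Y.Modules) :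
    Nonempty ((Scheme.Modules.pullback f).obj ((Scheme.Modules.pullback (FrobSch.frob Y p)).obj F) ≅
      (Scheme.Modules.pullback (FrobSch.frob X p)).obj ((Scheme.Modules.pullback f).obj F)) := by
  have h := FrobSch.frob_comp (X := X) (Y := Y) p f
  exact ⟨(Scheme.Modules.pullbackComp f (FrobSch.frob Y p)).app F ≪≫
    (Scheme.Modules.pullbackCongr h.symm).app F ≪≫
    ((Scheme.Modules.pullbackComp (FrobSch.frob X p) f).app F).symm⟩

/-- Reflexive Frobenius pullbacks commute with flat pullback. -/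
theorem nonempty_frobSeq [Flat f] [IsLocallyNoetherian Y] (p : ℕ) [Fact p.Prime]
    [FrobSch.IsCharP X p] [FrobSch.IsCharP Y p] {G : ℕ → Y.Modules} {G' : ℕ → X.Modules}
    (hGc : Coh.IsCoh (G 0))
    (hG : ∀ m, Nonempty (G (m + 1) ≅ RefHull.ddual ((Scheme.Modules.pullback (FrobSch.frob Y p)).obj (G m))))
    (hG'0 : Nonempty (G' 0 ≅ (Scheme.Modules.pullback f).obj (G 0)))
    (hG' : ∀ m, Nonempty (G' (m + 1) ≅ RefHull.ddual ((Scheme.Modules.pullback (FrobSch.frob X p)).obj (G' m))))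
    (m : ℕ) : Coh.IsCoh (G m) ∧ Nonempty (G' m ≅ (Scheme.Modules.pullback f).obj (G m)) := by
  induction m with
  | zero => exact ⟨hGc, hG'0⟩
  | succ m ih =>
    obtain ⟨ih1, ⟨e⟩⟩ := ih
    obtain ⟨a⟩ := hG m
    obtain ⟨b⟩ := hG' m
    have h1 : Coh.IsCoh ((Scheme.Modules.pullback (FrobSch.frob Y p)).obj (G m)) := isCoh_pullback _ ih1
    obtain ⟨c⟩ := nonempty_ddual (f := f) h1
    obtain ⟨d⟩ := nonempty_pullback_frob f p (G m)
    refine ⟨(Groth.Agent.CycB.CohProp.coh Y).prop_of_iso a.symm (K476.HomSh4.isCoh_ddual h1), ⟨b ≪≫ ?_⟩⟩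
    exact K476.HomSh1.ddualIso ((Scheme.Modules.pullback (FrobSch.frob X p)).mapIso e ≪≫ d.symm) ≪≫
      c.symm ≪≫ (Scheme.Modules.pullback f).mapIso a.symm

end K939.FrobBC
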