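import Groth.Agent.RefCh.K939.Ref1
import Groth.Agent.SDiv.K476.HomSh4
import Groth.Agent.Fdesc.AssFlat
import Groth.Agent.S2297
import Mathlib.RingTheory.LocalProperties.Projective

/-!
# Stalks at the points of codimension at most one of a normal scheme

* `finrank_stalk_eq`: a free stalk has the generic rank;
* `free_of_torsionFree`, `nonempty_equiv_of_ref1`;
* `toQ_ddual`: `[F] = [F^**]` modulo `K_{n-2}` for `F` coherent with free stalks in codimension `≤ 1`.
-/

set_option autoImplicit false
set_option linter.style.haveILetI false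
universe w u

open CategoryTheory CategoryTheory.Limits AlgebraicGeometry TopologicalSpace TensorProduct

namespace K939.Codim1

open Groth.Agent.CycB Groth.Agent.CycB.ModStalk Groth.Agent.CycB.StalkExact

variable {X : Scheme.{u}} {δ : X → ℤ}

/-- A free stalk has the generic rank. -/
theorem finrank_stalk_eq {F : X.Modules} (hF : Coh.IsQCoh F) {x ξ : X} (h : ξ ⤳ x)
    [Module.Free (X.presheaf.stalk x) (F.presheaf.stalk x)] :
    Module.finrank (X.presheaf.stalk ξ) (F.presheaf.stalk ξ) =
      Module.finrank (X.presheaf.stalk x) (F.presheaf.stalk x) := by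
  letI := StalkLoc.specAlg h
  letI := StalkLoc.specMod F h
  haveI := StalkLoc.isScalarTower F h
  haveI := StalkLoc.isLocalizedModule_specLin F hF h
  haveI := LocQuot.isLocalization_stalkSpecializes h
  exact Module.finrank_of_isLocalizedModule_of_free (X.presheaf.stalk ξ)
    (RingHom.ker (Cyc.specMap x ξ h)).primeCompl (StalkLoc.specLin F h)

section Integral

variable [IsIntegral X]

theorem free_gen (F : X.Modules) : Module.Free (X.presheaf.stalk (genericPoint X))
    (F.presheaf.stalk (genericPoint X)) :=
  Module.Free.of_divisionRing (X.functionField) (F.presheaf.stalk (genericPoint X))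

/-- Coherent modules with torsion-free stalk at a codimension one point. -/
theorem free_of_torsionFree (hX : Cyc.IsSetup X δ) (hnorm : Pi1.IsNormalScheme X) {x : X}
    (hx : δ x = δ (genericPoint X) - 1) {F : X.Modules} (hF : Coh.IsCoh F)
    (htf : Module.IsTorsionFree (X.presheaf.stalk x) (F.presheaf.stalk x)) :
    Module.Free (X.presheaf.stalk x) (F.presheaf.stalk x) := by
  obtain ⟨h1, h2⟩ := Gen.isDVR hX hnorm hx
  haveI := StalkLoc.finite_stalk F hF x
  infer_instance

theorem nonempty_equiv_of_rank_one (hX : Cyc.IsSetup X δ) (hnorm : Pi1.IsNormalScheme X) {x : X}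
    (hx : δ (genericPoint X) - 1 ≤ δ x) {F : X.Modules} (hF : Coh.IsCoh F)
    (htf : Module.IsTorsionFree (X.presheaf.stalk x) (F.presheaf.stalk x))
    (hrk : Module.finrank (X.presheaf.stalk (genericPoint X)) (F.presheaf.stalk (genericPoint X)) = 1) :
    Nonempty (F.presheaf.stalk x ≃ₗ[X.presheaf.stalk x] X.presheaf.stalk x) := by
  haveI := StalkLoc.finite_stalk F hF x
  rcases lt_or_eq_of_le hx with hx | hx
  · obtain rfl := Gen.eq_gen hX hx
    haveI := free_gen (X := X) F
    exact ⟨LinearEquiv.ofFinrankEq _ _ (by rw [hrk, Module.finrank_self])⟩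
  · haveI := free_of_torsionFree hX hnorm hx.symm hF htf
    refine ⟨LinearEquiv.ofFinrankEq _ _ ?_⟩
    rw [← finrank_stalk_eq hF.1 (genericPoint_specializes x), hrk, Module.finrank_self]

theorem isTorsionFree_of_isReflexive {F : X.Modules} (hF : Coh.IsCoh F) (hr : RefHull.IsReflexive F)
    [IsLocallyNoetherian X] (x : X) :
    Module.IsTorsionFree (X.presheaf.stalk x) (F.presheaf.stalk x) := by
  have h1 : Module.IsReflexive (X.presheaf.stalk x) (F.presheaf.stalk x) :=
    (K476.HomSh4.isReflexive_iff_isReflexiveAt hF).1 hr x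
  infer_instance

theorem finrank_of_genInvertible {F : X.Modules} (h : RefHull.GenInvertible F) :
    Module.finrank (X.presheaf.stalk (genericPoint X)) (F.presheaf.stalk (genericPoint X)) = 1 := by
  obtain ⟨t, ht⟩ := Ref1.exists_gen h
  rw [← (Ref1.genEquiv ht).finrank_eq, Module.finrank_self]

/-- Rank one reflexive modules are locally free in codimension `≤ 1`. -/
theorem nonempty_equiv_of_ref1 (hX : Cyc.IsSetup X δ) (hnorm : Pi1.IsNormalScheme X) {x : X}
    (hx : δ (genericPoint X) - 1 ≤ δ x) {F : X.Modules} (hF : RefHull.IsRef1 F) :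
    Nonempty (F.presheaf.stalk x ≃ₗ[X.presheaf.stalk x] X.presheaf.stalk x) := by
  have := hX.1
  exact nonempty_equiv_of_rank_one hX hnorm hx hF.1 (isTorsionFree_of_isReflexive hF.1 hF.2.1 x)
    (finrank_of_genInvertible hF.2.2)

end Integral

theorem isCoh_tensor {M N : X.Modules} (hM : Coh.IsCoh M) (hN : Coh.IsCoh N) :
    Coh.IsCoh (CohB1.tensorMod M N) := by
  have := hM.1
  have := hN.1
  exact ⟨(Groth.Agent.S2297.result M N).1, (Groth.Agent.S2297.result M N).2 hM.2 hN.2⟩

end K939.Codim1
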