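import Groth.Agent.RefCh.K939.ExtIdx
import Groth.Agent.Dcoh.StalkFF
import Groth.Agent.Dcoh.StalkMod

/-!
# `[F] - r [O] = [det F] - [O]` modulo `K_{n-2}`
-/

set_option autoImplicit false
set_option linter.style.haveILetI false
universe u

open CategoryTheory CategoryTheory.Limits AlgebraicGeometry Opposite TopologicalSpace

namespace K939.DetCl

open Groth.Agent.CycB Groth.Agent.CycB.StalkExact K939.Idx K939.Codim1

variable {X : Scheme.{u}} {δ : X → ℤ}

theorem toQ_iso [IsLocallyNoetherian X] {n m : ℤ} {F G : X.Modules} (e : F ≅ G) :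
    Cyc.toK0CohQuot δ n m F = Cyc.toK0CohQuot δ n m G := by
  rw [Op.toQ_eq_iff, Op.cl_iso e, sub_self]
  exact AddSubgroup.zero_mem _

theorem isCoh_freeMod [IsLocallyNoetherian X] (r : ℕ) : Coh.IsCoh (FlatMod.freeMod X r) :=
  Groth.Agent.PerfA.CohSerre.isCoh_freeMod r

theorem subsingleton_freeMod_zero (x : X) :
    Subsingleton ((FlatMod.freeMod X 0).presheaf.stalk x) :=
  Groth.Agent.Dcoh.StalkMod.subsingleton_of_isZero Groth.Agent.Dcoh.ResFree.freeMod_zero_isZero x

variable [IsIntegral X]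

theorem toQ_freeMod (hX : Cyc.IsSetup X δ) {n m : ℤ} (hn : δ (genericPoint X) = n) (r : ℕ) :
    Cyc.toK0CohQuot δ n m (FlatMod.freeMod X r) =
      (r : ℤ) • Cyc.toK0CohQuot δ n m (Coh.structureModule X) := by
  have := hX.1
  induction r with
  | zero =>
    rw [Nat.cast_zero, zero_zsmul]
    exact RatK0.toK0CohQuot_eq_zero ⟨isCoh_freeMod 0, fun x hx =>
      absurd hx (not_nontrivial_iff_subsingleton.2 (subsingleton_freeMod_zero x))⟩
  | succ r ih =>
    obtain ⟨e⟩ := FreeExt.nonempty_freeMod_succ (X := X) r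
    rw [toQ_iso e, K0Main.toQ_biprod _ (Gen.cohLe_of_isCoh hX Ref1.isCoh_structureModule hn)
      (Gen.cohLe_of_isCoh hX (isCoh_freeMod r) hn), ih, Nat.cast_succ, add_zsmul, one_zsmul, add_comm]

theorem length_freeMod (r : ℕ) :
    Module.length (X.presheaf.stalk (genericPoint X))
      ((FlatMod.freeMod X r).presheaf.stalk (genericPoint X)) = r := by
  induction r with
  | zero =>
    rw [Nat.cast_zero, Module.length_eq_zero_iff]
    exact subsingleton_freeMod_zero _
  | succ r ih =>
    obtain ⟨e⟩ := FreeExt.nonempty_freeMod_succ (X := X) r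
    obtain ⟨t, ht⟩ := Ref1.exists_gen_structureModule (genericPoint X)
    rw [(stalkLinEquiv e (genericPoint X)).length_eq, length_biprod_stalk, ih,
      ← (Ref1.genEquiv ht).length_eq]
    haveI : IsSimpleModule (X.presheaf.stalk (genericPoint X)) (X.presheaf.stalk (genericPoint X)) :=
      inferInstanceAs (IsSimpleModule X.functionField X.functionField)
    rw [Module.length_eq_one, Nat.cast_succ, add_comm]

omit [IsIntegral X] in
theorem free_freeMod (r : ℕ) (x : X) :
    Module.Free (X.presheaf.stalk x) ((FlatMod.freeMod X r).presheaf.stalk x) :=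
  (Groth.Agent.Dcoh.StalkFF.FF_freeMod r x).1

theorem finrank_freeMod (r : ℕ) :
    Module.finrank (X.presheaf.stalk (genericPoint X))
      ((FlatMod.freeMod X r).presheaf.stalk (genericPoint X)) = r := by
  haveI := (Groth.Agent.Dcoh.StalkFF.FF_freeMod (X := X) r (genericPoint X)).1
  haveI := (Groth.Agent.Dcoh.StalkFF.FF_freeMod (X := X) r (genericPoint X)).2
  haveI : IsSimpleModule (X.presheaf.stalk (genericPoint X)) (X.presheaf.stalk (genericPoint X)) :=
    inferInstanceAs (IsSimpleModule X.functionField X.functionField)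
  have h := length_freeMod (X := X) r
  rw [Module.length_of_free_of_finite, Module.length_eq_one, mul_one] at h
  exact_mod_cast h

/-- `[F] - r [O] = [Λ^r F] - [O]` modulo `K_{n-2}`. -/
theorem toQ_det (hX : Cyc.IsSetup X δ) (hnorm : Pi1.IsNormalScheme X) {n : ℤ}
    (hn : δ (genericPoint X) = n) {r : ℕ} {F W : X.Modules} (hF : Coh.IsCoh F)
    (hW : ExtPow.IsExtPow r F W)
    (htf : ∀ x, Module.IsTorsionFree (X.presheaf.stalk x) (F.presheaf.stalk x))
    (hrk : Module.finrank (X.presheaf.stalk (genericPoint X)) (F.presheaf.stalk (genericPoint X)) = r) :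
    Cyc.toK0CohQuot δ n (n - 1 - 1) F -
        (r : ℤ) • Cyc.toK0CohQuot δ n (n - 1 - 1) (Coh.structureModule X) =
      Cyc.toK0CohQuot δ n (n - 1 - 1) W - Cyc.toK0CohQuot δ n (n - 1 - 1) (Coh.structureModule X) := by
  have := hX.1
  haveI := free_gen (X := X) F
  haveI := free_freeMod (X := X) r (genericPoint X)
  haveI := StalkLoc.finite_stalk F hF (genericPoint X)
  haveI := StalkLoc.finite_stalk _ (isCoh_freeMod (X := X) r) (genericPoint X)
  let θ : F.presheaf.stalk (genericPoint X) ≃ₗ[X.presheaf.stalk (genericPoint X)]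
      (FlatMod.freeMod X r).presheaf.stalk (genericPoint X) :=
    LinearEquiv.ofFinrankEq _ _ (by rw [hrk, finrank_freeMod])
  obtain ⟨H, u, v, hH, hu, hv, -, htfH⟩ := Dual1.exists_cospan_tf hF (isCoh_freeMod r) θ
  obtain ⟨K, hK⟩ := Groth.Agent.Dual.H366.ExtQCoh.exists_isExtPow r hH.1
  have h1 := ExtIdx.toQ_ext hX hnorm hn hF hH hW hK htf htfH hrk u hu
  have h2 := ExtIdx.toQ_ext hX hnorm hn (isCoh_freeMod r) hH (FreeExt.isExtPow_freeMod r) hK
    (fun x => by haveI := free_freeMod (X := X) r x; infer_instance) htfH (finrank_freeMod r) v hv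
  rw [toQ_freeMod hX hn] at h2
  have h3 := congrArg₂ (· - ·) h2 h1
  simp only [sub_sub_sub_cancel_left] at h3
  exact h3

/-- The stalks of the determinant are free of rank one in codimension `≤ 1`. -/
theorem inv1_det (hX : Cyc.IsSetup X δ) (hnorm : Pi1.IsNormalScheme X) {r : ℕ} {F W : X.Modules}
    (hF : Coh.IsCoh F) (hW : ExtPow.IsExtPow r F W)
    (htf : ∀ x, Module.IsTorsionFree (X.presheaf.stalk x) (F.presheaf.stalk x))
    (hrk : Module.finrank (X.presheaf.stalk (genericPoint X)) (F.presheaf.stalk (genericPoint X)) = r) :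
    Abs.Inv1 W := by
  intro x hx
  have := hX.1
  rw [Abs.le_one_iff hX] at hx
  obtain ⟨φ, hφ⟩ := Groth.Agent.Sga67.ExtSheaf.exists_phi hW
  have hWc := ExtIdx.isCoh_of_isExtPow hF hW
  obtain ⟨U, hU, hxU, -⟩ := exists_isAffineOpen_mem_and_subset (X := X) (x := x) (U := ⊤) trivial
  obtain ⟨τ, -⟩ := ExtStalk.exists_stalkEquiv hF.1 hWc.1 φ x ⟨U, hU⟩ hxU
  haveI gF := StalkLoc.finite_stalk F hF x
  have fF : Module.Free (X.presheaf.stalk x) (F.presheaf.stalk x) := by
    rcases lt_or_eq_of_le hx with hx | hx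
    · obtain rfl := Gen.eq_gen hX hx
      exact free_gen F
    · exact free_of_torsionFree hX hnorm hx.symm hF (htf x)
  have rF : Module.finrank (X.presheaf.stalk x) (F.presheaf.stalk x) = r := by
    rw [← finrank_stalk_eq hF.1 (genericPoint_specializes x), hrk]
  let b := Module.finBasisOfFinrankEq (X.presheaf.stalk x) (F.presheaf.stalk x) rF
  exact ⟨τ.trans (LinearEquiv.ofBijective _ (DetLen.topMap_bijective b))⟩

end K939.DetCl
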