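import Groth.Agent.RefCh.K939.TensCmp

/-!
# Duals in codimension one

* `dualStalk_natural`: the stalk of the transpose is the transpose of the stalk;
* `exists_cospan_tf`: comparison of two coherent modules with the same generic stalk through a torsion-free module;
* `toQ_dual`: `[L^*] + [L] = 2 [O]` modulo `K_{n-2}` for `L` free of rank one in codimension `≤ 1`.
-/

set_option autoImplicit false
set_option linter.style.haveILetI false
universe w u

open CategoryTheory CategoryTheory.Limits AlgebraicGeometry TopologicalSpace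

namespace K939.Dual1

open Groth.Agent.CycB Groth.Agent.CycB.StalkExact K939.Idx K939.Codim1 K476.HomSh1 K476.HomSh3 K476.HomSh4

variable {X : Scheme.{u}} {δ : X → ℤ}

theorem dualStalk_natural {F G : X.Modules} (hF : CohB1.IsFP F) (hG : CohB1.IsFP G) (u : F ⟶ G) (x : X)
    (θ : (RefHull.dual G).presheaf.stalk x) :
    dualStalkEquiv F hF x (stalkLin (dualMap u) x θ) =
      (stalkLin u x).dualMap (dualStalkEquiv G hG x θ) := by
  refine LinearMap.ext fun m => ?_
  rw [dualStalkEquiv_apply, ← stalkMapₗ_eq, evalStalk_stalkMapₗ_preComp, LinearMap.dualMap_apply,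
    dualStalkEquiv_apply, ← stalkMapₗ_eq]
  rfl

theorem isTorsionFree_dual [IsIntegral X] {F : X.Modules} (hF : CohB1.IsFP F) (x : X) :
    Module.IsTorsionFree (X.presheaf.stalk x) ((RefHull.dual F).presheaf.stalk x) :=
  (dualStalkEquiv F hF x).injective.moduleIsTorsionFree _ (fun c m => map_smul _ c m)

/-- Transposes of maps between free modules of rank one. -/
theorem sameMap_dualMap {R : Type u} [CommRing R] {M N : Type u} [AddCommGroup M] [AddCommGroup N]
    [Module R M] [Module R N] (f : M →ₗ[R] N) (e : M ≃ₗ[R] R) (e' : N ≃ₗ[R] R) :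
    SameMap f.dualMap f := by
  refine ⟨(e'.symm.dualMap.trans (LinearMap.ringLmapEquivSelf R R R)).trans e.symm,
    (e.symm.dualMap.trans (LinearMap.ringLmapEquivSelf R R R)).trans e'.symm, fun φ => ?_⟩
  apply e'.injective
  change e' (e'.symm (φ (f (e.symm 1)))) = e' (f (e.symm (φ (e'.symm 1))))
  have h1 : e.symm (φ (e'.symm 1)) = φ (e'.symm 1) • e.symm 1 := by
    rw [← map_smul, smul_eq_mul, mul_one]
  have h2 : f (e.symm 1) = e' (f (e.symm 1)) • e'.symm 1 := by
    rw [← map_smul, smul_eq_mul, mul_one, LinearEquiv.symm_apply_apply]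
  rw [LinearEquiv.apply_symm_apply, h1, map_smul, map_smul, smul_eq_mul]
  conv_lhs => rw [h2]
  rw [map_smul, smul_eq_mul, mul_comm]

theorem sameMap_dual {F G : X.Modules} (hF : CohB1.IsFP F) (hG : CohB1.IsFP G) (u : F ⟶ G) (x : X)
    (e : F.presheaf.stalk x ≃ₗ[X.presheaf.stalk x] X.presheaf.stalk x)
    (e' : G.presheaf.stalk x ≃ₗ[X.presheaf.stalk x] X.presheaf.stalk x) :
    SameMap (stalkLin (dualMap u) x) (stalkLin u x) := by
  refine SameMap.trans ?_ (sameMap_dualMap (stalkLin u x) e e')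
  exact ⟨dualStalkEquiv G hG x, dualStalkEquiv F hF x, dualStalk_natural hF hG u x⟩

section Integral

variable [IsIntegral X]

/-- A common torsion-free coherent target. -/
theorem exists_cospan_tf [IsLocallyNoetherian X] {M N : X.Modules} (hM : Coh.IsCoh M) (hN : Coh.IsCoh N)
    (θ : M.presheaf.stalk (genericPoint X) ≃ₗ[X.presheaf.stalk (genericPoint X)]
      N.presheaf.stalk (genericPoint X)) :
    ∃ (H : X.Modules) (u : M ⟶ H) (v : N ⟶ H), Coh.IsCoh H ∧
      Function.Bijective (stalkLin u (genericPoint X)) ∧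
      Function.Bijective (stalkLin v (genericPoint X)) ∧
      (stalkLin v (genericPoint X)).comp θ.toLinearMap = stalkLin u (genericPoint X) ∧
      ∀ x, Module.IsTorsionFree (X.presheaf.stalk x) (H.presheaf.stalk x) := by
  obtain ⟨H, u, v, hH, hu, hv, hc, -⟩ := Gen.exists_cospan hM hN θ
  have hb : Function.Bijective (stalkLin (RefHull.bidualMap H) (genericPoint X)) := by
    rw [← stalkMapₗ_eq]
    exact bijective_stalkMapₗ_bidualMap_of_free hH _ (free_gen H)
  refine ⟨RefHull.ddual H, u ≫ RefHull.bidualMap H, v ≫ RefHull.bidualMap H, isCoh_ddual hH, ?_, ?_, ?_,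
    fun x => isTorsionFree_dual (isFP_of_isCoh (isCoh_dual hH)) x⟩
  · rw [stalkLin_comp, LinearMap.coe_comp]
    exact hb.comp hu
  · rw [stalkLin_comp, LinearMap.coe_comp]
    exact hb.comp hv
  · rw [stalkLin_comp, stalkLin_comp, LinearMap.comp_assoc, hc]

/-- `[L^*] + [L] = [M^*] + [M]` modulo `K_{n-2}`. -/
theorem toQ_dual (hX : Cyc.IsSetup X δ) (hnorm : Pi1.IsNormalScheme X) {n : ℤ}
    (hn : δ (genericPoint X) = n) {L M : X.Modules}
    (hL : Coh.IsCoh L) (hM : Coh.IsCoh M)
    (hL1 : ∀ x, n - 1 ≤ δ x → Nonempty (L.presheaf.stalk x ≃ₗ[X.presheaf.stalk x] X.presheaf.stalk x))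
    (hM1 : ∀ x, n - 1 ≤ δ x → Nonempty (M.presheaf.stalk x ≃ₗ[X.presheaf.stalk x] X.presheaf.stalk x)) :
    Cyc.toK0CohQuot δ n (n - 1 - 1) (RefHull.dual L) + Cyc.toK0CohQuot δ n (n - 1 - 1) L =
      Cyc.toK0CohQuot δ n (n - 1 - 1) (RefHull.dual M) + Cyc.toK0CohQuot δ n (n - 1 - 1) M := by
  have := hX.1
  obtain ⟨e₁⟩ := hL1 (genericPoint X) (by omega)
  obtain ⟨e₂⟩ := hM1 (genericPoint X) (by omega)
  obtain ⟨H, u, v, hH, hu, hv, -, htf⟩ := exists_cospan_tf hL hM (e₁.trans e₂.symm)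
  have hrk : Module.finrank (X.presheaf.stalk (genericPoint X)) (H.presheaf.stalk (genericPoint X)) = 1 := by
    rw [← (LinearEquiv.ofBijective _ hu).finrank_eq, e₁.finrank_eq, Module.finrank_self]
  have hH1 : ∀ x, n - 1 ≤ δ x →
      Nonempty (H.presheaf.stalk x ≃ₗ[X.presheaf.stalk x] X.presheaf.stalk x) := fun x hx =>
    nonempty_equiv_of_rank_one hX hnorm (by rw [hn]; exact hx) hH (htf x) hrk
  have key : ∀ (P : X.Modules) (hP : Coh.IsCoh P) (w : P ⟶ H)
      (_ : ∀ x, n - 1 ≤ δ x →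
        Nonempty (P.presheaf.stalk x ≃ₗ[X.presheaf.stalk x] X.presheaf.stalk x))
      (_ : Function.Bijective (stalkLin w (genericPoint X))),
      Cyc.toK0CohQuot δ n (n - 1 - 1) (RefHull.dual P) -
        Cyc.toK0CohQuot δ n (n - 1 - 1) (RefHull.dual H) =
      Cyc.toK0CohQuot δ n (n - 1 - 1) H - Cyc.toK0CohQuot δ n (n - 1 - 1) P := by
    intro P hP w hP1 hw
    have hb : ∀ x, n - 1 < δ x → Function.Bijective (stalkLin w x) := by
      intro x hx
      obtain rfl := Gen.eq_gen hX (x := x) (by omega)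
      exact hw
    have hs : ∀ x, n - 1 ≤ δ x → SameMap (stalkLin (dualMap w) x) (stalkLin w x) := by
      intro x hx
      obtain ⟨e⟩ := hP1 x hx
      obtain ⟨e'⟩ := hH1 x hx
      exact sameMap_dual (isFP_of_isCoh hP) (isFP_of_isCoh hH) w x e e'
    exact toQ_sub_eq_of_sameMap hX (Gen.cohLe_of_isCoh hX (isCoh_dual hH) hn)
      (Gen.cohLe_of_isCoh hX (isCoh_dual hP) hn) (Gen.cohLe_of_isCoh hX hP hn)
      (Gen.cohLe_of_isCoh hX hH hn) (dualMap w) w (fun x hx => (hs x hx.le).symm.bijective (hb x hx)) hb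
      (fun x hx => hs x hx.ge)
  have h1 := key L hL u hL1 hu
  have h2 := key M hM v hM1 hv
  rw [sub_eq_sub_iff_add_eq_add] at h1 h2
  exact h1.trans h2.symm

end Integral

end K939.Dual1
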