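import Groth.Agent.RefCh.K939.Idx
import Groth.Prelude.Def_Pi1
import Mathlib.RingTheory.DedekindDomain.Dvr
import Mathlib.AlgebraicGeometry.FunctionField

/-!
# Codimension one points of an integral normal scheme with a dimension function

* `exists_cospan`: coherent modules with isomorphic generic stalks map to a common coherent module by maps which are
  bijective at the generic point;
* `isDVR`: the local rings at the points of dimension `n - 1` of a normal scheme are discrete valuation rings.
-/

set_option autoImplicit false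
set_option linter.style.haveILetI false
universe w u

open CategoryTheory CategoryTheory.Limits AlgebraicGeometry TopologicalSpace

namespace K939.Gen

open Groth.Agent.CycB Groth.Agent.CycB.StalkExact Groth.Agent.CycB.MSky Groth.Agent.CycB.RatK0
  Groth.Agent.CycB.PureK

variable {X : Scheme.{u}} {δ : X → ℤ}

section Generic

variable [IsIntegral X]

theorem gen_specializes (x : X) : genericPoint X ⤳ x := genericPoint_specializes x

theorem le_gen (hX : Cyc.IsSetup X δ) (x : X) : δ x ≤ δ (genericPoint X) :=
  LocQuot.le_of_specializes hX.2.2 (gen_specializes x)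

theorem eq_gen (hX : Cyc.IsSetup X δ) {x : X} (h : δ (genericPoint X) - 1 < δ x) :
    x = genericPoint X :=
  (LocQuot.eq_of_specializes_of_eq hX.2.2 (gen_specializes x) (by have := le_gen hX x; omega)).symm

theorem cohLe_of_isCoh (hX : Cyc.IsSetup X δ) {M : X.Modules} (hM : Coh.IsCoh M) {n : ℤ}
    (hn : δ (genericPoint X) = n) : Cyc.CohLe δ n M :=
  ⟨hM, fun x _ => hn ▸ le_gen hX x⟩

/-- A common coherent target. -/
theorem exists_cospan [IsLocallyNoetherian X] {M N : X.Modules} (hM : Coh.IsCoh M) (hN : Coh.IsCoh N)
    (θ : M.presheaf.stalk (genericPoint X) ≃ₗ[X.presheaf.stalk (genericPoint X)]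
      N.presheaf.stalk (genericPoint X)) :
    ∃ (H : X.Modules) (u : M ⟶ H) (v : N ⟶ H), Coh.IsCoh H ∧
      Function.Bijective (stalkLin u (genericPoint X)) ∧
      Function.Bijective (stalkLin v (genericPoint X)) ∧
      (stalkLin v (genericPoint X)).comp θ.toLinearMap = stalkLin u (genericPoint X) ∧
      ∃ m : H ⟶ msky (X := X) (fun _ : PUnit.{u+1} => genericPoint X)
        (fun _ => N.presheaf.stalk (genericPoint X)), Mono m := by
  set η := genericPoint X with hη
  let pt : PUnit.{u+1} → X := fun _ => η
  let Q : PUnit.{u+1} → Type u := fun _ => N.presheaf.stalk η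
  letI : ∀ i, AddCommGroup (Q i) := fun i => inferInstanceAs (AddCommGroup (N.presheaf.stalk η))
  letI : ∀ i, Module (X.presheaf.stalk (pt i)) (Q i) := fun i =>
    inferInstanceAs (Module (X.presheaf.stalk η) (N.presheaf.stalk η))
  let f : M ⟶ msky pt Q := toMSky (fun _ => θ.toLinearMap)
  let g : N ⟶ msky pt Q := toMSky (fun _ => LinearMap.id)
  have hq : Coh.IsQCoh (msky pt Q) := by
    refine isQCoh_msky (fun x => ⟨⊤, trivial, Set.toFinite _⟩) ?_
    intro i q a ha
    refine ⟨1, ?_⟩
    have h0 : a = 0 := by
      by_contra hne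
      have hF : IsUnit a := (isUnit_iff_ne_zero (G₀ := X.functionField)).2 hne
      exact (IsLocalRing.mem_maximalIdeal a).1 ha hF
    rw [h0, pow_one]
    exact zero_smul (X.presheaf.stalk η) (show N.presheaf.stalk η from q)
  let d := biprod.desc f g
  have hinj : Function.Injective (evSt pt Q PUnit.unit) :=
    evSt_injective PUnit.unit ⊤ trivial fun j _ => rfl
  have crit : ∀ (P : X.Modules) (w : P ⟶ Abelian.image d)
      (ζ : P.presheaf.stalk η →ₗ[X.presheaf.stalk η] N.presheaf.stalk η)
      (_ : Function.Bijective ζ)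
      (_ : w ≫ Abelian.image.ι d = toMSky (pt := pt) (Q := Q) (fun _ => ζ)),
      Function.Bijective (stalkLin w η) ∧
        ((evSt pt Q PUnit.unit).comp (stalkLin (Abelian.image.ι d) η)).comp (stalkLin w η) = ζ := by
    intro P w ζ hζ hw
    have h1 : Function.Injective ((evSt pt Q PUnit.unit).comp (stalkLin (Abelian.image.ι d) η)) :=
      hinj.comp (stalkLin_injective (Abelian.image.ι d) η)
    have h2 : ((evSt pt Q PUnit.unit).comp (stalkLin (Abelian.image.ι d) η)).comp
        (stalkLin w η) = ζ := by
      rw [LinearMap.comp_assoc]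
      have := stalkLin_comp w (Abelian.image.ι d) η
      rw [hw] at this
      erw [← this]
      exact evSt_stalkLin_toMSky (pt := pt) (Q := Q) (fun _ => ζ) PUnit.unit
    refine ⟨?_, h2⟩
    have h3 : Function.Bijective
        (((evSt pt Q PUnit.unit).comp (stalkLin (Abelian.image.ι d) η)) ∘ (stalkLin w η)) := by
      rw [← LinearMap.coe_comp, h2]
      exact hζ
    refine ⟨Function.Injective.of_comp h3.1, fun y => ?_⟩
    obtain ⟨z, hz⟩ := h3.2 (((evSt pt Q PUnit.unit).comp (stalkLin (Abelian.image.ι d) η)) y)
    exact ⟨z, h1 hz⟩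
  have hMN : Coh.IsCoh (M ⊞ N) := Groth.Agent.Ega3B.DevQC.isCoh_biprod hM hN
  have hu := crit M (biprod.inl ≫ Abelian.factorThruImage d) θ.toLinearMap θ.bijective
    (by rw [Category.assoc, Abelian.image.fac, biprod.inl_desc])
  have hv := crit N (biprod.inr ≫ Abelian.factorThruImage d) LinearMap.id Function.bijective_id
    (by rw [Category.assoc, Abelian.image.fac, biprod.inr_desc])
  refine ⟨Abelian.image d, biprod.inl ≫ Abelian.factorThruImage d,
    biprod.inr ≫ Abelian.factorThruImage d, isCoh_image d hMN hq, hu.1, hv.1, ?_,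
    Abelian.image.ι d, inferInstance⟩
  have h1 : Function.Injective ((evSt pt Q PUnit.unit).comp (stalkLin (Abelian.image.ι d) η)) :=
    hinj.comp (stalkLin_injective (Abelian.image.ι d) η)
  ext m
  apply h1
  have e1 := LinearMap.congr_fun hu.2 m
  have e2 := LinearMap.congr_fun hv.2 (θ m)
  exact e2.trans e1.symm

/-- Primes of the local ring at a point of dimension `n - 1`. -/
theorem prime_cases (hX : Cyc.IsSetup X δ) {x : X} (hx : δ x = δ (genericPoint X) - 1)
    (P : Ideal (X.presheaf.stalk x)) [P.IsPrime] :
    P = ⊥ ∨ P = IsLocalRing.maximalIdeal (X.presheaf.stalk x) := by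
  obtain ⟨z, hz, rfl⟩ := LocQuot.exists_eq_ker P
  by_cases h1 : z = genericPoint X
  · left
    subst h1
    rw [eq_bot_iff]
    intro a ha
    rw [LocQuot.mem_ker_specMap_iff] at ha
    have h2 : (X.presheaf.stalkSpecializes hz).hom a = 0 := by
      by_contra hne
      exact ha ((isUnit_iff_ne_zero (G₀ := X.functionField)).2 hne)
    have h3 : Function.Injective (X.presheaf.stalkSpecializes hz).hom := by
      letI := (X.presheaf.stalkSpecializes hz).hom.toAlgebra
      have h4 := LocQuot.isLocalization_stalkSpecializes hz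
      exact IsLocalization.injective (M := (RingHom.ker (Cyc.specMap x (genericPoint X) hz)).primeCompl)
        (X.presheaf.stalk (genericPoint X)) (Ideal.primeCompl_le_nonZeroDivisors _)
    exact h3 (h2.trans (map_zero _).symm)
  · right
    have h2 : z = x := by
      by_contra hne
      have h3 := LocQuot.lt_of_specializes hX.2.2 hz hne
      have h4 := LocQuot.lt_of_specializes hX.2.2 (gen_specializes z) (Ne.symm h1)
      omega
    subst h2
    exact LocQuot.ker_refl z

theorem isDVR (hX : Cyc.IsSetup X δ) (hnorm : Pi1.IsNormalScheme X) {x : X}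
    (hx : δ x = δ (genericPoint X) - 1) :
    ∃ _ : IsDomain (X.presheaf.stalk x), IsDiscreteValuationRing (X.presheaf.stalk x) := by
  have := hX.1
  obtain ⟨h1, h2⟩ := hnorm x
  refine ⟨h1, ?_⟩
  have hdim : Ring.DimensionLEOne (X.presheaf.stalk x) := by
    refine ⟨fun {P} hP hPr => ?_⟩
    have := hPr
    rcases prime_cases hX hx P with h | h
    · exact (hP h).elim
    · rw [h]
      exact IsLocalRing.maximalIdeal.isMaximal _
  have hne : ¬ IsField (X.presheaf.stalk x) := by
    intro hf
    have hm : IsLocalRing.maximalIdeal (X.presheaf.stalk x) = ⊥ :=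
      IsLocalRing.isField_iff_maximalIdeal_eq.1 hf
    have h3 : RingHom.ker (Cyc.specMap x (genericPoint X) (gen_specializes x)) ≤
        IsLocalRing.maximalIdeal (X.presheaf.stalk x) :=
      IsLocalRing.le_maximalIdeal (Ideal.IsPrime.ne_top inferInstance)
    rw [hm, le_bot_iff, ← hm, ← LocQuot.ker_refl x, LocQuot.ker_inj] at h3
    rw [← h3] at hx
    omega
  have hD : IsDedekindDomain (X.presheaf.stalk x) :=
    { toIsDedekindRing :=
      { toIsNoetherian := inferInstance
        toDimensionLEOne := hdim
        toIsIntegralClosure := h2 } }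
  exact ((IsDiscreteValuationRing.TFAE (X.presheaf.stalk x) hne).out 0 2).2 hD

end Generic

end K939.Gen
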