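import Groth.Agent.RefCh.K939.GenHypSch
import Groth.Agent.RefCh.K939.FlatDual
import Groth.Agent.Fga.RegSec
import Groth.Agent.Fga.TwistCoh
import Groth.Agent.VarietyB.PullSec
import Groth.Agent.PerfA.GenPull
import Groth.Agent.CycB.PureK
import Groth.Agent.Sga67.CohBasic

/-!
# The generic section is regular on every coherent module coming from the base
-/

set_option autoImplicit false
set_option linter.style.haveILetI false
set_option linter.unusedSectionVars false
universe u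

open CategoryTheory CategoryTheory.Limits AlgebraicGeometry Opposite TopologicalSpace

namespace K939.GenHypMono

open Groth.Agent Groth.Agent.Fdesc.LocGen Groth.Agent.CurvesB.StalkField GenHypSec GenHypSch Groth.Agent.Fga.RegSec
open Groth.Agent.VarietyB.PullSec (secModule secₗ isBaseChange_secₗ)

section

variable {k : Type u} [Field k] {ι : Type} [Fintype ι] {K : Type u} [Field K] [Algebra k K]
  [Algebra (MvPolynomial ι k) K] [IsScalarTower k (MvPolynomial ι k) K] [IsFractionRing (MvPolynomial ι k) K]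
  {X Y : Scheme.{u}} {p : Y ⟶ X} {f : X ⟶ Spec (CommRingCat.of k)} {q : Y ⟶ Spec (CommRingCat.of K)}
  (H : IsPullback p q f (Spec.map (CommRingCat.ofHom (algebraMap k K))))

include H

theorem gfn_smul_injective [DecidableEq ι] {U : X.Opens} (hU : IsAffineOpen U) (a : ι → Γ(X, U)) (i₀ : ι) (h : a i₀ = 1)
    (i : Algebra Γ(X, U) Γ(Y, p ⁻¹ᵁ U)) (hi : ∀ r, i.algebraMap r = p.app U r) (M M' : Type u) [AddCommGroup M]
    [Module Γ(X, U) M] [AddCommGroup M'] [Module Γ(X, U) M'] [Module Γ(Y, p ⁻¹ᵁ U) M']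
    [IsScalarTower Γ(X, U) Γ(Y, p ⁻¹ᵁ U) M'] (g : M →ₗ[Γ(X, U)] M') (hg : IsBaseChange Γ(Y, p ⁻¹ᵁ U) g) :
    Function.Injective fun x : M' => gfn (k := k) p q a • x := by
  have h1 : i = (p.app U).hom.toAlgebra := Algebra.algebra_ext _ _ hi
  subst h1
  exact (local_data H hU a i₀ h).2.2.2.2 M M' g hg

variable {L : X.Modules} (hL : PicF.IsInvertible L) (σ : ι → (Coh.structureModule X ⟶ L))
  (haff : ∀ i, IsAffineOpen (CohB1.genLocus L (σ i))) (hcov : ∀ x : X, ∃ i, x ∈ CohB1.genLocus L (σ i))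

include hL haff hcov

theorem mono_mulS [IsLocallyNoetherian X] [IsLocallyNoetherian Y] (F : X.Modules) (hF : Coh.IsCoh F) :
    Mono (mulS (gsec (k := k) p q σ) ((Scheme.Modules.pullback p).obj F)) := by
  classical
  have hp := isAffineHom_p H
  have hF' : Coh.IsCoh ((Scheme.Modules.pullback p).obj F) := FlatDual.isCoh_pullback p hF
  have hL' := isInvertible_pullback p hL
  have hNF : Coh.IsCoh (CohB1.tensorMod ((Scheme.Modules.pullback p).obj L) ((Scheme.Modules.pullback p).obj F)) :=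
    Sga67.CohBasic.isCoh_of_iso (Ega2.Tens.swap _ _) (Fga.TwistCoh.isCoh_tensor hF' hL')
  have hK : Coh.IsCoh (kernel (mulS (gsec (k := k) p q σ) ((Scheme.Modules.pullback p).obj F))) :=
    Sga67.CohBasic.isCoh_kernel _ hF' hNF.1
  refine Preadditive.mono_of_kernel_zero ((PerfA.GenPull.isZero_of_affine_sections _ hK.1 fun y => ?_).eq_of_src _ _)
  obtain ⟨i, hi⟩ := hcov (p y)
  obtain ⟨a, ha, ha'⟩ := exists_coords σ i
  have hU : IsAffineOpen (p ⁻¹ᵁ CohB1.genLocus L (σ i)) := (haff i).preimage p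
  have he := (isGen_sec_genLocus (σ i)).pullSec p
  -- base change
  let j1 : Algebra Γ(X, CohB1.genLocus L (σ i)) Γ(Y, p ⁻¹ᵁ CohB1.genLocus L (σ i)) :=
    (p.appLE (CohB1.genLocus L (σ i)) (p ⁻¹ᵁ CohB1.genLocus L (σ i)) le_rfl).hom.toAlgebra
  let j2 := secModule p F (le_refl (p ⁻¹ᵁ CohB1.genLocus L (σ i)))
  have j3 : IsScalarTower Γ(X, CohB1.genLocus L (σ i)) Γ(Y, p ⁻¹ᵁ CohB1.genLocus L (σ i))
      Γ((Scheme.Modules.pullback p).obj F, p ⁻¹ᵁ CohB1.genLocus L (σ i)) :=
    ⟨fun a b c => by rw [Algebra.smul_def, mul_smul]; rfl⟩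
  have h3 := isBaseChange_secₗ p F (le_refl (p ⁻¹ᵁ CohB1.genLocus L (σ i))) hF.1 (haff i) hU
  have h4 := gfn_smul_injective H (haff i) a i ha j1 (fun r => by
    change (p.appLE (CohB1.genLocus L (σ i)) (p ⁻¹ᵁ CohB1.genLocus L (σ i)) le_rfl).hom r = _
    rw [Scheme.Hom.appLE_eq_app]) _ _ _ h3
  have key : ∀ m' : Γ((Scheme.Modules.pullback p).obj F, p ⁻¹ᵁ CohB1.genLocus L (σ i)),
      (mulS (gsec (k := k) p q σ) ((Scheme.Modules.pullback p).obj F)).app (p ⁻¹ᵁ CohB1.genLocus L (σ i)) m' = 0 →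
      m' = 0 := by
    intro m' h1
    rw [mulS_app, sec_gsec (k := k) p q σ a ha', smul_tmul, ← tmul_smul] at h1
    have h2 : gfn (k := k) p q a • m' = 0 := by
      apply (tmul_left_bijective ((Scheme.Modules.pullback p).obj F) he (le_refl _)).1
      simp only [res_refl]
      rw [h1]
      have := Fdesc.LocGen.tmul_add (pullSec p (sec (σ i) (CohB1.genLocus L (σ i))))
        (0 : Γ((Scheme.Modules.pullback p).obj F, p ⁻¹ᵁ CohB1.genLocus L (σ i))) 0
      rw [add_zero, left_eq_add] at this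
      exact this.symm
    exact h4 (h2.trans (smul_zero _).symm)
  refine ⟨p ⁻¹ᵁ CohB1.genLocus L (σ i), hU, hi, fun m => ?_⟩
  apply CycB.PureK.app_injective_of_mono (kernel.ι (mulS (gsec (k := k) p q σ) ((Scheme.Modules.pullback p).obj F)))
    (p ⁻¹ᵁ CohB1.genLocus L (σ i))
  rw [map_zero]
  apply key
  exact congr(Scheme.Modules.Hom.app $(kernel.condition (mulS (gsec (k := k) p q σ)
    ((Scheme.Modules.pullback p).obj F))) (p ⁻¹ᵁ CohB1.genLocus L (σ i)) m)

end

end K939.GenHypMono
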