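import Groth.Agent.RefCh.K939.GenHypDim
import Groth.Agent.RefCh.K939.GenHypMono
import Groth.Agent.RefCh.K939.GenHypCut
import Groth.Agent.RefCh.K939.IntNumBC
import Groth.Agent.Pic13.H959.CutZero
import Groth.Agent.Fga.HodgePush
import Mathlib.RingTheory.Localization.FractionRing

/-!
# The generic hyperplane section

`X` integral, normal and proper over a field `k`, `dim X = n + 1`, `L` invertible with inverse `P`, generated by sections
with affine loci of generation.  There are a field extension `K/k` (purely transcendental) and a morphism `j : Z ⟶ X`,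
flat and affine, compatible with the structure morphisms, with `Z` integral, normal, proper over `K`, `dim Z = n` and
`intNum k X (P, M) F = intNum K Z (j^* M) (j^* F)` for `F` coherent and `M i` invertible.
-/

set_option autoImplicit false
set_option linter.style.haveILetI false
set_option linter.unusedSectionVars false
universe u

open CategoryTheory CategoryTheory.Limits AlgebraicGeometry Opposite TopologicalSpace

namespace K939.GenHyp

open Groth.Agent Groth.Agent.Fdesc.LocGen Groth.Agent.CurvesB.StalkField GenHypSec GenHypSch GenHypDim GenHypMono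
  GenHypCut Groth.Agent.Fga.RegSec Groth.Agent.Fga.PicMon

/-- `L` is generated by finitely many sections with affine loci of generation. -/
def GenAff {X : Scheme.{u}} (L : X.Modules) : Prop :=
  ∃ (ι : Type) (_ : Fintype ι) (σ : ι → (Coh.structureModule X ⟶ L)),
    (∀ i, IsAffineOpen (CohB1.genLocus L (σ i))) ∧ ∀ x : X, ∃ i, x ∈ CohB1.genLocus L (σ i)

theorem GenAff.pullback {X Z : Scheme.{u}} (j : Z ⟶ X) [IsAffineHom j] {L : X.Modules} (hL : PicF.IsInvertible L)
    (h : GenAff L) : GenAff ((Scheme.Modules.pullback j).obj L) := by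
  obtain ⟨ι, hι, σ, h1, h2⟩ := h
  refine ⟨ι, hι, fun i => pullHom j (σ i), fun i => ?_, fun z => ?_⟩
  · rw [Ega1.AmpFam.genLocus_pullHom j hL]
    exact (h1 i).preimage j
  · obtain ⟨i, hi⟩ := h2 (j z)
    refine ⟨i, ?_⟩
    rw [Ega1.AmpFam.genLocus_pullHom j hL]
    exact hi

theorem GenAff.of_iso {X : Scheme.{u}} {L L' : X.Modules} (e : L ≅ L') (h : GenAff L) : GenAff L' := by
  obtain ⟨ι, hι, σ, h1, h2⟩ := h
  have key : ∀ i, CohB1.genLocus L' (σ i ≫ e.hom) = CohB1.genLocus L (σ i) := by
    intro i
    ext x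
    change x ∈ CohB1.genLocus L' (σ i ≫ e.hom) ↔ x ∈ CohB1.genLocus L (σ i)
    rw [mem_genLocus_iff, mem_genLocus_iff]
    refine exists_congr fun V => and_congr_right fun _ => ?_
    rw [sec_comp]
    exact isGen_app_iff e.hom _
  exact ⟨ι, hι, fun i => σ i ≫ e.hom, fun i => by rw [key]; exact h1 i, fun x => by
    obtain ⟨i, hi⟩ := h2 x
    exact ⟨i, by rw [key]; exact hi⟩⟩

section

variable (k : Type u) [Field k] (X : Scheme.{u}) [X.Over (Spec (CommRingCat.of k))]
  [IsProper (X ↘ Spec (CommRingCat.of k))] [IsIntegral X]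

/-- **The generic hyperplane section.** -/
theorem exists_hyp (hnorm : Pi1.IsNormalScheme X) (n : ℕ) (hdim : topologicalKrullDim X = (n + 1 : ℕ))
    {L P : X.Modules} (hL : PicF.IsInvertible L) (hP : PicF.IsInvertible P)
    (hPL : Nonempty (CohB1.tensorMod P L ≅ Coh.structureModule X)) (hgen : GenAff L) :
    ∃ (K : Type u) (_ : Field K) (_ : Algebra k K) (Z : Scheme.{u}) (_ : Z.Over (Spec (CommRingCat.of K)))
      (j : Z ⟶ X), IsIntegral Z ∧ Pi1.IsNormalScheme Z ∧ IsProper (Z ↘ Spec (CommRingCat.of K)) ∧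
      topologicalKrullDim Z = n ∧ Flat j ∧ IsAffineHom j ∧
      j ≫ (X ↘ Spec (CommRingCat.of k)) =
        (Z ↘ Spec (CommRingCat.of K)) ≫ Spec.map (CommRingCat.ofHom (algebraMap k K)) ∧
      ∀ {r : ℕ} (M : Fin r → X.Modules), (∀ i, PicF.IsInvertible (M i)) → ∀ (F : X.Modules), Coh.IsCoh F →
        ∀ (d e : ℕ), n + 1 ≤ d → n ≤ e →
        FGA.intNum k X d (Fin.cons P M : Fin (r + 1) → X.Modules) F =
          FGA.intNum K Z e (fun i => (Scheme.Modules.pullback j).obj (M i)) ((Scheme.Modules.pullback j).obj F) := by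
  obtain ⟨ι, hfin, σ, haff, hcov⟩ := hgen
  let K := FractionRing (MvPolynomial ι k)
  let Y := Curv2.bc k X K
  let p : Y ⟶ X := Curv2.bcFst k X K
  let q : Y ⟶ Spec (CommRingCat.of K) := Curv2.bcSnd k X K
  have H : IsPullback p q (X ↘ Spec (CommRingCat.of k)) (Spec.map (CommRingCat.ofHom (algebraMap k K))) :=
    IsPullback.of_hasPullback _ _
  let _ : Y.Over (Spec (CommRingCat.of K)) := ⟨q⟩
  have hq : IsProper (Y ↘ Spec (CommRingCat.of K)) := isProper_q H
  let Z := hyp (k := k) p q σ
  let z : Z ⟶ Y := hι (k := k) p q σ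
  let _ : Z.Over (Spec (CommRingCat.of K)) := ⟨z ≫ q⟩
  have hZ : IsProper (Z ↘ Spec (CommRingCat.of K)) := inferInstanceAs (IsProper (z ≫ (Y ↘ Spec (CommRingCat.of K))))
  have hdY : topologicalKrullDim Y = (n + 1 : ℕ) := (dim_base H).trans hdim
  have hdZ : topologicalKrullDim Z = n := dim_hyp H hL σ haff hcov n hdim
  have hne : Nonempty Z := nonempty_hyp H hL σ haff hcov (by rw [hdim]; exact_mod_cast Nat.le_add_left 1 n)
  have hYi : IsIntegral Y := isIntegral_base H σ haff hcov
  have nX : IsLocallyNoetherian X := LocallyOfFiniteType.isLocallyNoetherian (X ↘ Spec (CommRingCat.of k))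
  have nY : IsLocallyNoetherian Y := LocallyOfFiniteType.isLocallyNoetherian (Y ↘ Spec (CommRingCat.of K))
  have nZ : IsLocallyNoetherian Z := LocallyOfFiniteType.isLocallyNoetherian (Z ↘ Spec (CommRingCat.of K))
  have cX : CompactSpace X := (quasiCompact_iff_compactSpace (X ↘ Spec (CommRingCat.of k))).mp inferInstance
  refine ⟨K, inferInstance, inferInstance, Z, inferInstance, hj (k := k) p q σ, isIntegral_hyp H hL σ haff hcov,
    isNormal_hyp H hL σ haff hcov hnorm, hZ, hdZ, flat_hj H hL σ haff hcov, isAffineHom_hj H σ, ?_, ?_⟩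
  · change (z ≫ p) ≫ _ = (z ≫ q) ≫ _
    rw [Category.assoc, Category.assoc, H.w]
  · intro r M hM F hF d e hd he
    have hdY' : topologicalKrullDim Y ≤ (d : ℕ) := by rw [hdY]; exact_mod_cast hd
    have hdZ' : topologicalKrullDim Z ≤ (e : ℕ) := by rw [hdZ]; exact_mod_cast he
    let P' := (Scheme.Modules.pullback p).obj P
    let L' := (Scheme.Modules.pullback p).obj L
    let F' := (Scheme.Modules.pullback p).obj F
    have hP' : PicF.IsInvertible P' := isInvertible_pullback p hP
    have hL' : PicF.IsInvertible L' := isInvertible_pullback p hL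
    have hF' : Coh.IsCoh F' := FlatDual.isCoh_pullback p hF
    obtain ⟨θ⟩ := hPL
    have hPL' : Nonempty (CohB1.tensorMod P' L' ≅ Coh.structureModule Y) :=
      ⟨(FlatDual.tensorIso p P L).symm ≪≫ (Scheme.Modules.pullback p).mapIso θ ≪≫ FlatDual.unitIso p⟩
    have hmc : mc P' * mc L' = 1 := by
      rw [← mc_tensor]
      exact (mc_eq_iff _ _).mpr hPL'
    -- base change
    have h1 := IntNumBC.intNum_bc k X K d (Fin.cons P M : Fin (r + 1) → X.Modules) (by
      intro i
      induction i using Fin.cases with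
      | zero => exact Ega2.QCohLocal.isQCoh_of_isInvertible hP
      | succ i => exact Ega2.QCohLocal.isQCoh_of_isInvertible (hM i)) F hF.1
    rw [← h1]
    have h2 : (fun i => (Scheme.Modules.pullback p).obj ((Fin.cons P M : Fin (r + 1) → X.Modules) i)) =
        (Fin.cons P' (fun i => (Scheme.Modules.pullback p).obj (M i)) : Fin (r + 1) → Y.Modules) := by
      funext i
      induction i using Fin.cases with
      | zero => rfl
      | succ i => rfl
    have hM' : ∀ i, PicF.IsInvertible ((Scheme.Modules.pullback p).obj (M i)) := fun i =>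
      isInvertible_pullback p (hM i)
    have h3 := Groth.Agent.Pic13.H959.CutZero.intNum_cut K Y d hdY' hL' hP' hmc (gsec (k := k) p q σ)
      (fun i => (Scheme.Modules.pullback p).obj (M i)) hM' F' hF' (mono_mulS H hL σ haff hcov F hF)
    have hker : z.ker = PicF2.zeroScheme L' (gsec (k := k) p q σ) :=
      Scheme.IdealSheafData.ker_subschemeι _
    obtain ⟨e1⟩ := nonempty_iso hL' (gsec (k := k) p q σ) z hker F' hP' hPL'
    have hz : IsClosedImmersion z := inferInstanceAs (IsClosedImmersion (hι (k := k) p q σ))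
    have hzF : Coh.IsCoh ((Scheme.Modules.pullback z).obj F') := FlatDual.isCoh_pullback z hF'
    have h4 := Groth.Agent.Fga.HodgePush.intNum_push K Y Z z rfl d e hdY' hdZ'
      (fun i => (Scheme.Modules.pullback p).obj (M i)) hM' ((Scheme.Modules.pullback z).obj F') hzF (fun I =>
        Groth.Agent.Fga.HodgePush.acyc_of_isAffineHom z (by
          have hw : PicF.IsInvertible ((Scheme.Modules.pullback z).obj
              (Groth.Agent.Fga.HodgePush.word (fun i => (Scheme.Modules.pullback p).obj (M i)) I)) :=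
            isInvertible_pullback z (Groth.Agent.Fga.HodgePush.isInvertible_word _ hM' I)
          exact (Groth.Agent.Sga67.CohBasic.isCoh_of_iso (Ega2.Tens.swap _ _)
            (Groth.Agent.Fga.TwistCoh.isCoh_tensor hzF hw)).1))
    have hfinal : FGA.intNum K Y d (Fin.cons P' (fun i => (Scheme.Modules.pullback p).obj (M i)) :
        Fin (r + 1) → Y.Modules) F' =
        FGA.intNum K Z e (fun i => (Scheme.Modules.pullback (hj (k := k) p q σ)).obj (M i))
          ((Scheme.Modules.pullback (hj (k := k) p q σ)).obj F) := by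
      rw [h3, IntNumBC.intNum_congr K Y (fun i => ⟨Iso.refl _⟩) e1 d, ← h4]
      exact IntNumBC.intNum_congr K Z (fun i => ⟨(Scheme.Modules.pullbackComp z p).app (M i)⟩)
        ((Scheme.Modules.pullbackComp z p).app F) e
    rw [← hfinal, ← h2]

end

end K939.GenHyp
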