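import Mathlib.RingTheory.TensorProduct.MvPolynomial
import Mathlib.RingTheory.Localization.BaseChange
import Mathlib.RingTheory.Polynomial.IsIntegral
import Mathlib.RingTheory.Flat.Basic
import Mathlib.RingTheory.Flat.Localization
import Mathlib.RingTheory.Localization.Ideal
import Mathlib.Algebra.MvPolynomial.Equiv
import Mathlib.RingTheory.Ideal.Quotient.Operations
import Mathlib.RingTheory.MvPolynomial.Basic

/-!
# The generic linear form

`A` a ring, `a : ι → A` with `a i₀ = 1`, `f₀ = Σ a_i X_i` in `A[X_i]`: `A[X]/(f₀)` is a polynomial ring over `A` in the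
variables `X_j`, `j ≠ i₀`.
-/

set_option autoImplicit false

open MvPolynomial

namespace K939.GenHypAlg

variable {ι : Type*} [Fintype ι] [DecidableEq ι] {A : Type*} [CommRing A] (a : ι → A) (i₀ : ι)

/-- the generic linear form -/
noncomputable def form : MvPolynomial ι A := ∑ i, C (a i) * X i

/-- elimination of the variable `i₀` -/
noncomputable def elim : MvPolynomial ι A →ₐ[A] MvPolynomial {j : ι // j ≠ i₀} A :=
  aeval fun i => if h : i = i₀ then -∑ j : {j : ι // j ≠ i₀}, C (a j.1) * X j else X ⟨i, h⟩

theorem elim_X_self : elim a i₀ (X i₀) = -∑ j : {j : ι // j ≠ i₀}, C (a j.1) * X j := by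
  rw [elim, aeval_X, dif_pos rfl]

theorem elim_X (j : {j : ι // j ≠ i₀}) : elim a i₀ (X j.1) = X j := by
  rw [elim, aeval_X, dif_neg j.2]

/-- the inclusion of the polynomial ring in the remaining variables -/
noncomputable def incl : MvPolynomial {j : ι // j ≠ i₀} A →ₐ[A] MvPolynomial ι A := rename Subtype.val

theorem elim_incl (p : MvPolynomial {j : ι // j ≠ i₀} A) : elim a i₀ (incl i₀ p) = p := by
  have : (elim a i₀).comp (incl i₀) = AlgHom.id A _ := by
    apply algHom_ext
    intro j
    simp only [AlgHom.comp_apply, AlgHom.id_apply, incl, rename_X]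
    exact elim_X a i₀ j
  exact DFunLike.congr_fun this p

theorem elim_surjective : Function.Surjective (elim a i₀) := fun p => ⟨_, elim_incl a i₀ p⟩

theorem form_eq (h : a i₀ = 1) : form a = X i₀ + ∑ j : {j : ι // j ≠ i₀}, C (a j.1) * X j.1 := by
  rw [form, ← Finset.add_sum_erase _ _ (Finset.mem_univ i₀), h, C_1, one_mul]
  congr 1
  refine Finset.sum_bij' (fun i hi => ⟨i, (Finset.mem_erase.mp hi).1⟩) (fun j _ => j.1) ?_ ?_ ?_ ?_ ?_ <;> simp

theorem elim_form (h : a i₀ = 1) : elim a i₀ (form a) = 0 := by
  rw [form_eq a i₀ h, map_add, elim_X_self, map_sum, neg_add_eq_zero]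
  refine Finset.sum_congr rfl fun j _ => ?_
  rw [map_mul, elim_X]
  congr 1
  exact ((elim a i₀).commutes (a j.1)).symm

theorem ker_elim (h : a i₀ = 1) : RingHom.ker (elim a i₀) = Ideal.span {form a} := by
  apply le_antisymm
  · intro g hg
    have key : ((Ideal.Quotient.mkₐ A (Ideal.span {form a})).comp ((incl i₀).comp (elim a i₀))) =
        Ideal.Quotient.mkₐ A (Ideal.span {form a}) := by
      apply algHom_ext
      intro i
      by_cases hi : i = i₀
      · subst hi
        simp only [AlgHom.comp_apply]
        rw [elim_X_self, map_neg, map_sum, Ideal.Quotient.mkₐ_eq_mk, Ideal.Quotient.eq, ← neg_mem_iff,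
          neg_sub, sub_neg_eq_add]
        rw [Ideal.mem_span_singleton]
        rw [form_eq a i h]
        apply dvd_of_eq
        congr 1
        refine Finset.sum_congr rfl fun j _ => ?_
        rw [map_mul, incl, rename_X]
        congr 1
        exact ((rename (R := A) Subtype.val).commutes (a j.1)).symm
      · simp only [AlgHom.comp_apply]
        rw [show (X i : MvPolynomial ι A) = X (⟨i, hi⟩ : {j : ι // j ≠ i₀}).1 from rfl, elim_X, incl, rename_X]
    have h1 := DFunLike.congr_fun key g
    simp only [AlgHom.comp_apply] at h1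
    rw [show elim a i₀ g = 0 from hg, map_zero, map_zero, Ideal.Quotient.mkₐ_eq_mk, eq_comm,
      Ideal.Quotient.eq_zero_iff_mem] at h1
    exact h1
  · rw [Ideal.span_singleton_le_iff_mem]
    exact elim_form a i₀ h

/-- `A[X]/(f₀) = A[X_j, j ≠ i₀]`. -/
noncomputable def quotEquiv (h : a i₀ = 1) :
    (MvPolynomial ι A ⧸ Ideal.span {form a}) ≃ₐ[A] MvPolynomial {j : ι // j ≠ i₀} A :=
  (Ideal.quotientEquivAlgOfEq A (ker_elim a i₀ h).symm).trans
    (Ideal.quotientKerAlgEquivOfSurjective (elim_surjective a i₀))

/-- The automorphism moving `X i₀` to the generic linear form. -/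
noncomputable def shear : MvPolynomial ι A →ₐ[A] MvPolynomial ι A :=
  aeval fun i => if i = i₀ then X i₀ + ∑ j : {j : ι // j ≠ i₀}, C (a j.1) * X j.1 else X i

theorem shear_X_self : shear a i₀ (X i₀) = X i₀ + ∑ j : {j : ι // j ≠ i₀}, C (a j.1) * X j.1 := by
  rw [shear, aeval_X, if_pos rfl]

theorem shear_X (j : {j : ι // j ≠ i₀}) : shear a i₀ (X j.1) = X j.1 := by
  rw [shear, aeval_X, if_neg j.2]

theorem shear_sum : shear a i₀ (∑ j : {j : ι // j ≠ i₀}, C (a j.1) * X j.1) =
    ∑ j : {j : ι // j ≠ i₀}, C (a j.1) * X j.1 := by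
  rw [map_sum]
  refine Finset.sum_congr rfl fun j _ => ?_
  rw [map_mul, shear_X]
  congr 1
  exact (shear a i₀).commutes (a j.1)

theorem shear_neg_shear (p : MvPolynomial ι A) : shear (-a) i₀ (shear a i₀ p) = p := by
  have : (shear (-a) i₀).comp (shear a i₀) = AlgHom.id A _ := by
    apply algHom_ext
    intro i
    by_cases hi : i = i₀
    · subst hi
      simp only [AlgHom.comp_apply, AlgHom.id_apply]
      rw [shear_X_self, map_add, shear_X_self]
      have : shear (-a) i (∑ j : {j : ι // j ≠ i}, C (a j.1) * X j.1) =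
          ∑ j : {j : ι // j ≠ i}, C (a j.1) * X j.1 := by
        rw [map_sum]
        refine Finset.sum_congr rfl fun j _ => ?_
        rw [map_mul, shear_X]
        congr 1
        exact (shear (-a) i).commutes (a j.1)
      rw [this, add_assoc, ← Finset.sum_add_distrib]
      simp
    · simp only [AlgHom.comp_apply, AlgHom.id_apply]
      rw [show (X i : MvPolynomial ι A) = X (⟨i, hi⟩ : {j : ι // j ≠ i₀}).1 from rfl, shear_X, shear_X]
  exact DFunLike.congr_fun this p

theorem shear_injective : Function.Injective (shear a i₀) :=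
  Function.LeftInverse.injective (shear_neg_shear a i₀)

theorem form_mem_nonZeroDivisors (h : a i₀ = 1) : form a ∈ nonZeroDivisors (MvPolynomial ι A) := by
  rw [mem_nonZeroDivisors_iff_right]
  intro g hg
  have h1 : shear (-a) i₀ (g * form a) = 0 := by rw [hg, map_zero]
  have h2 : shear (-a) i₀ (form a) = X i₀ := by
    have : form a = shear a i₀ (X i₀) := by rw [form_eq a i₀ h, shear_X_self]
    rw [this, shear_neg_shear]
  rw [map_mul, h2] at h1
  have h3 : shear (-a) i₀ g = 0 := (isRegular_X (R := A) (n := i₀)).right.mul_right_eq_zero_iff.mp h1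
  exact shear_injective (-a) i₀ (by rw [h3, map_zero])

end K939.GenHypAlg
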