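import Groth.Agent.RefCh.K939.GenHypSch
import Groth.Agent.Fga.DimCut
import Groth.Agent.FBase.K106.Dim
import Groth.Agent.Fga.RegSec

/-!
# The generic hyperplane section: dimension

`X` integral and proper over `k`: the generic hyperplane section is nonempty if `dim X ≥ 1`, of dimension `dim X - 1`.
-/

set_option autoImplicit false
set_option linter.style.haveILetI false
set_option linter.unusedSectionVars false
universe u

open CategoryTheory CategoryTheory.Limits AlgebraicGeometry Opposite TopologicalSpace

namespace K939.GenHypDim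

open Groth.Agent.Fdesc.LocGen Groth.Agent.CurvesB.StalkField Groth.Agent.Pi1C.ZeroScheme GenHypSec GenHypSch
open Groth.Agent.Fga.DimCut

section

variable {k : Type u} [Field k] {ι : Type} [Fintype ι] {K : Type u} [Field K] [Algebra k K]
  [Algebra (MvPolynomial ι k) K] [IsScalarTower k (MvPolynomial ι k) K] [IsFractionRing (MvPolynomial ι k) K]
  {X Y : Scheme.{u}} {p : Y ⟶ X} {f : X ⟶ Spec (CommRingCat.of k)} {q : Y ⟶ Spec (CommRingCat.of K)}
  (H : IsPullback p q f (Spec.map (CommRingCat.ofHom (algebraMap k K))))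
  {L : X.Modules} (hL : PicF.IsInvertible L) (σ : ι → (Coh.structureModule X ⟶ L))
  (haff : ∀ i, IsAffineOpen (CohB1.genLocus L (σ i))) (hcov : ∀ x : X, ∃ i, x ∈ CohB1.genLocus L (σ i))
  [IsProper f] [IsIntegral X]

include H

theorem isProper_q : IsProper q := MorphismProperty.of_isPullback (P := @IsProper) H inferInstance

theorem dim_base : topologicalKrullDim Y = topologicalKrullDim X := by
  rw [← K106.Dim.topologicalKrullDim_bc_eq f K]
  exact IsHomeomorph.topologicalKrullDim_eq _ H.isoPullback.schemeIsoToHomeo.isHomeomorph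

include hL haff hcov

theorem nonempty_hyp (hdim : (1 : WithBot ℕ∞) ≤ topologicalKrullDim X) : Nonempty (hyp (k := k) p q σ) := by
  by_contra hcon
  rw [not_nonempty_iff] at hcon
  have hYi : IsIntegral Y := isIntegral_base H σ haff hcov
  have hq : IsProper q := isProper_q H
  have hfield := isField_of_universallyClosed K q
  have hsur : Surjective p := surjective_p H
  -- `gsec` generates everywhere
  have hL' := isInvertible_pullback p hL
  have h1 : CohB1.genLocus _ (gsec (k := k) p q σ) = ⊤ := by
    have h2 := range_hι (k := k) p q σ hL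
    rw [Set.range_eq_empty, eq_comm, Set.compl_empty_iff] at h2
    ext x
    have : x ∈ ((CohB1.genLocus _ (gsec (k := k) p q σ) : Y.Opens) : Set Y) := by rw [h2]; trivial
    exact ⟨fun _ => trivial, fun _ => this⟩
  have h2 : IsGen (sec (gsec (k := k) p q σ) ⊤) := (le_genLocus_iff _ _).mp h1.ge
  -- a section with nonempty locus
  obtain ⟨i, hi⟩ := hcov (genericPoint X)
  obtain ⟨c, hc⟩ := h2.exists_eq (sec (pullHom p (σ i)) ⊤)
  have hloc := Groth.Agent.Ega1.AmpFam.genLocus_pullHom p hL (σ i)
  obtain ⟨y, hy⟩ := hsur.1 (genericPoint X)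
  have hy' : y ∈ CohB1.genLocus _ (pullHom p (σ i)) := by
    rw [hloc]
    change p y ∈ CohB1.genLocus L (σ i)
    rw [hy]
    exact hi
  have h3 := genLocus_inf_eq (pullHom p (σ i)) h2 hc
  rw [inf_top_eq] at h3
  have hc0 : c ≠ 0 := by
    rintro rfl
    rw [h3, Scheme.basicOpen_zero] at hy'
    exact hy'
  have hcu : IsUnit c := by
    obtain ⟨d, hd⟩ := hfield.mul_inv_cancel hc0
    exact IsUnit.of_mul_eq_one d hd
  have h4 : CohB1.genLocus L (σ i) = ⊤ := by
    ext x
    refine ⟨fun _ => trivial, fun _ => ?_⟩
    obtain ⟨z, rfl⟩ := hsur.1 x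
    have h5 : z ∈ CohB1.genLocus _ (pullHom p (σ i)) := by
      rw [h3, Scheme.basicOpen_of_isUnit Y hcu]
      trivial
    rw [hloc] at h5
    exact h5
  have h5 := haff i
  rw [h4] at h5
  have h6 : IsAffine X := by
    have : IsAffine ((⊤ : X.Opens) : Scheme.{u}) := h5
    exact IsAffine.of_isIso X.topIso.inv
  have h7 := dim_le_zero_of_proper_affine X f
  have h8 := hdim.trans h7
  exact absurd h8 (by decide)

/-- The dimension of the generic hyperplane section. -/
theorem dim_hyp (n : ℕ) (hdim : topologicalKrullDim X = (n + 1 : ℕ)) :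
    topologicalKrullDim (hyp (k := k) p q σ) = n := by
  have hne : Nonempty (hyp (k := k) p q σ) := nonempty_hyp H hL σ haff hcov (by
    rw [hdim]
    exact_mod_cast Nat.le_add_left 1 n)
  have hYi : IsIntegral Y := isIntegral_base H σ haff hcov
  have hq : IsProper q := isProper_q H
  have hdY : topologicalKrullDim Y = (n + 1 : ℕ) := (dim_base H).trans hdim
  have hL' := isInvertible_pullback p hL
  have hsur : Surjective p := surjective_p H
  let _ : Y.Over (Spec (CommRingCat.of K)) := ⟨q⟩
  have hq' : LocallyOfFiniteType (Y ↘ Spec (CommRingCat.of K)) := inferInstanceAs (LocallyOfFiniteType q)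
  have hrange := range_hι (k := k) p q σ hL
  have hemb := (hι (k := k) p q σ).isClosedEmbedding
  have hD : topologicalKrullDim (hyp (k := k) p q σ) = topologicalKrullDim (Set.range (hι (k := k) p q σ)) :=
    IsHomeomorph.topologicalKrullDim_eq _ hemb.isEmbedding.toHomeomorph.isHomeomorph
  rw [hD, hrange]
  apply le_antisymm
  · refine dim_le_of_forall_not_subset _ (CohB1.genLocus _ (gsec (k := k) p q σ)).isOpen.isClosed_compl ?_ n hdY.le
    intro Z hZ hsub
    -- `gsec` is not zero
    have hZ' : Z = Set.univ := by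
      have h1 : irreducibleComponents Y = {Set.univ} := irreducibleComponents_eq_singleton
      rw [h1] at hZ
      exact hZ
    rw [hZ', Set.univ_subset_iff, Set.compl_univ_iff] at hsub
    classical
    obtain ⟨i, hi⟩ := hcov (genericPoint X)
    obtain ⟨a, ha, ha'⟩ := exists_coords σ i
    have hp := isAffineHom_p H
    have hU : IsAffineOpen (p ⁻¹ᵁ CohB1.genLocus L (σ i)) := (haff i).preimage p
    have h1 := (local_data H (haff i) a i ha).2.1
    have h2 := sec_gsec (k := k) p q σ a ha'
    have h3 := genLocus_inf_eq (gsec (k := k) p q σ) ((isGen_sec_genLocus (σ i)).pullSec p) h2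
    have h4 : CohB1.genLocus _ (gsec (k := k) p q σ) = ⊥ := by
      ext x
      constructor
      · intro hx
        have : x ∈ ((CohB1.genLocus _ (gsec (k := k) p q σ) : Y.Opens) : Set Y) := hx
        rw [hsub] at this
        exact this
      · intro hx
        exact hx.elim
    rw [h4, bot_inf_eq] at h3
    have h5 : gfn (k := k) p q a = 0 := (basicOpen_eq_bot_iff _).mp h3.symm
    obtain ⟨y, hy⟩ := hsur.1 (genericPoint X)
    have hne2 : Nonempty (p ⁻¹ᵁ CohB1.genLocus L (σ i) : Y.Opens) := ⟨⟨y, by
      change p y ∈ CohB1.genLocus L (σ i)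
      rw [hy]
      exact hi⟩⟩
    exact nonZeroDivisors.ne_zero h1 h5
  · -- lower bound
    have hcomp : CompactSpace (hyp (k := k) p q σ) := by
      have : IsProper (hι (k := k) p q σ ≫ q) := inferInstance
      exact (quasiCompact_iff_compactSpace (hι (k := k) p q σ ≫ q)).mp inferInstance
    obtain ⟨x, -, hx⟩ := IsClosed.exists_closed_singleton (isClosed_univ (X := hyp (k := k) p q σ)) Set.univ_nonempty
    set y := hι (k := k) p q σ x with hy
    have hycl : IsClosed ({y} : Set Y) := by
      have := hemb.isClosedMap _ hx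
      rwa [Set.image_singleton] at this
    have hyr : y ∈ ((CohB1.genLocus _ (gsec (k := k) p q σ) : Y.Opens) : Set Y)ᶜ := by
      rw [← hrange]
      exact ⟨x, rfl⟩
    obtain ⟨U, hxU, e, a, he, ha, h, hmax⟩ :=
      Groth.Agent.Fga.RegSec.exists_gen_of_not_mem (gsec (k := k) p q σ) hL' hyr
    refine le_dim_of_local_equation K Y y hycl U hxU a ?_ _ ?_ n hdY.ge
    · rw [← h]
      exact fun hcon => hyr hcon.1
    · intro z hzU hz
      rw [← h] at hz
      exact fun hcon => hz ⟨hcon, hzU⟩

end

end K939.GenHypDim
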