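import Groth.Agent.RefCh.K939.GenHypAlg
import Mathlib.RingTheory.Flat.FaithfullyFlat.Algebra
import Mathlib.RingTheory.Localization.FractionRing
import Mathlib.RingTheory.LocalProperties.IntegrallyClosed
import Mathlib.RingTheory.Flat.Equalizer

/-!
# The generic hyperplane section, algebra

`K = Frac k[X_i]`, `A` a `k`-algebra, `B = A ⊗_k K`, `a : ι → A` with `a i₀ = 1`,
`f = Σ a_i X_i ∈ B`.  Then `B` and `B/(f)` are localizations of polynomial rings over `A`; so `B/(f)` is flat over `A`,
a domain if `A` is (or zero), integrally closed if `A` is, and `f` is a nonzerodivisor in `B`.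
-/

set_option autoImplicit false
set_option linter.unusedSectionVars false
set_option linter.style.haveILetI false

open MvPolynomial

namespace K939.GenHypLoc

open K939.GenHypAlg

section

variable (k : Type*) [Field k] (ι : Type*) (K : Type*) [Field K]
  [Algebra (MvPolynomial ι k) K] [Algebra k K]
  [IsScalarTower k (MvPolynomial ι k) K]
  (A : Type*) [CommRing A] [Algebra k A] (B : Type*) [CommRing B] [Algebra k B] [Algebra K B] [Algebra A B]
  [IsScalarTower k K B] [IsScalarTower k A B]

/-- the structure map `A[X] → B` -/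
noncomputable def toB : MvPolynomial ι A →ₐ[A] B :=
  aeval fun i => algebraMap K B (algebraMap (MvPolynomial ι k) K (X i))

theorem toB_X (i : ι) : toB k ι K A B (X i) = algebraMap K B (algebraMap (MvPolynomial ι k) K (X i)) := by
  rw [toB, aeval_X]

theorem toB_C (x : A) : toB k ι K A B (C x) = algebraMap A B x := (toB k ι K A B).commutes x

theorem toB_map (p : MvPolynomial ι k) :
    toB k ι K A B (MvPolynomial.map (algebraMap k A) p) = algebraMap K B (algebraMap (MvPolynomial ι k) K p) := by
  have h : ((toB k ι K A B).toRingHom.comp (MvPolynomial.map (algebraMap k A))) =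
      ((algebraMap K B).comp (algebraMap (MvPolynomial ι k) K)) := by
    apply MvPolynomial.ringHom_ext
    · intro r
      simp only [AlgHom.toRingHom_eq_coe, RingHom.comp_apply, RingHom.coe_coe, map_C]
      rw [toB_C, ← IsScalarTower.algebraMap_apply k A B, ← MvPolynomial.algebraMap_eq,
        ← IsScalarTower.algebraMap_apply k (MvPolynomial ι k) K, ← IsScalarTower.algebraMap_apply k K B]
    · intro i
      simp only [AlgHom.toRingHom_eq_coe, RingHom.comp_apply, RingHom.coe_coe, map_X]
      rw [toB_X]
  exact DFunLike.congr_fun h p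

/-- The multiplicative set `k[X] ∖ 0` in `A[X]`. -/
noncomputable abbrev S : Submonoid (MvPolynomial ι A) :=
  (nonZeroDivisors (MvPolynomial ι k)).map (MvPolynomial.map (algebraMap k A) : MvPolynomial ι k →+* MvPolynomial ι A)

variable [IsFractionRing (MvPolynomial ι k) K] [Algebra.IsPushout k K A B]

theorem isLocalization : letI := (toB k ι K A B).toRingHom.toAlgebra
    IsLocalization (S k ι A) B := by
  letI i1 : Algebra (MvPolynomial ι A) B := (toB k ι K A B).toRingHom.toAlgebra
  letI i2 : Algebra (MvPolynomial ι k) (MvPolynomial ι A) := MvPolynomial.algebraMvPolynomial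
  letI i3 : Algebra (MvPolynomial ι k) B := ((algebraMap K B).comp (algebraMap (MvPolynomial ι k) K)).toAlgebra
  have s1 : IsScalarTower (MvPolynomial ι k) K B := IsScalarTower.of_algebraMap_eq fun _ => rfl
  have s2 : IsScalarTower (MvPolynomial ι k) (MvPolynomial ι A) B :=
    IsScalarTower.of_algebraMap_eq fun p => (toB_map k ι K A B p).symm
  have s3 : IsScalarTower k (MvPolynomial ι A) B := IsScalarTower.of_algebraMap_eq fun x => by
    change _ = toB k ι K A B (C (algebraMap k A x))
    rw [toB_C, ← IsScalarTower.algebraMap_apply]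
  have s4 : IsScalarTower A (MvPolynomial ι A) B := IsScalarTower.of_algebraMap_eq fun x =>
    (toB_C k ι K A B x).symm
  have h : Algebra.IsPushout (MvPolynomial ι k) K (MvPolynomial ι A) B :=
    (Algebra.IsPushout.comp_iff k (MvPolynomial ι k) A (MvPolynomial ι A)).mp inferInstance
  exact (Algebra.isLocalization_iff_isPushout (nonZeroDivisors (MvPolynomial ι k)) K).mpr h.symm

/-! ### The ring `B = A ⊗ K` itself -/

include k ι K in
theorem flat : Module.Flat A B := by
  let i1 : Algebra (MvPolynomial ι A) B := (toB k ι K A B).toRingHom.toAlgebra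
  have s4 : IsScalarTower A (MvPolynomial ι A) B := IsScalarTower.of_algebraMap_eq fun x =>
    (toB_C k ι K A B x).symm
  have h1 : IsLocalization (S k ι A) B := isLocalization k ι K A B
  have h2 : Module.Flat (MvPolynomial ι A) B := IsLocalization.flat B (S k ι A)
  exact Module.Flat.trans A (MvPolynomial ι A) B

theorem zero_notMem_S [Nontrivial A] : (0 : MvPolynomial ι A) ∉ S k ι A := by
  rintro ⟨p, hp, h⟩
  have h1 : Function.Injective (MvPolynomial.map (algebraMap k A) : MvPolynomial ι k →+* MvPolynomial ι A) :=
    MvPolynomial.map_injective _ (algebraMap k A).injective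
  have h2 : p = 0 := h1 (by rw [h, map_zero])
  exact (nonZeroDivisors.ne_zero hp) h2

include k ι K in
theorem isDomain [IsDomain A] : IsDomain B := by
  let i1 : Algebra (MvPolynomial ι A) B := (toB k ι K A B).toRingHom.toAlgebra
  have h1 : IsLocalization (S k ι A) B := isLocalization k ι K A B
  exact IsLocalization.isDomain_of_le_nonZeroDivisors B
    (le_nonZeroDivisors_of_noZeroDivisors (zero_notMem_S k ι A))

/-! ### The quotient by the generic linear form -/

variable [Fintype ι] [DecidableEq ι] (a : ι → A) (i₀ : ι) (h : a i₀ = 1)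

/-- the generic linear form in `B` -/
noncomputable def gf : B := ∑ i, algebraMap A B (a i) * algebraMap K B (algebraMap (MvPolynomial ι k) K (X i))

theorem toB_form : toB k ι K A B (form a) = gf k ι K A B a := by
  rw [form, gf, map_sum]
  refine Finset.sum_congr rfl fun i _ => ?_
  rw [map_mul, toB_C, toB_X]

theorem map_span : letI := (toB k ι K A B).toRingHom.toAlgebra
    (Ideal.span {form a}).map (algebraMap (MvPolynomial ι A) B) = Ideal.span {gf k ι K A B a} := by
  rw [Ideal.map_span, Set.image_singleton, ← toB_form]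
  rfl

include h

/-- `f` is a nonzerodivisor. -/
theorem gf_mem_nonZeroDivisors : gf k ι K A B a ∈ nonZeroDivisors B := by
  let i1 : Algebra (MvPolynomial ι A) B := (toB k ι K A B).toRingHom.toAlgebra
  have h1 : IsLocalization (S k ι A) B := isLocalization k ι K A B
  have := IsLocalization.map_nonZeroDivisors_le (S k ι A) B
    (Submonoid.mem_map_of_mem (algebraMap (MvPolynomial ι A) B) (form_mem_nonZeroDivisors a i₀ h))
  rwa [show algebraMap (MvPolynomial ι A) B (form a) = gf k ι K A B a from toB_form k ι K A B a] at this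

theorem flat_quot : Module.Flat A (B ⧸ Ideal.span {gf k ι K A B a}) := by
  let i1 : Algebra (MvPolynomial ι A) B := (toB k ι K A B).toRingHom.toAlgebra
  have s4 : IsScalarTower A (MvPolynomial ι A) B := IsScalarTower.of_algebraMap_eq fun x =>
    (toB_C k ι K A B x).symm
  have h1 : IsLocalization (S k ι A) B := isLocalization k ι K A B
  rw [← map_span]
  set I : Ideal (MvPolynomial ι A) := Ideal.span {form a}
  have h2 : Module.Flat (MvPolynomial ι A ⧸ I) (B ⧸ I.map (algebraMap (MvPolynomial ι A) B)) :=
    IsLocalization.flat _ (Algebra.algebraMapSubmonoid (MvPolynomial ι A ⧸ I) (S k ι A))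
  have h3 : Module.Flat A (MvPolynomial ι A ⧸ I) := Module.Flat.of_linearEquiv (quotEquiv a i₀ h).toLinearEquiv
  have s5 : IsScalarTower A (MvPolynomial ι A ⧸ I) (B ⧸ I.map (algebraMap (MvPolynomial ι A) B)) :=
    IsScalarTower.of_algebraMap_eq (R := A) (S := MvPolynomial ι A ⧸ I)
      (A := B ⧸ I.map (algebraMap (MvPolynomial ι A) B)) fun x => by
      change Ideal.Quotient.mk (I.map (algebraMap (MvPolynomial ι A) B)) (algebraMap A B x) =
        Ideal.Quotient.mk (I.map (algebraMap (MvPolynomial ι A) B))
          (algebraMap (MvPolynomial ι A) B (algebraMap A (MvPolynomial ι A) x))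
      rw [← IsScalarTower.algebraMap_apply A (MvPolynomial ι A) B]
  exact Module.Flat.trans A (MvPolynomial ι A ⧸ I) _

/-- `B/(f)` is zero or an integrally closed domain. -/
theorem isIntegrallyClosed_quot [IsDomain A] (hn : Nontrivial (B ⧸ Ideal.span {gf k ι K A B a})) :
    IsDomain (B ⧸ Ideal.span {gf k ι K A B a}) ∧
      (IsIntegrallyClosed A → IsIntegrallyClosed (B ⧸ Ideal.span {gf k ι K A B a})) := by
  let i1 : Algebra (MvPolynomial ι A) B := (toB k ι K A B).toRingHom.toAlgebra
  have h1 : IsLocalization (S k ι A) B := isLocalization k ι K A B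
  rw [← map_span] at hn ⊢
  set I : Ideal (MvPolynomial ι A) := Ideal.span {form a}
  have h2 : IsLocalization (Algebra.algebraMapSubmonoid (MvPolynomial ι A ⧸ I) (S k ι A))
    (B ⧸ I.map (algebraMap (MvPolynomial ι A) B)) := inferInstance
  have h3 : IsDomain (MvPolynomial ι A ⧸ I) :=
    (quotEquiv a i₀ h).toMulEquiv.isDomain (MvPolynomial {j : ι // j ≠ i₀} A)
  have h4 : (0 : MvPolynomial ι A ⧸ I) ∉ Algebra.algebraMapSubmonoid (MvPolynomial ι A ⧸ I) (S k ι A) := by
    intro h0
    have := (IsLocalization.subsingleton_iff (S := B ⧸ I.map (algebraMap (MvPolynomial ι A) B))).mpr h0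
    exact not_subsingleton (B ⧸ I.map (algebraMap (MvPolynomial ι A) B)) this
  have h5 := le_nonZeroDivisors_of_noZeroDivisors h4
  refine ⟨IsLocalization.isDomain_of_le_nonZeroDivisors _ h5, fun hA => ?_⟩
  have h6 : IsIntegrallyClosed (MvPolynomial {j : ι // j ≠ i₀} A) := by
    have h7 : ∀ n : ℕ, IsIntegrallyClosed (MvPolynomial (Fin n) A) := by
      intro n
      induction n with
      | zero => exact IsIntegrallyClosed.of_equiv (MvPolynomial.isEmptyAlgEquiv A (Fin 0)).symm.toRingEquiv
      | succ n ih => exact IsIntegrallyClosed.of_equiv (MvPolynomial.finSuccEquiv A n).symm.toRingEquiv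
    have := h7 (Fintype.card {j : ι // j ≠ i₀})
    exact IsIntegrallyClosed.of_equiv
      (MvPolynomial.renameEquiv A (Fintype.equivFin {j : ι // j ≠ i₀}).symm).toRingEquiv
  have h7 : IsIntegrallyClosed (MvPolynomial ι A ⧸ I) :=
    IsIntegrallyClosed.of_equiv (quotEquiv a i₀ h).symm.toRingEquiv
  exact isIntegrallyClosed_of_isLocalization _ _ h5

/-- `f` is a nonzerodivisor on `M ⊗_A B` for every `A`-module `M`. -/
theorem gf_smul_injective (M M' : Type*) [AddCommGroup M] [Module A M] [AddCommGroup M'] [Module A M'] [Module B M']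
    [IsScalarTower A B M'] (g : M →ₗ[A] M') (hg : IsBaseChange B g) :
    Function.Injective fun x : M' => gf k ι K A B a • x := by
  set f := gf k ι K A B a with hf
  have h1 : Module.Flat A (B ⧸ Ideal.span {f}) := flat_quot k ι K A B a i₀ h
  let π : B →ₗ[A] (B ⧸ Ideal.span {f}) := (Ideal.Quotient.mkₐ A (Ideal.span {f})).toLinearMap
  let m : B →ₗ[A] B := LinearMap.mulLeft A f
  have h2 : Function.Injective m := by
    rw [injective_iff_map_eq_zero]
    intro x hx
    exact (mem_nonZeroDivisors_iff_right.mp (gf_mem_nonZeroDivisors k ι K A B a i₀ h)) x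
      (by rw [mul_comm]; exact hx)
  have h3 : Function.Exact m π := by
    intro y
    constructor
    · intro hy
      have : y ∈ Ideal.span {f} := Ideal.Quotient.eq_zero_iff_mem.mp hy
      obtain ⟨c, hc⟩ := Ideal.mem_span_singleton'.mp this
      exact ⟨c, by rw [← hc]; exact mul_comm _ _⟩
    · rintro ⟨c, rfl⟩
      exact Ideal.Quotient.eq_zero_iff_mem.mpr (Ideal.mul_mem_right _ _ (Ideal.subset_span rfl))
  have h4 : Function.Injective (m.lTensor M) :=
    LinearMap.lTensor_injective_of_exact_of_flat π (Ideal.Quotient.mkₐ_surjective A _) m h2 h3 M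
  have h5 : Function.Injective (m.rTensor M) := by
    have : m.rTensor M = (TensorProduct.comm A M B).toLinearMap ∘ₗ m.lTensor M ∘ₗ
        (TensorProduct.comm A B M).toLinearMap := by
      ext; rfl
    rw [this]
    exact (TensorProduct.comm A M B).injective.comp (h4.comp (TensorProduct.comm A B M).injective)
  have h6 : ∀ x : TensorProduct A B M, m.rTensor M x = f • x := by
    intro x
    induction x using TensorProduct.induction_on with
    | zero => rw [map_zero, smul_zero]
    | tmul b y => rfl
    | add x y hx hy => rw [map_add, hx, hy, smul_add]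
  intro x y hxy
  have h7 : f • hg.equiv.symm x = f • hg.equiv.symm y := by
    rw [← map_smul, ← map_smul]
    exact congrArg _ hxy
  rw [← h6, ← h6] at h7
  exact hg.equiv.symm.injective (h5 h7)

end

end K939.GenHypLoc
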