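import Groth.Prelude.Def_Pi1
import Mathlib.AlgebraicGeometry.Morphisms.Flat
import Mathlib.AlgebraicGeometry.Morphisms.Affine
import Mathlib.AlgebraicGeometry.FunctionField
import Mathlib.Topology.Irreducible

/-!
# Integral and normal schemes from affine covers over an irreducible scheme

* `isIntegral_of_cover`: `j : H ⟶ X` generalizing (e.g. flat), `X` irreducible, `U i` a cover of `X` with `j⁻¹ U i` affine
  and `Γ(H, j⁻¹ U i)` zero or a domain: `H` is integral if it is nonempty;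
* `isNormalScheme_of_cover`: normality from an affine cover;
* `flat_of_cover`.
-/

set_option autoImplicit false
universe u

open CategoryTheory CategoryTheory.Limits AlgebraicGeometry Opposite TopologicalSpace

namespace K939.GenHypTop

theorem isPreirreducible_of_isDomain {H : Scheme.{u}} {V : H.Opens} (hV : IsAffineOpen V)
    (hd : Nontrivial Γ(H, V) → IsDomain Γ(H, V)) : IsPreirreducible (V : Set H) := by
  rcases subsingleton_or_nontrivial Γ(H, V) with hs | hn
  · have h1 : (V : Set H) = ∅ := by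
      rw [← hV.range_fromSpec]
      rw [Set.range_eq_empty_iff]
      exact inferInstanceAs (IsEmpty (PrimeSpectrum Γ(H, V)))
    rw [h1]
    exact isPreirreducible_empty
  · have := hd hn
    rw [← hV.range_fromSpec, ← Set.image_univ]
    have h1 : IrreducibleSpace (PrimeSpectrum Γ(H, V)) := inferInstance
    have h2 : IsPreirreducible (Set.univ : Set (Spec Γ(H, V))) := h1.isPreirreducible_univ
    exact h2.image _ hV.fromSpec.continuous.continuousOn

theorem irreducible_of_cover {H X : Type*} [TopologicalSpace H] [TopologicalSpace X] (j : H → X)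
    (hj : Continuous j) (hgen : GeneralizingMap j)
    [IrreducibleSpace X] [Nonempty H] {ι : Type*} (U : ι → Opens X) (hcov : ∀ x, ∃ i, x ∈ U i)
    (η : X) (hη : ∀ x, η ⤳ x)
    (hirr : ∀ i, IsPreirreducible (j ⁻¹' (U i : Set X))) : IrreducibleSpace H := by
  have key : ∀ i i', (j ⁻¹' (U i : Set X)).Nonempty → (U i' : Set X).Nonempty →
      (j ⁻¹' (U i : Set X) ∩ j ⁻¹' (U i' : Set X)).Nonempty := by
    rintro i i' ⟨x, hx⟩ ⟨y, hy⟩
    obtain ⟨x', hx', hjx'⟩ := hgen (hη (j x))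
    refine ⟨x', ?_, ?_⟩
    · exact hx'.mem_open ((U i).isOpen.preimage hj) hx
    · change j x' ∈ U i'
      rw [hjx']
      exact (hη y).mem_open (U i').isOpen hy
  have : PreirreducibleSpace H := by
    refine ⟨fun O₁ O₂ hO₁ hO₂ h₁ h₂ => ?_⟩
    obtain ⟨x₁, -, hx₁⟩ := h₁
    obtain ⟨x₂, -, hx₂⟩ := h₂
    obtain ⟨i₁, hi₁⟩ := hcov (j x₁)
    obtain ⟨i₂, hi₂⟩ := hcov (j x₂)
    have o₁ := (U i₁).isOpen.preimage hj
    have o₂ := (U i₂).isOpen.preimage hj
    obtain ⟨z, hz, hz1, hz2⟩ := hirr i₁ O₁ (j ⁻¹' (U i₂ : Set X)) hO₁ o₂ ⟨x₁, hi₁, hx₁⟩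
      (key i₁ i₂ ⟨x₁, hi₁⟩ ⟨_, hi₂⟩)
    obtain ⟨w, hw, hw1, hw2⟩ := hirr i₂ O₁ O₂ hO₁ hO₂ ⟨z, hz2, hz1⟩ ⟨x₂, hi₂, hx₂⟩
    exact ⟨w, trivial, hw1, hw2⟩
  exact { toNonempty := inferInstance }

theorem isReduced_of_cover {H : Scheme.{u}} {ι : Type*} (V : ι → H.Opens) (hcov : ∀ x, ∃ i, x ∈ V i)
    (haff : ∀ i, IsAffineOpen (V i)) (hdom : ∀ i, Nontrivial Γ(H, V i) → IsDomain Γ(H, V i)) : IsReduced H := by
  have : ∀ x : H, _root_.IsReduced (H.presheaf.stalk x) := by
    intro x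
    obtain ⟨i, hi⟩ := hcov x
    have hn : Nontrivial Γ(H, V i) := by
      by_contra hn
      rw [not_nontrivial_iff_subsingleton] at hn
      have h1 : (0 : H.presheaf.stalk x) = 1 := by
        rw [← map_one (H.presheaf.germ (V i) x hi).hom, ← map_zero (H.presheaf.germ (V i) x hi).hom]
        congr 1
        exact Subsingleton.elim _ _
      exact zero_ne_one h1
    have := hdom i hn
    let _ : Algebra Γ(H, V i) (H.presheaf.stalk x) := (H.presheaf.germ (V i) x hi).hom.toAlgebra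
    have h2 : IsLocalization.AtPrime (H.presheaf.stalk x) ((haff i).primeIdealOf ⟨x, hi⟩).asIdeal :=
      (haff i).isLocalization_stalk ⟨x, hi⟩
    have h3 : IsDomain (H.presheaf.stalk x) :=
      IsLocalization.isDomain_of_le_nonZeroDivisors _
        ((haff i).primeIdealOf ⟨x, hi⟩).asIdeal.primeCompl_le_nonZeroDivisors
    infer_instance
  exact isReduced_of_isReduced_stalk H

theorem isIntegral_of_cover {H X : Scheme.{u}} (j : H ⟶ X) (hgen : GeneralizingMap j)
    [IrreducibleSpace X] [Nonempty H] {ι : Type*} (U : ι → X.Opens) (hcov : ∀ x, ∃ i, x ∈ U i)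
    (haff : ∀ i, IsAffineOpen (j ⁻¹ᵁ U i))
    (hdom : ∀ i, Nontrivial Γ(H, j ⁻¹ᵁ U i) → IsDomain Γ(H, j ⁻¹ᵁ U i)) : IsIntegral H := by
  have h1 : IrreducibleSpace H := irreducible_of_cover j j.continuous hgen U hcov (genericPoint X)
    (fun x => genericPoint_specializes x) (fun i => isPreirreducible_of_isDomain (haff i) (hdom i))
  have h2 : IsReduced H := isReduced_of_cover (fun i => j ⁻¹ᵁ U i) (fun x => hcov (j x)) haff hdom
  exact isIntegral_of_irreducibleSpace_of_isReduced H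

theorem isNormalScheme_of_cover {H : Scheme.{u}} {ι : Type*} (V : ι → H.Opens) (hcov : ∀ x, ∃ i, x ∈ V i)
    (haff : ∀ i, IsAffineOpen (V i)) (hdom : ∀ i, Nontrivial Γ(H, V i) → IsDomain Γ(H, V i))
    (hnor : ∀ i, Nontrivial Γ(H, V i) → IsIntegrallyClosed Γ(H, V i)) : Pi1.IsNormalScheme H := by
  intro x
  obtain ⟨i, hi⟩ := hcov x
  have hn : Nontrivial Γ(H, V i) := by
    by_contra hn
    rw [not_nontrivial_iff_subsingleton] at hn
    have h1 : (0 : H.presheaf.stalk x) = 1 := by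
      rw [← map_one (H.presheaf.germ (V i) x hi).hom, ← map_zero (H.presheaf.germ (V i) x hi).hom]
      congr 1
      exact Subsingleton.elim _ _
    exact zero_ne_one h1
  have := hdom i hn
  have := hnor i hn
  let _ : Algebra Γ(H, V i) (H.presheaf.stalk x) := (H.presheaf.germ (V i) x hi).hom.toAlgebra
  have h2 : IsLocalization.AtPrime (H.presheaf.stalk x) ((haff i).primeIdealOf ⟨x, hi⟩).asIdeal :=
    (haff i).isLocalization_stalk ⟨x, hi⟩
  have h4 := ((haff i).primeIdealOf ⟨x, hi⟩).asIdeal.primeCompl_le_nonZeroDivisors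
  exact ⟨IsLocalization.isDomain_of_le_nonZeroDivisors _ h4, isIntegrallyClosed_of_isLocalization _ _ h4⟩

theorem flat_appLE {H X : Scheme.{u}} (j : H ⟶ X) {U U' : X.Opens} {V' : H.Opens} (hU : U' = U)
    (hV : V' = j ⁻¹ᵁ U) (e : V' ≤ j ⁻¹ᵁ U') (h : (j.app U).hom.Flat) : (j.appLE U' V' e).hom.Flat := by
  subst hU hV
  rwa [← Scheme.Hom.app_eq_appLE]

theorem flat_of_cover {H X : Scheme.{u}} (j : H ⟶ X) [IsAffineHom j] {ι : Type*} (U : ι → X.Opens)
    (hcov : ⨆ i, U i = ⊤) (haff : ∀ i, IsAffineOpen (U i)) (h : ∀ i, (j.app (U i)).hom.Flat) : Flat j := by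
  rw [IsZariskiLocalAtTarget.iff_of_iSup_eq_top (P := @Flat) U hcov]
  intro i
  have h1 : IsAffine (U i) := haff i
  have h2 : IsAffine (j ⁻¹ᵁ U i : H.Opens) := (haff i).preimage j
  rw [HasRingHomProperty.iff_of_isAffine (P := @Flat)]
  have h3 : (j ∣_ U i).appTop = j.appLE ((U i).ι ''ᵁ ⊤) ((j ⁻¹ᵁ U i).ι ''ᵁ ⊤) (by simp) := by
    simp [Scheme.Hom.appTop]
  rw [h3]
  exact flat_appLE j (by simp) (by simp) _ (h i)

end K939.GenHypTop
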