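import Groth.Agent.RefCh.K939.GenHypSec
import Groth.Agent.RefCh.K939.GenHypTop
import Groth.Agent.Ega1.AmpFam
import Groth.Agent.Ega4late.H534.LocalGen

/-!
# The generic hyperplane section: the scheme

`X` integral over `k`, `L` invertible, `σ i` sections of `L` whose loci of generation are affine and cover `X`,
`p : Y ⟶ X` the base change to `K = k(T_i)`; `hyp` is the zero scheme of `Σ T_i p^* σ_i`, `hj : hyp ⟶ X`.
* `flat_hj`: `hj` is flat;
* `isIntegral_hyp`: `hyp` is integral if it is nonempty; `isNormal_hyp`: it is normal if `X` is;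
* `isIntegral_base`: `Y` is integral.
-/

set_option autoImplicit false
set_option linter.style.haveILetI false
set_option linter.unusedSectionVars false
universe u

open CategoryTheory CategoryTheory.Limits AlgebraicGeometry Opposite TopologicalSpace

namespace K939.GenHypSch

open Groth.Agent.Fdesc.LocGen Groth.Agent.CurvesB.StalkField Groth.Agent.Pi1C.ZeroScheme GenHypSec

section

variable {k : Type u} [Field k] {ι : Type} [Fintype ι] {K : Type u} [Field K]
  [Algebra (MvPolynomial ι k) K] {X Y : Scheme.{u}} (p : Y ⟶ X)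
  (q : Y ⟶ Spec (CommRingCat.of K)) {L : X.Modules} (σ : ι → (Coh.structureModule X ⟶ L))

/-- The generic hyperplane section. -/
noncomputable def hyp : Scheme.{u} := (PicF2.zeroScheme _ (gsec (k := k) p q σ)).subscheme

/-- The closed immersion of the generic hyperplane section. -/
noncomputable def hι : hyp (k := k) p q σ ⟶ Y := (PicF2.zeroScheme _ (gsec (k := k) p q σ)).subschemeι

instance : IsClosedImmersion (hι (k := k) p q σ) :=
  inferInstanceAs (IsClosedImmersion (PicF2.zeroScheme _ (gsec (k := k) p q σ)).subschemeι)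

/-- The projection of the generic hyperplane section. -/
noncomputable def hj : hyp (k := k) p q σ ⟶ X := hι (k := k) p q σ ≫ p

theorem range_hι (hL : PicF.IsInvertible L) :
    Set.range (hι (k := k) p q σ) = ((CohB1.genLocus _ (gsec (k := k) p q σ) : Y.Opens) : Set Y)ᶜ := by
  have h1 : Set.range (hι (k := k) p q σ) = ((PicF2.zeroScheme _ (gsec (k := k) p q σ)).support : Set Y) :=
    Scheme.IdealSheafData.range_subschemeι _
  rw [h1]
  ext x
  exact mem_support_iff _ (isInvertible_pullback p hL) x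

/-- coordinates of the sections with respect to `σ i` over its locus of generation -/
theorem exists_coords (i : ι) : ∃ a : ι → Γ(X, CohB1.genLocus L (σ i)), a i = 1 ∧
    ∀ j, sec (σ j) (CohB1.genLocus L (σ i)) = a j • sec (σ i) (CohB1.genLocus L (σ i)) := by
  classical
  have he := isGen_sec_genLocus (σ i)
  have h1 : ∀ j, ∃ c : Γ(X, CohB1.genLocus L (σ i)), (j = i → c = 1) ∧
      sec (σ j) (CohB1.genLocus L (σ i)) = c • sec (σ i) (CohB1.genLocus L (σ i)) := by
    intro j
    by_cases hj : j = i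
    · subst hj
      exact ⟨1, fun _ => rfl, (one_smul _ _).symm⟩
    · obtain ⟨c, hc⟩ := he.exists_eq (sec (σ j) (CohB1.genLocus L (σ i)))
      exact ⟨c, fun h => absurd h hj, hc⟩
  choose a h1 h2 using h1
  exact ⟨a, h1 i rfl, h2⟩

/-- the ring of the hyperplane section over `hj⁻¹ U` -/
noncomputable def hIso (U : X.Opens) (hU : IsAffineOpen (p ⁻¹ᵁ U)) :
    Γ(hyp (k := k) p q σ, hj (k := k) p q σ ⁻¹ᵁ U) ≅
      .of (Γ(Y, p ⁻¹ᵁ U) ⧸ (PicF2.zeroScheme _ (gsec (k := k) p q σ)).ideal ⟨p ⁻¹ᵁ U, hU⟩) :=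
  (PicF2.zeroScheme _ (gsec (k := k) p q σ)).subschemeObjIso ⟨p ⁻¹ᵁ U, hU⟩

theorem hj_app (U : X.Opens) (hU : IsAffineOpen (p ⁻¹ᵁ U)) : (hj (k := k) p q σ).app U =
    p.app U ≫ CommRingCat.ofHom (Ideal.Quotient.mk
      ((PicF2.zeroScheme _ (gsec (k := k) p q σ)).ideal ⟨p ⁻¹ᵁ U, hU⟩)) ≫ (hIso (k := k) p q σ U hU).inv := by
  refine (Scheme.Hom.comp_app (hι (k := k) p q σ) p U).trans ?_
  congr 1
  exact (PicF2.zeroScheme _ (gsec (k := k) p q σ)).subschemeι_app ⟨p ⁻¹ᵁ U, hU⟩

end

section

variable {k : Type u} [Field k] {ι : Type} [Fintype ι] {K : Type u} [Field K] [Algebra k K]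
  [Algebra (MvPolynomial ι k) K] [IsScalarTower k (MvPolynomial ι k) K] [IsFractionRing (MvPolynomial ι k) K]
  {X Y : Scheme.{u}} {p : Y ⟶ X} {f : X ⟶ Spec (CommRingCat.of k)} {q : Y ⟶ Spec (CommRingCat.of K)}
  (H : IsPullback p q f (Spec.map (CommRingCat.ofHom (algebraMap k K))))
  {L : X.Modules} (hL : PicF.IsInvertible L) (σ : ι → (Coh.structureModule X ⟶ L))
  (haff : ∀ i, IsAffineOpen (CohB1.genLocus L (σ i))) (hcov : ∀ x : X, ∃ i, x ∈ CohB1.genLocus L (σ i))

include H

theorem isAffineHom_p : IsAffineHom p := MorphismProperty.of_isPullback H.flip inferInstance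

theorem flat_p : Flat p := MorphismProperty.of_isPullback (P := @Flat) H.flip inferInstance

theorem surjective_p : Surjective p := MorphismProperty.of_isPullback (P := @Surjective) H.flip inferInstance

theorem isAffineHom_hj : IsAffineHom (hj (k := k) p q σ) := by
  have := isAffineHom_p H
  exact inferInstanceAs (IsAffineHom (hι (k := k) p q σ ≫ p))

include hL haff hcov

theorem flat_hj : Flat (hj (k := k) p q σ) := by
  classical
  have hp := isAffineHom_p H
  have hjaff := isAffineHom_hj (k := k) (q := q) H σ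
  refine GenHypTop.flat_of_cover (hj (k := k) p q σ) (fun i => CohB1.genLocus L (σ i)) ?_ haff fun i => ?_
  · ext x
    simpa using hcov x
  · obtain ⟨a, ha, ha'⟩ := exists_coords σ i
    have h1 := (local_data H (haff i) a i ha).1
    have hU : IsAffineOpen (p ⁻¹ᵁ CohB1.genLocus L (σ i)) := (haff i).preimage p
    have h2 := ideal_gsec (k := k) p q σ hL hU (isGen_sec_genLocus (σ i)) a ha'
    rw [← h2] at h1
    rw [hj_app (k := k) p q σ _ hU, ← Category.assoc, CommRingCat.hom_comp]
    exact RingHom.Flat.comp h1 (RingHom.Flat.of_bijective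
      (ConcreteCategory.bijective_of_isIso (hIso (k := k) p q σ _ hU).inv))

variable [IsIntegral X]

theorem isDomain_section (i : ι) (hn : Nontrivial Γ(hyp (k := k) p q σ, hj (k := k) p q σ ⁻¹ᵁ CohB1.genLocus L (σ i))) :
    IsDomain Γ(hyp (k := k) p q σ, hj (k := k) p q σ ⁻¹ᵁ CohB1.genLocus L (σ i)) ∧
    (Pi1.IsNormalScheme X →
      IsIntegrallyClosed Γ(hyp (k := k) p q σ, hj (k := k) p q σ ⁻¹ᵁ CohB1.genLocus L (σ i))) := by
  classical
  have hp := isAffineHom_p H
  obtain ⟨a, ha, ha'⟩ := exists_coords σ i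
  have hU : IsAffineOpen (p ⁻¹ᵁ CohB1.genLocus L (σ i)) := (haff i).preimage p
  have h1 := (local_data H (haff i) a i ha).2.2.2.1
  rw [← ideal_gsec (k := k) p q σ hL hU (isGen_sec_genLocus (σ i)) a ha'] at h1
  have e := (hIso (k := k) p q σ _ hU).commRingCatIsoToRingEquiv
  have hn' : Nontrivial (Γ(Y, p ⁻¹ᵁ CohB1.genLocus L (σ i)) ⧸
      (PicF2.zeroScheme _ (gsec (k := k) p q σ)).ideal ⟨p ⁻¹ᵁ CohB1.genLocus L (σ i), hU⟩) :=
    e.injective.nontrivial
  have hne : Nonempty (CohB1.genLocus L (σ i) : X.Opens) := by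
    by_contra hcon
    rw [not_nonempty_iff] at hcon
    have h0 : CohB1.genLocus L (σ i) = ⊥ := by
      ext x
      exact ⟨fun hx => (hcon.false ⟨x, hx⟩).elim, fun hx => hx.elim⟩
    have h3 : hj (k := k) p q σ ⁻¹ᵁ CohB1.genLocus L (σ i) = ⊥ := by
      rw [h0]
      rfl
    rw [h3] at hn
    exact not_subsingleton Γ(hyp (k := k) p q σ, ⊥) inferInstance
  have hd : IsDomain Γ(X, CohB1.genLocus L (σ i)) := inferInstance
  obtain ⟨h2, h3⟩ := h1 hd hn'
  refine ⟨e.toMulEquiv.isDomain _, fun hX => ?_⟩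
  have h4 : IsIntegrallyClosed Γ(X, CohB1.genLocus L (σ i)) :=
    Groth.Agent.Ega4late.H534.LocalGen.isIntegrallyClosed_section hX (haff i)
  have := h3 h4
  exact IsIntegrallyClosed.of_equiv e.symm

/-- The generic hyperplane section is integral. -/
theorem isIntegral_hyp [Nonempty (hyp (k := k) p q σ)] : IsIntegral (hyp (k := k) p q σ) := by
  have h1 := flat_hj H hL σ haff hcov
  have h2 := isAffineHom_hj (k := k) (q := q) H σ
  exact GenHypTop.isIntegral_of_cover (hj (k := k) p q σ) (Flat.generalizingMap _)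
    (fun i => CohB1.genLocus L (σ i)) hcov (fun i => (haff i).preimage _)
    (fun i hn => (isDomain_section H hL σ haff hcov i hn).1)

theorem isNormal_hyp (hX : Pi1.IsNormalScheme X) : Pi1.IsNormalScheme (hyp (k := k) p q σ) := by
  have h2 := isAffineHom_hj (k := k) (q := q) H σ
  exact GenHypTop.isNormalScheme_of_cover (fun i => hj (k := k) p q σ ⁻¹ᵁ CohB1.genLocus L (σ i))
    (fun x => hcov (hj (k := k) p q σ x)) (fun i => (haff i).preimage _)
    (fun i hn => (isDomain_section H hL σ haff hcov i hn).1)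
    (fun i hn => (isDomain_section H hL σ haff hcov i hn).2 hX)

omit hL in
/-- The base change is integral. -/
theorem isIntegral_base : IsIntegral Y := by
  classical
  have h1 := flat_p H
  have h2 := isAffineHom_p H
  have h3 := surjective_p H
  have : Nonempty Y := h3.1.nonempty
  refine GenHypTop.isIntegral_of_cover p (Flat.generalizingMap _)
    (fun i => CohB1.genLocus L (σ i)) hcov (fun i => (haff i).preimage _) (fun i hn => ?_)
  obtain ⟨a, ha, ha'⟩ := exists_coords σ i
  have hne : Nonempty (CohB1.genLocus L (σ i) : X.Opens) := by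
    by_contra hcon
    rw [not_nonempty_iff] at hcon
    have h0 : CohB1.genLocus L (σ i) = ⊥ := by
      ext x
      exact ⟨fun hx => (hcon.false ⟨x, hx⟩).elim, fun hx => hx.elim⟩
    have h3 : p ⁻¹ᵁ CohB1.genLocus L (σ i) = ⊥ := by
      rw [h0]
      rfl
    rw [h3] at hn
    exact not_subsingleton Γ(Y, ⊥) inferInstance
  exact (local_data H (haff i) a i ha).2.2.1 inferInstance

end

end K939.GenHypSch
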