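import Groth.Agent.RefCh.K939.GenHypLoc
import Groth.Agent.CurvesB.StalkField
import Groth.Agent.Pi1C.ZeroScheme
import Groth.Agent.Fdesc.LocGenPullback

/-!
# The generic hyperplane section: the section and its ideal

`p : Y ⟶ X` the base change of the `k`-scheme `X` to `K = k(T_i)`, `σ i : O_X ⟶ L`:
* `gsec`: the section `Σ T_i p^* σ_i` of `p^* L`;
* `ideal_gsec`: its zero scheme over `p⁻¹ U`, if `L|_U` has the generator `e` and `σ_i = a_i e`, is given by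
  `gfn p q a = Σ a_i T_i`.
-/

set_option autoImplicit false
set_option linter.style.haveILetI false
universe u

open CategoryTheory CategoryTheory.Limits AlgebraicGeometry Opposite TopologicalSpace

namespace K939.GenHypSec

open Groth.Agent.Fdesc.LocGen Groth.Agent.CurvesB.StalkField Groth.Agent.Pi1C.ZeroScheme

section

variable {k : Type u} [Field k] {ι : Type} [Fintype ι] {K : Type u} [Field K]
  [Algebra (MvPolynomial ι k) K] {X Y : Scheme.{u}} (p : Y ⟶ X)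
  (q : Y ⟶ Spec (CommRingCat.of K))

/-- `Σ a_i T_i` -/
noncomputable def gfn {U : X.Opens} (a : ι → Γ(X, U)) : Γ(Y, p ⁻¹ᵁ U) :=
  ∑ i, (p.app U).hom (a i) * secMap q (p ⁻¹ᵁ U) (algebraMap (MvPolynomial ι k) K (MvPolynomial.X i))

variable {L : X.Modules} (σ : ι → (Coh.structureModule X ⟶ L))

/-- The generic linear combination of sections. -/
noncomputable def gsec : Coh.structureModule Y ⟶ (Scheme.Modules.pullback p).obj L :=
  homOf (∑ i, (secMap q (⊤ : Y.Opens) (algebraMap (MvPolynomial ι k) K (MvPolynomial.X i)) : Γ(Y, ⊤)) •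
    pullTop p (sec (σ i) ⊤))

theorem ores_secMap {U V : Y.Opens} (h : V ≤ U) (c : K) : ores h (secMap q U c) = secMap q V c := by
  unfold secMap ores
  have : q.appLE ⊤ U le_top ≫ Y.presheaf.map (homOfLE h).op = q.appLE ⊤ V le_top := Scheme.Hom.appLE_map _ _ _
  exact congr($(this).hom ((Scheme.ΓSpecIso (CommRingCat.of K)).inv.hom c))

theorem sec_gsec {U : X.Opens} {e : Γ(L, U)} (a : ι → Γ(X, U)) (ha : ∀ i, sec (σ i) U = a i • e) :
    sec (gsec (k := k) p q σ) (p ⁻¹ᵁ U) = gfn (k := k) p q a • pullSec p e := by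
  rw [gsec, sec_homOf, map_sum, gfn, Finset.sum_smul]
  refine Finset.sum_congr rfl fun i _ => ?_
  rw [res_smul, ores_secMap, mul_comm, mul_smul]
  congr 1
  have h1 : res ((Scheme.Modules.pullback p).obj L) (le_top : p ⁻¹ᵁ U ≤ ⊤) (pullTop p (sec (σ i) ⊤)) =
      pullSec p (res L (le_top : U ≤ ⊤) (sec (σ i) ⊤)) := res_pullSec p (le_top : U ≤ ⊤) _
  rw [h1, res_sec, ha, pullSec_smul]

theorem ideal_gsec (hL : PicF.IsInvertible L) {U : X.Opens} (hU : IsAffineOpen (p ⁻¹ᵁ U)) {e : Γ(L, U)}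
    (he : IsGen e) (a : ι → Γ(X, U)) (ha : ∀ i, sec (σ i) U = a i • e) :
    (PicF2.zeroScheme _ (gsec (k := k) p q σ)).ideal ⟨p ⁻¹ᵁ U, hU⟩ = Ideal.span {gfn (k := k) p q a} :=
  ideal_eq_span _ (isInvertible_pullback p hL) _ (he.pullSec p) (sec_gsec p q σ a ha)

end

section

variable {k : Type u} [Field k] {ι : Type} [Fintype ι] [DecidableEq ι] {K : Type u} [Field K] [Algebra k K]
  [Algebra (MvPolynomial ι k) K] [IsScalarTower k (MvPolynomial ι k) K] [IsFractionRing (MvPolynomial ι k) K]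
  {X Y : Scheme.{u}} {p : Y ⟶ X} {f : X ⟶ Spec (CommRingCat.of k)} {q : Y ⟶ Spec (CommRingCat.of K)}
  (H : IsPullback p q f (Spec.map (CommRingCat.ofHom (algebraMap k K))))

include H

/-- The algebra of the base change over an affine open. -/
theorem local_data {U : X.Opens} (hU : IsAffineOpen U) (a : ι → Γ(X, U)) (i₀ : ι) (h : a i₀ = 1) :
    ((Ideal.Quotient.mk (Ideal.span {gfn (k := k) p q a})).comp (p.app U).hom).Flat ∧
    gfn (k := k) p q a ∈ nonZeroDivisors Γ(Y, p ⁻¹ᵁ U) ∧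
    (IsDomain Γ(X, U) → IsDomain Γ(Y, p ⁻¹ᵁ U)) ∧
    (IsDomain Γ(X, U) → Nontrivial (Γ(Y, p ⁻¹ᵁ U) ⧸ Ideal.span {gfn (k := k) p q a}) →
      IsDomain (Γ(Y, p ⁻¹ᵁ U) ⧸ Ideal.span {gfn (k := k) p q a}) ∧
      (IsIntegrallyClosed Γ(X, U) → IsIntegrallyClosed (Γ(Y, p ⁻¹ᵁ U) ⧸ Ideal.span {gfn (k := k) p q a}))) ∧
    (letI : Algebra Γ(X, U) Γ(Y, p ⁻¹ᵁ U) := (p.app U).hom.toAlgebra
      ∀ (M M' : Type u) [AddCommGroup M] [Module Γ(X, U) M] [AddCommGroup M'] [Module Γ(X, U) M']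
        [Module Γ(Y, p ⁻¹ᵁ U) M'] [IsScalarTower Γ(X, U) Γ(Y, p ⁻¹ᵁ U) M'] (g : M →ₗ[Γ(X, U)] M'),
        IsBaseChange Γ(Y, p ⁻¹ᵁ U) g → Function.Injective fun x : M' => gfn (k := k) p q a • x) := by
  have hpo := isPushout_sections H hU
  letI i1 : Algebra k Γ(X, U) := (secMap f U).toAlgebra
  letI i2 : Algebra K Γ(Y, p ⁻¹ᵁ U) := (secMap q (p ⁻¹ᵁ U)).toAlgebra
  letI i3 : Algebra Γ(X, U) Γ(Y, p ⁻¹ᵁ U) := (p.app U).hom.toAlgebra
  letI i4 : Algebra k Γ(Y, p ⁻¹ᵁ U) := ((secMap q (p ⁻¹ᵁ U)).comp (algebraMap k K)).toAlgebra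
  have i5 : IsScalarTower k K Γ(Y, p ⁻¹ᵁ U) := IsScalarTower.of_algebraMap_eq' rfl
  have i6 : IsScalarTower k Γ(X, U) Γ(Y, p ⁻¹ᵁ U) := IsScalarTower.of_algebraMap_eq' (by
    have := hpo.w
    exact congrArg CommRingCat.Hom.hom this.symm)
  have i7 : Algebra.IsPushout k Γ(X, U) K Γ(Y, p ⁻¹ᵁ U) := CommRingCat.isPushout_iff_isPushout.mp hpo
  have i8 : Algebra.IsPushout k K Γ(X, U) Γ(Y, p ⁻¹ᵁ U) := i7.symm
  have hg : gfn (k := k) p q a = K939.GenHypLoc.gf k ι K Γ(X, U) Γ(Y, p ⁻¹ᵁ U) a := rfl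
  rw [hg]
  refine ⟨?_, K939.GenHypLoc.gf_mem_nonZeroDivisors k ι K _ _ a i₀ h, ?_,
    fun _ hn => K939.GenHypLoc.isIntegrallyClosed_quot k ι K _ _ a i₀ h hn, fun M M' _ _ _ _ _ _ g hg =>
      K939.GenHypLoc.gf_smul_injective k ι K _ _ a i₀ h M M' g hg⟩
  · exact K939.GenHypLoc.flat_quot k ι K _ _ a i₀ h
  · intro hd
    exact K939.GenHypLoc.isDomain k ι K Γ(X, U) Γ(Y, p ⁻¹ᵁ U)

end

end K939.GenHypSec
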