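import Groth.Agent.CycB.K0Main

/-!
# Classes in `K_0(Coh_{≤ n}) / K_{n-2}` and lengths in codimension one

* `cohLe_ker`, `cohLe_coker`: the dimension of the support of a kernel / cokernel;
* `toQ_sub_eq`: `[N] - [M] = [coker u] - [ker u]`;
* `toQ_eq_of_bij`: a morphism bijective on the stalks at the points of `δ`-dimension `> b` identifies classes;
* `toQ_sub_eq_of_length`: for `u : M ⟶ N`, `u' : M' ⟶ N'` bijective at the points of dimension `> n - 1` and with
  the same (relative) length at the points of dimension `n - 1` one has `[N] - [M] = [N'] - [M']` modulo `K_{n-2}`.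
-/

set_option autoImplicit false
universe w u

open CategoryTheory CategoryTheory.Limits AlgebraicGeometry TopologicalSpace

namespace K939.Idx

open Groth.Agent.CycB Groth.Agent.CycB.StalkExact Groth.Agent.CycB.RatK0 Groth.Agent.CycB.PureK
  Groth.Agent.Sga67.K0Basic Groth.Agent.CycB.LFCoprod

variable {X : Scheme.{u}} {δ : X → ℤ}

theorem length_ker_stalk {M N : X.Modules} (u : M ⟶ N) (x : X) :
    Module.length (X.presheaf.stalk x) ((kernel u).presheaf.stalk x) =
      Module.length (X.presheaf.stalk x) (LinearMap.ker (stalkLin u x)) := by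
  have hex := stalkLin_exact (ShortComplex.mk (kernel.ι u) u (kernel.condition u))
    (ShortComplex.exact_of_f_is_kernel _ (kernelIsKernel _)) x
  have hinj : Function.Injective (stalkLin (kernel.ι u) x) := stalkLin_injective (kernel.ι u) x
  dsimp only at hex
  have h1 : LinearMap.ker (stalkLin u x) = LinearMap.range (stalkLin (kernel.ι u) x) :=
    LinearMap.exact_iff.1 hex
  rw [h1]
  exact (LinearEquiv.ofInjective _ hinj).length_eq

theorem length_coker_stalk {M N : X.Modules} (u : M ⟶ N) (x : X) :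
    Module.length (X.presheaf.stalk x) ((cokernel u).presheaf.stalk x) =
      Module.length (X.presheaf.stalk x) (N.presheaf.stalk x ⧸ LinearMap.range (stalkLin u x)) := by
  have hex := stalkLin_exact (ShortComplex.mk u (cokernel.π u) (cokernel.condition u))
    (ShortComplex.exact_of_g_is_cokernel _ (cokernelIsCokernel _)) x
  have hsurj : Function.Surjective (stalkLin (cokernel.π u) x) := stalkLin_surjective (cokernel.π u) x
  dsimp only at hex
  have h1 : LinearMap.ker (stalkLin (cokernel.π u) x) = LinearMap.range (stalkLin u x) :=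
    LinearMap.exact_iff.1 hex
  rw [← h1]
  exact ((stalkLin (cokernel.π u) x).quotKerEquivOfSurjective hsurj).length_eq.symm

theorem cohLe_ker [IsLocallyNoetherian X] {a b : ℤ} {M N : X.Modules} (hM : Cyc.CohLe δ a M)
    (hN : Cyc.CohLe δ a N) (u : M ⟶ N)
    (hu : ∀ x, b < δ x → Function.Injective (stalkLin u x)) : Cyc.CohLe δ b (kernel u) := by
  refine ⟨CohProp.isCoh_kernel u hM.1 hN.1, fun x hx => ?_⟩
  by_contra hlt
  push Not at hlt
  have h1 : Module.length (X.presheaf.stalk x) ((kernel u).presheaf.stalk x) = 0 := by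
    rw [length_ker_stalk, Module.length_eq_zero_iff, Submodule.subsingleton_iff_eq_bot,
      LinearMap.ker_eq_bot]
    exact hu x hlt
  rw [Module.length_eq_zero_iff] at h1
  exact not_nontrivial_iff_subsingleton.2 h1 hx

theorem cohLe_coker {a b : ℤ} {M N : X.Modules} (hM : Cyc.CohLe δ a M)
    (hN : Cyc.CohLe δ a N) (u : M ⟶ N)
    (hu : ∀ x, b < δ x → Function.Surjective (stalkLin u x)) : Cyc.CohLe δ b (cokernel u) := by
  refine ⟨CohProp.isCoh_cokernel u hM.1 hN.1, fun x hx => ?_⟩
  by_contra hlt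
  push Not at hlt
  have h1 : Module.length (X.presheaf.stalk x) ((cokernel u).presheaf.stalk x) = 0 := by
    rw [length_coker_stalk, Module.length_eq_zero_iff, Submodule.Quotient.subsingleton_iff,
      LinearMap.range_eq_top]
    exact hu x hlt
  rw [Module.length_eq_zero_iff] at h1
  exact not_nontrivial_iff_subsingleton.2 h1 hx

/-- `[N] - [M] = [coker u] - [ker u]`. -/
theorem toQ_sub_eq [IsLocallyNoetherian X] {a : ℤ} (b : ℤ) {M N : X.Modules} (hM : Cyc.CohLe δ a M)
    (hN : Cyc.CohLe δ a N) (u : M ⟶ N) :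
    Cyc.toK0CohQuot δ a b N - Cyc.toK0CohQuot δ a b M =
      Cyc.toK0CohQuot δ a b (cokernel u) - Cyc.toK0CohQuot δ a b (kernel u) := by
  have hK : Cyc.CohLe δ a (kernel u) := cohLe_of_mono (kernel.ι u) hM
    (CohProp.isCoh_kernel u hM.1 hN.1)
  have hC : Cyc.CohLe δ a (cokernel u) := cohLe_of_epi (cokernel.π u) hN
    (CohProp.isCoh_cokernel u hM.1 hN.1)
  have hI : Cyc.CohLe δ a (Abelian.image u) :=
    cohLe_of_epi (Abelian.factorThruImage u) hM (isCoh_image u hM.1 hN.1.1)
  have h1 := toK0CohQuot_shortExact (δ := δ) (a := a) (b := b) _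
    (Groth.Agent.Ega3B.Devissage.image_ses₁ u) hK hM hI
  have h2 := toK0CohQuot_shortExact (δ := δ) (a := a) (b := b) _
    (Groth.Agent.Ega3B.Devissage.image_ses₂ u) hI hN hC
  dsimp only at h1 h2
  rw [h1, h2]
  abel

/-- A morphism bijective on the stalks at the points of dimension `> b`. -/
theorem toQ_eq_of_bij [IsLocallyNoetherian X] {a b : ℤ} {M N : X.Modules} (hM : Cyc.CohLe δ a M)
    (hN : Cyc.CohLe δ a N) (u : M ⟶ N)
    (hu : ∀ x, b < δ x → Function.Bijective (stalkLin u x)) :
    Cyc.toK0CohQuot δ a b M = Cyc.toK0CohQuot δ a b N := by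
  have h := toQ_sub_eq b hM hN u
  rw [toK0CohQuot_eq_zero (cohLe_ker hM hN u fun x hx => (hu x hx).1),
    toK0CohQuot_eq_zero (cohLe_coker hM hN u fun x hx => (hu x hx).2), sub_zero] at h
  exact (sub_eq_zero.1 h).symm

theorem cohLe_biprod [IsLocallyNoetherian X] {k : ℤ} {M N : X.Modules} (hM : Cyc.CohLe δ k M)
    (hN : Cyc.CohLe δ k N) : Cyc.CohLe δ k (M ⊞ N) := K0Main.cohLe_biprod hM hN

theorem length_biprod_stalk (M N : X.Modules) (x : X) :
    Module.length (X.presheaf.stalk x) ((M ⊞ N).presheaf.stalk x) =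
      Module.length (X.presheaf.stalk x) (M.presheaf.stalk x) +
        Module.length (X.presheaf.stalk x) (N.presheaf.stalk x) := by
  have h := length_stalk_shortExact
    (ShortComplex.mk (biprod.inl : M ⟶ M ⊞ N) (biprod.snd : M ⊞ N ⟶ N) (by simp))
    (ShortComplex.Splitting.ofHasBinaryBiproduct M N).shortExact x
  exact h

/-- Two differences of classes in `Coh_{≤ n-1}` with the same lengths in dimension `n - 1` agree
modulo `K_{n-2}`. -/
theorem toQ_sub_eq_sub_of_length (hX : Cyc.IsSetup X δ) {a m : ℤ} (hma : m ≤ a) {A B A' B' : X.Modules}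
    (hA : Cyc.CohLe δ m A) (hB : Cyc.CohLe δ m B) (hA' : Cyc.CohLe δ m A') (hB' : Cyc.CohLe δ m B')
    (h : ∀ x, δ x = m →
      Module.length (X.presheaf.stalk x) (A.presheaf.stalk x) +
        Module.length (X.presheaf.stalk x) (B'.presheaf.stalk x) =
      Module.length (X.presheaf.stalk x) (A'.presheaf.stalk x) +
        Module.length (X.presheaf.stalk x) (B.presheaf.stalk x)) :
    Cyc.toK0CohQuot δ a (m - 1) A - Cyc.toK0CohQuot δ a (m - 1) B =
      Cyc.toK0CohQuot δ a (m - 1) A' - Cyc.toK0CohQuot δ a (m - 1) B' := by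
  have := hX.1
  have h1 : Cyc.toK0CohQuot δ m (m - 1) (A ⊞ B') = Cyc.toK0CohQuot δ m (m - 1) (A' ⊞ B) := by
    refine K0Main.toQ_eq_of_sheafFun_eq hX (cohLe_biprod hA hB') (cohLe_biprod hA' hB) ?_
    funext x
    unfold Cyc.sheafFun
    split_ifs with hx
    · rw [length_biprod_stalk, length_biprod_stalk, h x hx]
    · rfl
  rw [K0Main.toQ_biprod _ hA hB', K0Main.toQ_biprod _ hA' hB] at h1
  have h2 := congrArg (incl δ hma (m - 1)) h1
  rw [map_add, map_add, incl_toK0CohQuot hma _ hA, incl_toK0CohQuot hma _ hB,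
    incl_toK0CohQuot hma _ hA', incl_toK0CohQuot hma _ hB'] at h2
  rw [sub_eq_sub_iff_add_eq_add]
  exact h2

/-- The relative length comparison. -/
theorem toQ_sub_eq_of_length (hX : Cyc.IsSetup X δ) {n : ℤ} {M N M' N' : X.Modules}
    (hM : Cyc.CohLe δ n M) (hN : Cyc.CohLe δ n N) (hM' : Cyc.CohLe δ n M') (hN' : Cyc.CohLe δ n N')
    (u : M ⟶ N) (u' : M' ⟶ N')
    (h1 : ∀ x, n - 1 < δ x → Function.Bijective (stalkLin u x))
    (h1' : ∀ x, n - 1 < δ x → Function.Bijective (stalkLin u' x))
    (h2 : ∀ x, δ x = n - 1 →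
      Module.length (X.presheaf.stalk x) (N.presheaf.stalk x ⧸ LinearMap.range (stalkLin u x)) +
        Module.length (X.presheaf.stalk x) (LinearMap.ker (stalkLin u' x)) =
      Module.length (X.presheaf.stalk x) (N'.presheaf.stalk x ⧸ LinearMap.range (stalkLin u' x)) +
        Module.length (X.presheaf.stalk x) (LinearMap.ker (stalkLin u x))) :
    Cyc.toK0CohQuot δ n (n - 1 - 1) N - Cyc.toK0CohQuot δ n (n - 1 - 1) M =
      Cyc.toK0CohQuot δ n (n - 1 - 1) N' - Cyc.toK0CohQuot δ n (n - 1 - 1) M' := by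
  have := hX.1
  rw [toQ_sub_eq _ hM hN u, toQ_sub_eq _ hM' hN' u']
  refine toQ_sub_eq_sub_of_length hX (by omega) (cohLe_coker hM hN u fun x hx => (h1 x hx).2)
    (cohLe_ker hM hN u fun x hx => (h1 x hx).1) (cohLe_coker hM' hN' u' fun x hx => (h1' x hx).2)
    (cohLe_ker hM' hN' u' fun x hx => (h1' x hx).1) fun x hx => ?_
  rw [length_coker_stalk, length_coker_stalk, length_ker_stalk, length_ker_stalk]
  exact h2 x hx

/-- Two linear maps which agree up to isomorphisms of source and target. -/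
def SameMap {R : Type u} [CommRing R] {M N M' N' : Type u} [AddCommGroup M] [AddCommGroup N]
    [AddCommGroup M'] [AddCommGroup N'] [Module R M] [Module R N] [Module R M'] [Module R N']
    (f : M →ₗ[R] N) (f' : M' →ₗ[R] N') : Prop :=
  ∃ (e : M ≃ₗ[R] M') (e' : N ≃ₗ[R] N'), ∀ m, e' (f m) = f' (e m)

section SameMap

variable {R : Type u} [CommRing R] {M N M' N' M'' N'' : Type u} [AddCommGroup M] [AddCommGroup N]
    [AddCommGroup M'] [AddCommGroup N'] [Module R M] [Module R N] [Module R M'] [Module R N']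
    [AddCommGroup M''] [AddCommGroup N''] [Module R M''] [Module R N'']
    {f : M →ₗ[R] N} {f' : M' →ₗ[R] N'} {f'' : M'' →ₗ[R] N''}

theorem SameMap.symm (h : SameMap f f') : SameMap f' f := by
  obtain ⟨e, e', h⟩ := h
  refine ⟨e.symm, e'.symm, fun m => ?_⟩
  rw [LinearEquiv.symm_apply_eq, h, LinearEquiv.apply_symm_apply]

theorem SameMap.trans (h : SameMap f f') (h' : SameMap f' f'') : SameMap f f'' := by
  obtain ⟨e, e', h⟩ := h
  obtain ⟨d, d', h'⟩ := h'
  exact ⟨e.trans d, e'.trans d', fun m => by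
    rw [LinearEquiv.trans_apply, LinearEquiv.trans_apply, h, h']⟩

theorem SameMap.bijective (h : SameMap f f') (hf : Function.Bijective f) : Function.Bijective f' := by
  obtain ⟨e, e', h⟩ := h
  have : ⇑f' = e' ∘ f ∘ e.symm := by
    funext m
    simp [h]
  rw [this]
  exact e'.bijective.comp (hf.comp e.symm.bijective)

theorem SameMap.length_ker (h : SameMap f f') :
    Module.length R (LinearMap.ker f) = Module.length R (LinearMap.ker f') := by
  obtain ⟨e, e', h⟩ := h
  have h1 : (LinearMap.ker f).map (e : M →ₗ[R] M') = LinearMap.ker f' := by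
    ext m'
    constructor
    · rintro ⟨m, hm, rfl⟩
      have hm' : f m = 0 := hm
      change f' (e m) = 0
      rw [← h, hm', map_zero]
    · intro hm'
      have hm'' : f' m' = 0 := hm'
      refine ⟨e.symm m', ?_, e.apply_symm_apply m'⟩
      change f (e.symm m') = 0
      apply e'.injective
      rw [h, e.apply_symm_apply, hm'', map_zero]
  exact (e.ofSubmodules _ _ h1).length_eq

theorem SameMap.length_coker (h : SameMap f f') :
    Module.length R (N ⧸ LinearMap.range f) = Module.length R (N' ⧸ LinearMap.range f') := by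
  obtain ⟨e, e', h⟩ := h
  refine (Submodule.Quotient.equiv _ _ e' ?_).length_eq
  ext n'
  constructor
  · rintro ⟨_, ⟨m, rfl⟩, rfl⟩
    exact ⟨e m, (h m).symm⟩
  · rintro ⟨m', rfl⟩
    refine ⟨f (e.symm m'), ⟨_, rfl⟩, ?_⟩
    change e' (f (e.symm m')) = f' m'
    rw [h, e.apply_symm_apply]

end SameMap

theorem toQ_sub_eq_of_sameMap (hX : Cyc.IsSetup X δ) {n : ℤ} {M N M' N' : X.Modules}
    (hM : Cyc.CohLe δ n M) (hN : Cyc.CohLe δ n N) (hM' : Cyc.CohLe δ n M') (hN' : Cyc.CohLe δ n N')
    (u : M ⟶ N) (u' : M' ⟶ N')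
    (h1 : ∀ x, n - 1 < δ x → Function.Bijective (stalkLin u x))
    (h1' : ∀ x, n - 1 < δ x → Function.Bijective (stalkLin u' x))
    (h2 : ∀ x, δ x = n - 1 → SameMap (stalkLin u x) (stalkLin u' x)) :
    Cyc.toK0CohQuot δ n (n - 1 - 1) N - Cyc.toK0CohQuot δ n (n - 1 - 1) M =
      Cyc.toK0CohQuot δ n (n - 1 - 1) N' - Cyc.toK0CohQuot δ n (n - 1 - 1) M' :=
  toQ_sub_eq_of_length hX hM hN hM' hN' u u' h1 h1' fun x hx => by
    rw [(h2 x hx).length_coker, (h2 x hx).length_ker]

end K939.Idx
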