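import Groth.Agent.RefCh.K939.Gen
import Groth.Agent.Fga.TwistCoh
import Groth.Agent.Fga.PicMon
import Groth.Agent.Sga2.StalkGen68

/-!
# The operators `[F] ↦ [M ⊗ F]` and the mixed differences `Σ_I (-1)^|I| [M_I ⊗ F]` on `K_0(Coh)`

`Km δ n m` is the subgroup of `K_0(Coh_{≤ n})` generated by the coherent modules with support of dimension `≤ m`.
* `T hM : K →+ K`, the class of `M ⊗ F`;
* `sub_T_mem`: `(1 - T) K_m ⊆ K_{m-1}`;
* `S M : K →+ K`, the mixed difference, `S_cons`, `S_mem`: an `r`-fold mixed difference maps `K_m` into `K_{m-r}`.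
-/

set_option autoImplicit false
set_option linter.style.haveILetI false
universe w u

open CategoryTheory CategoryTheory.Limits AlgebraicGeometry TopologicalSpace

namespace K939.Op

open Groth.Agent.CycB Groth.Agent.CycB.StalkExact Groth.Agent.CycB.RatK0 Groth.Agent.Sga67.K0Basic
  Groth.Agent.Fga Groth.Agent.Fga.PicMon Groth.Agent.Ega2

variable {X : Scheme.{u}} {δ : X → ℤ}

/-- The subgroup of `K_0(Coh_{≤ n})` generated by the classes of `Coh_{≤ m}`. -/
noncomputable def Km (δ : X → ℤ) (n m : ℤ) : AddSubgroup (KZero.K0sub (Cyc.CohLe δ n)) :=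
  AddSubgroup.closure {c | ∃ F : X.Modules, Cyc.CohLe δ m F ∧ c = KZero.clSub (Cyc.CohLe δ n) F}

theorem cl_mem_Km {n m : ℤ} {F : X.Modules} (hF : Cyc.CohLe δ m F) :
    KZero.clSub (Cyc.CohLe δ n) F ∈ Km δ n m := AddSubgroup.subset_closure ⟨F, hF, rfl⟩

theorem toQ_eq_iff {n m : ℤ} (F G : X.Modules) :
    Cyc.toK0CohQuot δ n m F = Cyc.toK0CohQuot δ n m G ↔
      KZero.clSub (Cyc.CohLe δ n) F - KZero.clSub (Cyc.CohLe δ n) G ∈ Km δ n m := by
  unfold Cyc.toK0CohQuot
  rw [← sub_eq_zero, ← QuotientAddGroup.mk_sub, QuotientAddGroup.eq_zero_iff]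
  rfl

theorem Km_mono {n m m' : ℤ} (h : m ≤ m') : Km δ n m ≤ Km δ n m' := by
  refine AddSubgroup.closure_mono ?_
  rintro _ ⟨F, hF, rfl⟩
  exact ⟨F, CohLe.mono h hF, rfl⟩

variable {n : ℤ}

instance cohLe_isoClosed : (Cyc.CohLe δ n).IsClosedUnderIsomorphisms where
  of_iso {F G} e h := by
    refine ⟨(CohProp.coh X).prop_of_iso e h.1, fun x hx => h.2 x ?_⟩
    exact (stalkLinEquiv e x).toEquiv.nontrivial

instance cohLe_containsZero [IsLocallyNoetherian X] : (Cyc.CohLe δ n).ContainsZero :=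
  ⟨⟨_, isZero_zero _, K0Main.cohLe_zero⟩⟩

theorem cl_iso [IsLocallyNoetherian X] {F G : X.Modules} (e : F ≅ G) :
    KZero.clSub (Cyc.CohLe δ n) F = KZero.clSub (Cyc.CohLe δ n) G := clSub_iso e

/-- Tensoring with an invertible module preserves `Coh_{≤ m}`. -/
theorem cohLe_tensor {m : ℤ} {M F : X.Modules} (hM : PicF.IsInvertible M) (hF : Cyc.CohLe δ m F) :
    Cyc.CohLe δ m (CohB1.tensorMod M F) := by
  have h1 : Coh.IsCoh (CohB1.tensorMod F M) := TwistCoh.isCoh_tensor hF.1 hM
  have h2 : Cyc.CohLe δ m (CohB1.tensorMod F M) := ⟨h1, fun x hx => hF.2 x <| by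
    have h3 : x ∈ CohB1.support (CohB1.tensorMod F M) := not_subsingleton_iff_nontrivial.2 hx
    exact not_subsingleton_iff_nontrivial.1 (TwistCoh.support_tensor_subset hM h3)⟩
  exact (Cyc.CohLe δ m).prop_of_iso (Tens.swap F M) h2

/-- The class of `M ⊗ F`, as a homomorphism. -/
noncomputable def T [IsLocallyNoetherian X] (δ : X → ℤ) (n : ℤ) {M : X.Modules} (hM : PicF.IsInvertible M) :
    KZero.K0sub (Cyc.CohLe δ n) →+ KZero.K0sub (Cyc.CohLe δ n) :=
  liftSub (Cyc.CohLe δ n) (fun F => KZero.clSub (Cyc.CohLe δ n) (CohB1.tensorMod M F))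
    fun S hS h₁ h₂ h₃ => clSub_of_shortExact _ (TwistCoh.shortExact_tensorBi hM S hS)
      (cohLe_tensor hM h₁) (cohLe_tensor hM h₂) (cohLe_tensor hM h₃)

theorem T_cl [IsLocallyNoetherian X] {M F : X.Modules} (hM : PicF.IsInvertible M) (hF : Cyc.CohLe δ n F) :
    T δ n hM (KZero.clSub (Cyc.CohLe δ n) F) = KZero.clSub (Cyc.CohLe δ n) (CohB1.tensorMod M F) :=
  liftSub_clSub _ _ hF

/-- `[F] - [M ⊗ F] ∈ K_{m-1}` for `F` in `Coh_{≤ m}`. -/
theorem cl_sub_mem (hX : Cyc.IsSetup X δ) {m : ℤ} (hm : m ≤ n) {M F : X.Modules} (hM : PicF.IsInvertible M)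
    (hF : Cyc.CohLe δ m F) :
    KZero.clSub (Cyc.CohLe δ n) F - KZero.clSub (Cyc.CohLe δ n) (CohB1.tensorMod M F) ∈
      Km δ n (m - 1) := by
  have := hX.1
  rw [← toQ_eq_iff]
  have h1 : Cyc.toK0CohQuot δ m (m - 1) F = Cyc.toK0CohQuot δ m (m - 1) (CohB1.tensorMod M F) := by
    refine K0Main.toQ_eq_of_sheafFun_eq hX hF (cohLe_tensor hM hF) ?_
    funext x
    unfold Cyc.sheafFun
    split_ifs with hx
    · obtain ⟨e⟩ := Groth.Agent.Sga2.StalkGen68.nonempty_stalkEquiv_tensor F hM x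
      rw [e.length_eq, (stalkLinEquiv (Tens.swap F M) x).length_eq]
    · rfl
  have h2 := congrArg (incl δ hm (m - 1)) h1
  rw [incl_toK0CohQuot hm _ hF, incl_toK0CohQuot hm _ (cohLe_tensor hM hF)] at h2
  exact h2

theorem sub_T_mem (hX : Cyc.IsSetup X δ) [IsLocallyNoetherian X] {m : ℤ} (hm : m ≤ n) {M : X.Modules}
    (hM : PicF.IsInvertible M) {c : KZero.K0sub (Cyc.CohLe δ n)} (hc : c ∈ Km δ n m) :
    c - T δ n hM c ∈ Km δ n (m - 1) := by
  unfold Km at hc
  induction hc using AddSubgroup.closure_induction with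
  | mem x hx =>
    obtain ⟨F, hF, rfl⟩ := hx
    rw [T_cl hM (CohLe.mono hm hF)]
    exact cl_sub_mem hX hm hM hF
  | zero => rw [map_zero, sub_zero]; exact AddSubgroup.zero_mem _
  | add x y _ _ hx hy =>
    have : x + y - T δ n hM (x + y) = (x - T δ n hM x) + (y - T δ n hM y) := by
      rw [map_add]; abel
    rw [this]; exact AddSubgroup.add_mem _ hx hy
  | neg x _ hx =>
    have : -x - T δ n hM (-x) = -(x - T δ n hM x) := by
      rw [map_neg]; abel
    rw [this]; exact AddSubgroup.neg_mem _ hx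

/-! ### Mixed differences -/

section DSum

universe v v'
variable {G : Type v} [CommMonoid G] {A : Type v'} [AddCommGroup A]

/-- The `r`-fold mixed difference at `1` of a function with values in an abelian group. -/
def dSum (φ : G → A) {r : ℕ} (g : Fin r → G) : A :=
  ∑ I : Finset (Fin r), (-1 : ℤ) ^ I.card • φ (∏ i ∈ I, g i)

theorem dSum_zero (φ : G → A) (g : Fin 0 → G) : dSum φ g = φ 1 := by
  unfold dSum
  rw [Finset.univ_unique, Finset.sum_singleton]
  rw [show (default : Finset (Fin 0)) = ∅ from rfl]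
  simp

theorem dSum_add (φ ψ : G → A) {r : ℕ} (g : Fin r → G) :
    dSum (fun x => φ x + ψ x) g = dSum φ g + dSum ψ g := by
  unfold dSum
  rw [← Finset.sum_add_distrib]
  exact Finset.sum_congr rfl fun I _ => by rw [smul_add]

theorem dSum_sub (φ ψ : G → A) {r : ℕ} (g : Fin r → G) :
    dSum (fun x => φ x - ψ x) g = dSum φ g - dSum ψ g := by
  unfold dSum
  rw [← Finset.sum_sub_distrib]
  exact Finset.sum_congr rfl fun I _ => by rw [smul_sub]

/-- Subsets of `Fin (r + 1)`: those not containing `0` and those containing `0`. -/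
theorem dSum_cons (φ : G → A) {r : ℕ} (a : G) (g : Fin r → G) :
    dSum φ (Fin.cons a g : Fin (r + 1) → G) = dSum φ g - dSum (fun x => φ (a * x)) g := by
  have hinj : Function.Injective (fun I : Finset (Fin r) => I.image Fin.succ) :=
    Finset.image_injective (Fin.succ_injective r)
  have h0 : ∀ I : Finset (Fin r), (0 : Fin (r + 1)) ∉ I.image Fin.succ := by
    intro I h
    obtain ⟨j, -, hj⟩ := Finset.mem_image.mp h
    exact Fin.succ_ne_zero j hj
  have huniv : (Finset.univ : Finset (Fin (r + 1))) = insert 0 ((Finset.univ : Finset (Fin r)).image Fin.succ) := by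
    ext i
    refine ⟨fun _ => ?_, fun _ => Finset.mem_univ _⟩
    cases i using Fin.cases with
    | zero => simp
    | succ i => simp
  have hprod : ∀ I : Finset (Fin r), ∏ i ∈ I.image Fin.succ, (Fin.cons a g : Fin (r + 1) → G) i = ∏ i ∈ I, g i := by
    intro I
    rw [Finset.prod_image (fun x _ y _ h => Fin.succ_injective r h)]
    exact Finset.prod_congr rfl fun i _ => by simp
  unfold dSum
  rw [← Finset.powerset_univ, huniv, Finset.sum_powerset_insert (h0 _), Finset.powerset_image,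
    Finset.sum_image (fun x _ y _ h => hinj h), Finset.sum_image (fun x _ y _ h => hinj h),
    Finset.powerset_univ, sub_eq_add_neg, ← Finset.sum_neg_distrib]
  refine congrArg₂ (· + ·) ?_ ?_
  · refine Finset.sum_congr rfl fun I _ => ?_
    rw [hprod, Finset.card_image_of_injective _ (Fin.succ_injective r)]
  · refine Finset.sum_congr rfl fun I _ => ?_
    rw [Finset.card_insert_of_notMem (h0 I), Finset.prod_insert (h0 I), hprod,
      Finset.card_image_of_injective _ (Fin.succ_injective r), Fin.cons_zero, pow_succ, mul_neg_one, neg_smul]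

end DSum

end K939.Op
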