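import Groth.Agent.RefCh.K939.Pos

/-!
# Additivity of the mixed differences in one line bundle
-/

set_option autoImplicit false
set_option linter.style.haveILetI false
universe w u v v'

open CategoryTheory CategoryTheory.Limits AlgebraicGeometry TopologicalSpace

namespace K939.Op3

open Groth.Agent.CycB Groth.Agent.Fga.PicMon K939.Op K939.Op2 Groth.Agent.Sga67.K0Basic

section DSum

variable {G : Type v} [CommMonoid G] {A : Type v'} [AddCommGroup A]

theorem dSum_cons_mul (φ : G → A) {r : ℕ} (a b : G) (g : Fin r → G) :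
    dSum φ (Fin.cons (a * b) g : Fin (r + 1) → G) =
      dSum φ (Fin.cons a g : Fin (r + 1) → G) + dSum φ (Fin.cons b g : Fin (r + 1) → G) -
      dSum φ (Fin.cons a (Fin.cons b g : Fin (r + 1) → G) : Fin (r + 2) → G) := by
  rw [dSum_cons, dSum_cons, dSum_cons, dSum_cons, dSum_cons, dSum_cons]
  have h : (fun x => φ (a * b * x)) = fun x => φ (a * (b * x)) := by
    funext x; rw [mul_assoc]
  rw [h]
  abel

end DSum

variable {X : Scheme.{u}} {δ : X → ℤ} {n : ℤ} [IsLocallyNoetherian X]

theorem forall_cons {r : ℕ} {A : X.Modules} {M : Fin r → X.Modules} (hA : PicF.IsInvertible A)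
    (hM : ∀ i, PicF.IsInvertible (M i)) (i : Fin (r + 1)) :
    PicF.IsInvertible ((Fin.cons A M : Fin (r + 1) → X.Modules) i) := by
  cases i using Fin.cases with
  | zero => exact hA
  | succ i => exact hM i

theorem S_cons_tensor {r : ℕ} {A B : X.Modules} {M : Fin r → X.Modules} (hA : PicF.IsInvertible A)
    (hB : PicF.IsInvertible B) (hM : ∀ i, PicF.IsInvertible (M i))
    (c : KZero.K0sub (Cyc.CohLe δ n)) :
    S δ n (forall_cons (Groth.Agent.Fdesc.LocGen.isInvertible_tensorMod hA hB) hM) c =
      S δ n (forall_cons hA hM) c + S δ n (forall_cons hB hM) c -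
        S δ n (forall_cons hA (forall_cons hB hM)) c := by
  have : S δ n (forall_cons (Groth.Agent.Fdesc.LocGen.isInvertible_tensorMod hA hB) hM) =
      S δ n (forall_cons hA hM) + S δ n (forall_cons hB hM) -
        S δ n (forall_cons hA (forall_cons hB hM)) := by
    refine hom_ext_sub fun F hF => ?_
    rw [AddMonoidHom.sub_apply, AddMonoidHom.add_apply, S_cl _ hF, S_cl _ hF, S_cl _ hF, S_cl _ hF,
      mc_cons, mc_cons, mc_cons, mc_cons, mc_cons, mc_tensor, dSum_cons_mul]
  rw [this]
  rfl

end K939.Op3
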