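import Groth.Agent.RefCh.K939.Op2
import Groth.Agent.CurvesB.DimPts

/-!
# `K_{-1} = 0` for a dimension function normalised by `δ(η) = dim X`
-/

set_option autoImplicit false
set_option linter.style.haveILetI false
universe w u

open CategoryTheory CategoryTheory.Limits AlgebraicGeometry TopologicalSpace

namespace K939.Pos

open Groth.Agent.CycB K939.Op

variable {X : Scheme.{u}} {δ : X → ℤ} [IsIntegral X]

theorem nonneg (hX : Cyc.IsSetup X δ) {n : ℕ} (hdim : topologicalKrullDim X ≤ (n : ℕ))
    (hn : δ (genericPoint X) = n) (x : X) : 0 ≤ δ x := by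
  have h1 := LocQuot.ringKrullDim_locQuot hX.2.2 (genericPoint_specializes x)
  have h2 : ringKrullDim (Cyc.LocQuot x (genericPoint X) (genericPoint_specializes x)) ≤
      ringKrullDim (X.presheaf.stalk x) := ringKrullDim_quotient_le _
  have h3 := Groth.Agent.CurvesB.DimPts.ringKrullDim_stalk_le x
  have h4 := h2.trans (h3.trans hdim)
  rw [h1, hn] at h4
  have h5 : ((n : ℤ) - δ x).toNat ≤ n := by exact_mod_cast h4
  omega

theorem Km_eq_bot (hX : Cyc.IsSetup X δ) {n : ℕ} (hdim : topologicalKrullDim X ≤ (n : ℕ))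
    (hn : δ (genericPoint X) = n) {m : ℤ} (hm : m < 0) {k : ℤ} : Km δ k m = ⊥ := by
  have := hX.1
  unfold Km
  rw [AddSubgroup.closure_eq_bot_iff]
  rintro _ ⟨F, hF, rfl⟩
  have hzero : IsZero F := by
    refine Groth.Agent.CohqB.LocalQC.isZero_of_stalks fun x => ?_
    rw [← not_nontrivial_iff_subsingleton]
    intro hx
    have h1 := hF.2 x hx
    have h2 := nonneg hX hdim hn x
    omega
  exact Groth.Agent.Sga67.K0Basic.clSub_of_isZero hzero

end K939.Pos
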