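import Groth.Agent.RefCh.K939.FlatDual
import Groth.Agent.RefCh.K938.Val

/-!
# Flat pullback on the class group of rank one reflexive modules
-/

set_option autoImplicit false
universe u
open CategoryTheory CategoryTheory.Limits AlgebraicGeometry Opposite TopologicalSpace

namespace K939.PullCl

open Groth.Agent K939.FlatDual RefFun K938.Val

variable {X Z : Scheme.{u}} [IsIntegral X] [IsIntegral Z] [IsLocallyNoetherian X] [IsLocallyNoetherian Z]
  (j : Z ⟶ X) [Flat j]

/-- The pullback of a class. -/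
noncomputable def pullFun (c : Ref1Set X) : Ref1Set Z :=
  cls ((Scheme.Modules.pullback j).obj (rep c)) (isRef1_pullback (isRef1_rep c))

theorem pullFun_cls {F : X.Modules} (hF : RefHull.IsRef1 F) :
    pullFun j (cls F hF) = cls ((Scheme.Modules.pullback j).obj F) (isRef1_pullback hF) := by
  rw [pullFun, cls_eq_cls_iff]
  obtain ⟨e⟩ := (cls_eq_cls_iff (isRef1_rep _) hF).1 (cls_rep (cls F hF))
  exact ⟨(Scheme.Modules.pullback j).mapIso e⟩

variable [Law X] [Law Z]

/-- Flat pullback as a homomorphism. -/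
noncomputable def pullCl : Ref1Set X →* Ref1Set Z :=
  MonoidHom.mk' (pullFun j) fun a b => by
    obtain ⟨F, hF, rfl⟩ := exists_eq_cls a
    obtain ⟨G, hG, rfl⟩ := exists_eq_cls b
    rw [← K938.RefCl.cls_refTensor, pullFun_cls, pullFun_cls, pullFun_cls, ← K938.RefCl.cls_refTensor,
      cls_eq_cls_iff]
    exact nonempty_refTensor hF.1 hG.1

theorem pullCl_cls {F : X.Modules} (hF : RefHull.IsRef1 F) :
    pullCl j (cls F hF) = cls ((Scheme.Modules.pullback j).obj F) (isRef1_pullback hF) := pullFun_cls j hF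

/-- Comparison of values. -/
theorem val_pull {A : Type*} {φ : X.Modules → A} {ψ : Z.Modules → A}
    (hφ : ∀ F G : X.Modules, Nonempty (F ≅ G) → φ F = φ G) (hψ : ∀ F G : Z.Modules, Nonempty (F ≅ G) → ψ F = ψ G)
    (h : ∀ F : X.Modules, Coh.IsCoh F → φ F = ψ ((Scheme.Modules.pullback j).obj F)) (c : Ref1Set X) :
    val φ c = val ψ (pullCl j c) := by
  obtain ⟨F, hF, rfl⟩ := exists_eq_cls c
  rw [pullCl_cls, val_cls hφ, val_cls hψ, h F hF.1]

end K939.PullCl
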