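import Groth.Agent.RefCh.K939.Gen
import Groth.Agent.Ega4dA.ParaBig
import Groth.Agent.CycB.ModStalk
import Groth.Prelude.Def_RefPow

/-!
# Rank one modules: generic stalks, and `[O_X] = [ℒ]` modulo `K_{n-1}`
-/

set_option autoImplicit false
set_option linter.style.haveILetI false
universe w u

open CategoryTheory CategoryTheory.Limits AlgebraicGeometry TopologicalSpace

namespace K939.Ref1

open Groth.Agent.CycB Groth.Agent.CycB.ModStalk

variable {X : Scheme.{u}} {δ : X → ℤ}

/-- The linear equivalence given by a generator of a stalk. -/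
noncomputable def genEquiv {L : X.Modules} {x : X} {t : L.presheaf.stalk x} (ht : IsGen L x t) :
    X.presheaf.stalk x ≃ₗ[X.presheaf.stalk x] L.presheaf.stalk x :=
  LinearEquiv.ofBijective (LinearMap.toSpanSingleton (X.presheaf.stalk x) (L.presheaf.stalk x) t) ht

theorem exists_gen_structureModule (x : X) :
    ∃ t : (Coh.structureModule X).presheaf.stalk x, IsGen (Coh.structureModule X) x t :=
  exists_isGen (Groth.Agent.Ega4dA.ParaCrit.structureModule_isInvertible X) x

/-- The points over which `F` is invertible. -/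
theorem exists_gen_of_mem {F : X.Modules} {U : X.Opens} (h : PicF.IsInvertible (F.restrict U.ι)) {x : X}
    (hx : x ∈ U) : ∃ t : F.presheaf.stalk x, IsGen F x t := by
  rw [← Groth.Agent.Ega4dA.ParaBig.invOn_iff] at h
  obtain ⟨W, hWU, hxW, s, hs⟩ := h _ hx
  exact ⟨_, IsGenOn.isGen (L := F) (U := W) (t := s) hs _ hxW⟩

theorem exists_gen [IsIntegral X] {F : X.Modules} (h : RefHull.GenInvertible F) :
    ∃ t : F.presheaf.stalk (genericPoint X), IsGen F (genericPoint X) t := by
  obtain ⟨U, hU, hinv⟩ := h
  refine exists_gen_of_mem hinv ?_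
  have h1 : (U : Set X).Nonempty := hU.nonempty
  exact ((genericPoint_spec X).mem_open_set_iff U.isOpen).mpr (by simpa using h1)

theorem isCoh_structureModule [IsLocallyNoetherian X] : Coh.IsCoh (Coh.structureModule X) :=
  Groth.Agent.Fdesc.StructMod.isCoh_structureModule X

/-- Coherent modules of generic rank one have the same class modulo `K_{n-1}`. -/
theorem toQ_eq [IsIntegral X] (hX : Cyc.IsSetup X δ) {n : ℤ} (hn : δ (genericPoint X) = n) {F G : X.Modules}
    (hF : Coh.IsCoh F) (hG : Coh.IsCoh G)
    (e : F.presheaf.stalk (genericPoint X) ≃ₗ[X.presheaf.stalk (genericPoint X)]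
      G.presheaf.stalk (genericPoint X)) :
    Cyc.toK0CohQuot δ n (n - 1) F = Cyc.toK0CohQuot δ n (n - 1) G := by
  refine K0Main.toQ_eq_of_sheafFun_eq hX (Gen.cohLe_of_isCoh hX hF hn) (Gen.cohLe_of_isCoh hX hG hn) ?_
  funext x
  unfold Cyc.sheafFun
  split_ifs with hx
  · obtain rfl := Gen.eq_gen hX (x := x) (by omega)
    rw [e.length_eq]
  · rfl

end K939.Ref1
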