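import Groth.Agent.RefCh.K939.TensCmp
import Groth.Agent.RefCh.K939.Pos

/-!
# Sums of classes modulo `K_m`, and vanishing of mixed differences on `K_{m}` for small `m`
-/

set_option autoImplicit false
set_option linter.style.haveILetI false
universe w u

open CategoryTheory CategoryTheory.Limits AlgebraicGeometry TopologicalSpace

namespace K939.SZero

open Groth.Agent.CycB K939.Op K939.Op2

variable {X : Scheme.{u}} {δ : X → ℤ} {n m : ℤ}

theorem toQ_add_eq_iff (F G F' G' : X.Modules) :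
    Cyc.toK0CohQuot δ n m F + Cyc.toK0CohQuot δ n m G =
        Cyc.toK0CohQuot δ n m F' + Cyc.toK0CohQuot δ n m G' ↔
      (KZero.clSub (Cyc.CohLe δ n) F + KZero.clSub (Cyc.CohLe δ n) G) -
        (KZero.clSub (Cyc.CohLe δ n) F' + KZero.clSub (Cyc.CohLe δ n) G') ∈ Km δ n m := by
  unfold Cyc.toK0CohQuot
  rw [← sub_eq_zero, ← QuotientAddGroup.mk_add, ← QuotientAddGroup.mk_add, ← QuotientAddGroup.mk_sub,
    QuotientAddGroup.eq_zero_iff]
  rfl

variable [IsIntegral X]

theorem S_eq_zero (hX : Cyc.IsSetup X δ) [IsLocallyNoetherian X] {N : ℕ}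
    (hdim : topologicalKrullDim X ≤ (N : ℕ)) (hn : δ (genericPoint X) = N) {r : ℕ} {M : Fin r → X.Modules}
    (hM : ∀ i, PicF.IsInvertible (M i)) (hm : m ≤ n) (hmr : m < r)
    {c : KZero.K0sub (Cyc.CohLe δ n)} (hc : c ∈ Km δ n m) : S δ n hM c = 0 := by
  have h := S_mem hX hM hm (m' := m - r) rfl hc
  rw [Pos.Km_eq_bot hX hdim hn (by omega), AddSubgroup.mem_bot] at h
  exact h

end K939.SZero
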