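import Groth.Agent.RefCh.K939.SurfGeo
import Groth.Agent.RefCh.K938.DefectSerre
import Groth.Agent.RefCh.K938.DefectBound
import Groth.Agent.RefCh.K938.EulerLink

/-!
# Bounded error: Euler characteristics of hulls and of invertible modules on the resolution
-/

set_option autoImplicit false
universe u
open CategoryTheory CategoryTheory.Limits AlgebraicGeometry Opposite TopologicalSpace

namespace K939.SurfBd

open Groth.Agent Groth.Agent.Grpsch.PicGrp Groth.Agent.Dix.IdealModCartier K938 K938.LocComb K938.LocGeom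
  K938.EulerLink K938.Defect K939.SurfGeo Groth.Agent.VarietyA.EulerLES

section ex

variable {k : Type u} [Field k] {X Y : Scheme.{u}} [X.Over (Spec (CommRingCat.of k))]
  [Y.Over (Spec (CommRingCat.of k))] (π : Y ⟶ X)

theorem ex_congr {L L' : Y.Modules} (e : L ≅ L') : ex k π L = ex k π L' := by
  unfold ex
  rw [Fga.HodgePush.euler_congr k Y e, Fga.HodgePush.euler_congr k X ((Scheme.Modules.pushforward π).mapIso e)]

variable (k) in
/-- The excess as a function on `Pic`. -/
noncomputable def exP : Pic Y → ℕ∞ :=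
  Quotient.lift (s := isoSetoid Y) (fun L => (((ex k π L.1).toNat : ℕ) : ℕ∞))
    (fun _ _ ⟨e⟩ => by rw [ex_congr π e])

theorem exP_mk {L : Y.Modules} (hL : PicF.IsInvertible L) : exP k π (mk L hL) = (((ex k π L).toNat : ℕ) : ℕ∞) := rfl

end ex

section fib

variable {X Y : Scheme.{u}} (π : Y ⟶ X)

theorem dim_fiber (x : X) : topologicalKrullDim (π.fiber x) = topologicalKrullDim (π ⁻¹' {x} : Set Y) := by
  have h := (π.fiberι x).isEmbedding.toHomeomorph.isHomeomorph.topologicalKrullDim_eq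
  rw [h, Scheme.Hom.range_fiberι]

theorem dim_le_zero_of_subsingleton {T : Type*} [TopologicalSpace T] [Subsingleton T] : topologicalKrullDim T ≤ 0 := by
  have : Subsingleton (IrreducibleCloseds T) := by
    refine ⟨fun a b => ?_⟩
    ext x
    obtain ⟨y, hy⟩ := a.isIrreducible.nonempty
    obtain ⟨z, hz⟩ := b.isIrreducible.nonempty
    rw [Subsingleton.elim x y]
    exact ⟨fun _ => Subsingleton.elim z y ▸ hz, fun _ => hy⟩
  exact Order.krullDim_nonpos_of_subsingleton

end fib

section data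

variable {k : Type u} [Field k] {Z : Scheme.{u}} [Z.Over (Spec (CommRingCat.of k))] (D : Data k Z)

/-- The open set over which `π` is an isomorphism. -/
def U : Z.Opens := ⟨(D.I.support : Set Z)ᶜ, D.I.support.isClosed.isOpen_compl⟩

theorem mem_U {x : Z} : x ∈ U D ↔ x ∉ D.I.support := Iff.rfl

theorem isIso_restrict : IsIso (D.π ∣_ U D) := SurfRes.isIso_offSupport D.blow _ fun _ h => h

theorem injective_on {y y' : D.Y} (hy : D.π y ∈ U D) (h : D.π y = D.π y') : y = y' := by
  have := isIso_restrict D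
  have hy' : D.π y' ∈ U D := h ▸ hy
  let a : (D.π ⁻¹ᵁ U D : D.Y.Opens).toScheme := ⟨y, hy⟩
  let a' : (D.π ⁻¹ᵁ U D : D.Y.Opens).toScheme := ⟨y', hy'⟩
  have key : ∀ a : (D.π ⁻¹ᵁ U D : D.Y.Opens).toScheme, (U D).ι ((D.π ∣_ U D) a) = D.π a.1 := by
    intro a
    rw [← Scheme.Hom.comp_apply, morphismRestrict_ι, Scheme.Hom.comp_apply]
    rfl
  have h3 : (D.π ∣_ U D) a = (D.π ∣_ U D) a' := by
    apply (U D).ι.isOpenEmbedding.injective
    exact (key a).trans (h.trans (key a').symm)
  have h4 := (D.π ∣_ U D).homeomorph.injective h3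
  exact congrArg Subtype.val h4

theorem fib0 (x : Z) (hx : x ∉ D.I.support) : topologicalKrullDim (D.π.fiber x) ≤ (0 : ℕ) := by
  rw [dim_fiber]
  have : Subsingleton (D.π ⁻¹' {x} : Set D.Y) := by
    refine ⟨fun a b => Subtype.ext (injective_on D ?_ ?_)⟩
    · rw [show D.π a.1 = x from a.2]; exact hx
    · exact (show D.π a.1 = x from a.2).trans (show D.π b.1 = x from b.2).symm
  exact dim_le_zero_of_subsingleton

theorem gen_notMem : D.π (genericPoint D.Y) ∉ D.I.support := by
  intro h
  obtain ⟨j, z, hz⟩ := D.union _ h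
  have h1 : IsClosed (Set.range (D.S.c j)) := (D.S.c j).isClosedEmbedding.isClosed_range
  have h2 : Set.range (D.S.c j) = Set.univ := by
    rw [← Set.univ_subset_iff, ← genericPoint_closure (α := D.Y)]
    exact closure_minimal (Set.singleton_subset_iff.2 ⟨z, hz⟩) h1
  have h3 := (D.S.c j).isClosedEmbedding.isEmbedding.toHomeomorph.isHomeomorph.topologicalKrullDim_eq
  rw [h2, (Homeomorph.Set.univ D.Y).isHomeomorph.topologicalKrullDim_eq, D.dim, D.S.dim j] at h3
  exact absurd h3 (by norm_num)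

theorem fib1 (x : Z) : topologicalKrullDim (D.π.fiber x) ≤ (1 : ℕ) := by
  by_cases hx : x ∈ D.I.support
  · rw [dim_fiber]
    have hcl : IsClosed (D.π ⁻¹' {x} : Set D.Y) := (D.closedT x hx).preimage D.π.continuous
    have hne : (D.π ⁻¹' {x} : Set D.Y) ≠ Set.univ := by
      intro h
      have h1 : genericPoint D.Y ∈ (D.π ⁻¹' {x} : Set D.Y) := h ▸ trivial
      exact gen_notMem D ((show D.π _ = x from h1) ▸ hx)
    have h2 := Fga.DimLt.topologicalKrullDim_lt (A := (Set.univ : Set D.Y)) (d := 2)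
      (irreducibleSpace_def D.Y |>.mp inferInstance) hcl (Set.subset_univ _) hne (by
        rw [(Homeomorph.Set.univ D.Y).isHomeomorph.topologicalKrullDim_eq, D.dim]
        norm_num)
    exact Order.le_of_lt_succ h2
  · exact (fib0 D x hx).trans (by exact_mod_cast Nat.zero_le 1)

theorem dim_support : topologicalKrullDim (D.I.support : Set Z) ≤ 0 := by
  have : Finite (D.I.support : Set Z) := D.finT
  have : T1Space (D.I.support : Set Z) := by
    refine ⟨fun x => ?_⟩
    have h := (D.closedT x.1 x.2).preimage (continuous_subtype_val (p := fun x => x ∈ (D.I.support : Set Z)))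
    convert h using 1
    ext y
    exact Subtype.ext_iff
  have : DiscreteTopology (D.I.support : Set Z) := inferInstance
  by_cases hne : Nonempty (D.I.support : Set Z)
  · exact topologicalKrullDim_zero_of_discreteTopology _
  · have : Subsingleton (D.I.support : Set Z) := ⟨fun x => (hne ⟨x⟩).elim⟩
    exact dim_le_zero_of_subsingleton

/-! ### Bounds -/

theorem pow_tw (a : Fin D.r → ℕ) (n : ℕ) : tw (LocGeom.E D.S) (n • a) = tw (LocGeom.E D.S) a ^ n := by
  rw [tw, tw, ← Finset.prod_pow]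
  refine Finset.prod_congr rfl fun i _ => ?_
  rw [Pi.smul_apply, smul_eq_mul, mul_comm, pow_mul]

variable [IsProper (Z ↘ Spec (CommRingCat.of k))]

theorem ex_nonneg {L : D.Y.Modules} (hL : Coh.IsCoh L) : 0 ≤ ex k D.π L := by
  have h := ex_eq k D.π D.comm (D.I.support : Set Z) (dim_support D) (fib1 D) (fib0 D) hL
  rw [h]
  positivity

theorem exP_bound (B : ℕ) : ∃ K : ℕ, ∀ ν : Pic D.Y, (∀ j, |LocComb.dg (dH D.S) j ν| ≤ B) → exP k D.π ν ≤ K := by
  obtain ⟨c, hc⟩ := LocGeom.exists_c D.S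
  have hT := dim_support D
  have hZ : IsNoetherian Z := CurvesB.CurveRR.isNoetherian_of_proper k Z
  refine LocComb.h1_bound (E := LocGeom.E D.S) (d := dH D.S) (h1 := exP k D.π)
    (g1 := fun j ν => hLen k (D.S.C j) 1 (pull (D.S.c j) ν)) (c := c) D.off D.apos D.pos ?_ hc ?_ ?_ B
  · intro j ν
    obtain ⟨L, hL, rfl⟩ := exists_mk ν
    have h1 := ex_step k D.π D.comm (D.I.support : Set Z) D.I.support.isClosed hT D.S D.cT j hL
    have hI := isInvertible_idealMod (D.S.eff j)
    rw [LocGeom.E, mk_mul_mk, exP_mk, exP_mk, pull_mk, hLen_mk]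
    have h2 := Fga.HodgeSec.isCoh_of_isInvertible (Groth.Agent.Fdesc.LocGen.isInvertible_pullback (D.S.c j) hL)
    have := EulerLink.finite_HH k h2 1
    rw [Module.length_eq_finrank]
    norm_cast
    have h3 := Int.toNat_le_toNat h1
    have h4 := ex_nonneg D (Fga.HodgeSec.isCoh_of_isInvertible (Groth.Agent.Fdesc.LocGen.isInvertible_tensorMod hL hI))
    omega
  · intro B
    obtain ⟨K, hK⟩ := LocGeom.exists_K D.S B
    exact ⟨K, fun j ν h => (hK j ν h).2⟩
  · intro ν
    obtain ⟨L, hL, rfl⟩ := exists_mk ν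
    have hJ := isInvertible_idealMod D.blow.1
    obtain ⟨n₀, hn⟩ := ex_serre k D.π hJ (fun W hW =>
      Groth.Agent.Ega1.AmpFamBlow.isAmple_restrict D.blow ⟨W, hW⟩ (D.π ⁻¹ᵁ W) rfl) D.comm
      (Fga.HodgeSec.isCoh_of_isInvertible hL)
    refine ⟨n₀ • D.a, ?_⟩
    rw [pow_tw, ← D.cls, ← mk_tensorPow, mk_mul_mk, exP_mk, hn n₀ le_rfl
      (Fga.HodgeSec.isCoh_of_isInvertible (Groth.Agent.Fdesc.LocGen.isInvertible_tensorMod hL (Groth.Agent.Fdesc.LocGen.isInvertible_tensorPow hJ n₀)))]
    rfl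

end data

end K939.SurfBd
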