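import Groth.Agent.RefCh.K939.SurfHull
import Groth.Agent.RefCh.K939.FlatDual
import Groth.Agent.S7887
import Groth.Agent.S16491

/-!
# The hull as a homomorphism from the Picard group of the resolution to the class group

* `hullHom : Pic Y →* Ref1Set Z`, `hullHom_surjective`, `hullHom_E`.
-/

set_option autoImplicit false
universe u
open CategoryTheory CategoryTheory.Limits AlgebraicGeometry Opposite TopologicalSpace

namespace K939.SurfCl

open Groth.Agent Groth.Agent.Grpsch.PicGrp Groth.Agent.Dix.IdealModCartier K938 K938.LocComb K938.LocGeom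
  K938.EulerLink K938.Defect K939.SurfGeo K939.SurfBd K939.SurfHull Groth.Agent.Fdesc.LocGen RefFun

variable {k : Type u} [Field k] {Z : Scheme.{u}} [Z.Over (Spec (CommRingCat.of k))] (D : Data k Z)

/-- The open immersion `U ⟶ Y`. -/
noncomputable def τ : ((U D : Z.Opens) : Scheme.{u}) ⟶ D.Y :=
  haveI := isIso_restrict D
  inv (D.π ∣_ U D) ≫ (V D).ι

theorem isOpenImmersion_τ : IsOpenImmersion (τ D) := by
  have := isIso_restrict D
  unfold τ
  infer_instance

theorem τ_π : τ D ≫ D.π = (U D).ι := by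
  have := isIso_restrict D
  have h : (V D).ι ≫ D.π = (D.π ∣_ U D) ≫ (U D).ι := (morphismRestrict_ι D.π (U D)).symm
  rw [τ, Category.assoc, h, IsIso.inv_hom_id_assoc]

variable [IsIntegral Z] [IsLocallyNoetherian Z]

/-- The hull and `L` agree on `U`. -/
theorem nonempty_pull (L : D.Y.Modules) : Nonempty ((Scheme.Modules.pullback (U D).ι).obj
    ((hull D.π (V D)).obj L) ≅ (Scheme.Modules.pullback (τ D)).obj L) := by
  obtain ⟨hi, ⟨e⟩⟩ := nonempty_hull_restrict D L
  exact ⟨((Scheme.Modules.restrictFunctorIsoPullback (U D).ι).app _).symm ≪≫ e ≪≫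
    (Scheme.Modules.pullback (inv (D.π ∣_ U D))).mapIso
      ((Scheme.Modules.restrictFunctorIsoPullback (V D).ι).app _) ≪≫
    (Scheme.Modules.pullbackComp (inv (D.π ∣_ U D)) (V D).ι).app _⟩

/-- Reflexive modules are determined on `U`. -/
theorem nonempty_iso (hnorm : Pi1.IsNormalScheme Z) {F G : Z.Modules} (hF : RefHull.IsRef1 F) (hG : RefHull.IsRef1 G)
    (h : Nonempty ((Scheme.Modules.pullback (U D).ι).obj F ≅ (Scheme.Modules.pullback (U D).ι).obj G)) :
    Nonempty (F ≅ G) := by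
  obtain ⟨e⟩ := h
  have h1 := (S1691.result Z (U D) (depth_le D hnorm)).1
  have e1 := h1 F hF.1 ((K476.HomSh4.isReflexive_iff_isReflexiveAt hF.1).mp hF.2.1)
  have e2 := h1 G hG.1 ((K476.HomSh4.isReflexive_iff_isReflexiveAt hG.1).mp hG.2.1)
  let e' : F.restrict (U D).ι ≅ G.restrict (U D).ι :=
    (Scheme.Modules.restrictFunctorIsoPullback (U D).ι).app F ≪≫ e ≪≫
      ((Scheme.Modules.restrictFunctorIsoPullback (U D).ι).app G).symm
  exact ⟨asIso ((Scheme.Modules.restrictAdjunction (U D).ι).unit.app F) ≪≫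
    (Scheme.Modules.pushforward (U D).ι).mapIso e' ≪≫
    (asIso ((Scheme.Modules.restrictAdjunction (U D).ι).unit.app G)).symm⟩

theorem isIntegral_U : IsIntegral ((U D : Z.Opens) : Scheme.{u}) := by
  have hne : Nonempty ((U D : Z.Opens) : Scheme.{u}) := ⟨⟨_, gen_notMem D⟩⟩
  exact isIntegral_of_isOpenImmersion (U D).ι

/-- The reflexive tensor product of invertible modules. -/
theorem refTensor_invertible {X : Scheme.{u}} [IsIntegral X] [IsLocallyNoetherian X] {A B : X.Modules}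
    (hA : PicF.IsInvertible A) (hB : PicF.IsInvertible B) : Nonempty (RefPow.refTensor A B ≅ CohB1.tensorMod A B) := by
  have h := (K938.RefCl.isRef1_of_isInvertible (isInvertible_tensorMod hA hB)).2.1
  exact ⟨(@asIso _ _ _ _ (RefHull.bidualMap (CohB1.tensorMod A B)) h).symm⟩

theorem hull_tensor (hnorm : Pi1.IsNormalScheme Z) {L M : D.Y.Modules} (hL : PicF.IsInvertible L)
    (hM : PicF.IsInvertible M) : Nonempty ((hull D.π (V D)).obj (CohB1.tensorMod L M) ≅
      RefPow.refTensor ((hull D.π (V D)).obj L) ((hull D.π (V D)).obj M)) := by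
  have hτ := isOpenImmersion_τ D
  have hUi := isIntegral_U D
  have r1 := isRef1_hull D hnorm hL
  have r2 := isRef1_hull D hnorm hM
  refine nonempty_iso D hnorm (isRef1_hull D hnorm (isInvertible_tensorMod hL hM)) (K476.Ref1.isRef1_refTensor r1 r2) ?_
  obtain ⟨e1⟩ := nonempty_pull D (CohB1.tensorMod L M)
  obtain ⟨e2⟩ := FlatDual.nonempty_refTensor (f := (U D).ι) r1.1 r2.1
  obtain ⟨e3⟩ := nonempty_pull D L
  obtain ⟨e4⟩ := nonempty_pull D M
  obtain ⟨e5⟩ := FlatDual.refTensor_congr e3 e4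
  obtain ⟨e6⟩ := refTensor_invertible (isInvertible_pullback (τ D) hL) (isInvertible_pullback (τ D) hM)
  exact ⟨e1 ≪≫ FlatDual.tensorIso (τ D) L M ≪≫ e6.symm ≪≫ e5.symm ≪≫ e2.symm⟩

theorem hull_unit (hnorm : Pi1.IsNormalScheme Z) {L : D.Y.Modules} (hL : PicF.IsInvertible L)
    (h : Nonempty ((Scheme.Modules.pullback (τ D)).obj L ≅ Coh.structureModule _)) :
    Nonempty ((hull D.π (V D)).obj L ≅ Coh.structureModule Z) := by
  refine nonempty_iso D hnorm (isRef1_hull D hnorm hL) K476.Ref1.isRef1_structureModule ?_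
  obtain ⟨e1⟩ := nonempty_pull D L
  obtain ⟨e2⟩ := h
  exact ⟨e1 ≪≫ e2 ≪≫ (FlatDual.unitIso (U D).ι).symm⟩

theorem hull_E (hnorm : Pi1.IsNormalScheme Z) (j : Fin D.r) :
    Nonempty ((hull D.π (V D)).obj (ClSub.idealMod (D.S.c j).ker) ≅ Coh.structureModule Z) := by
  refine hull_unit D hnorm (isInvertible_idealMod (D.S.eff j)) ?_
  refine K464.Curves.nonempty_pullback_idealMod (τ D) (D.S.eff j) fun y hy => ?_
  have h1 : D.π (τ D y) ∈ U D := by
    rw [← Scheme.Hom.comp_apply, τ_π]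
    exact y.2
  have h2 : τ D y ∈ Set.range (D.S.c j) := by
    have h3 : τ D y ∈ ((D.S.c j).ker.support : Set D.Y) := hy
    rw [Scheme.Hom.support_ker] at h3
    rwa [(D.S.c j).isClosedEmbedding.isClosed_range.closure_eq] at h3
  obtain ⟨z, hz⟩ := h2
  rw [← hz] at h1
  exact h1 (D.cT j z)

theorem exists_hull (hnorm : Pi1.IsNormalScheme Z) [IsNoetherian D.Y] {F : Z.Modules} (hF : RefHull.IsRef1 F) :
    ∃ (L : D.Y.Modules), PicF.IsInvertible L ∧ Nonempty ((hull D.π (V D)).obj L ≅ F) := by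
  have hτ := isOpenImmersion_τ D
  have hUi := isIntegral_U D
  have hi := isIso_restrict D
  have h1 : RefHull.IsRef1 ((Scheme.Modules.pullback (U D).ι).obj F) := FlatDual.isRef1_pullback hF
  have hreg : ∀ x : ((U D : Z.Opens) : Scheme.{u}),
      IsRegularLocalRing (((U D : Z.Opens) : Scheme.{u}).presheaf.stalk x) := fun x => by
    have := D.reg (τ D x)
    exact IsRegularLocalRing.of_ringEquiv (asIso ((τ D).stalkMap x)).commRingCatIsoToRingEquiv
  have h2 := S16491.result _ hreg _ h1.1 h1.2.1 h1.2.2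
  have h3 : PicF.IsInvertible ((Scheme.Modules.pullback (D.π ∣_ U D)).obj
      ((Scheme.Modules.pullback (U D).ι).obj F)) := isInvertible_pullback _ h2
  obtain ⟨L, hL, ⟨e⟩⟩ := S7887.result D.Y D.reg (V D) _ h3
  refine ⟨L, hL, nonempty_iso D hnorm (isRef1_hull D hnorm hL) hF ?_⟩
  obtain ⟨e1⟩ := nonempty_pull D L
  have e2 : (Scheme.Modules.pullback (τ D)).obj L ≅ (Scheme.Modules.pullback (inv (D.π ∣_ U D))).obj
      ((Scheme.Modules.pullback (V D).ι).obj L) := ((Scheme.Modules.pullbackComp _ _).app _).symm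
  have e3 : (Scheme.Modules.pullback (inv (D.π ∣_ U D))).obj ((Scheme.Modules.pullback (V D).ι).obj L) ≅
      (Scheme.Modules.pullback (inv (D.π ∣_ U D))).obj ((Scheme.Modules.pullback (D.π ∣_ U D)).obj
        ((Scheme.Modules.pullback (U D).ι).obj F)) :=
    (Scheme.Modules.pullback (inv (D.π ∣_ U D))).mapIso
      (((Scheme.Modules.restrictFunctorIsoPullback (V D).ι).app _).symm ≪≫ e)
  have e4 : (Scheme.Modules.pullback (inv (D.π ∣_ U D))).obj ((Scheme.Modules.pullback (D.π ∣_ U D)).obj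
        ((Scheme.Modules.pullback (U D).ι).obj F)) ≅ (Scheme.Modules.pullback (U D).ι).obj F :=
    (Scheme.Modules.pullbackComp _ _).app _ ≪≫ (Scheme.Modules.pullbackCongr (IsIso.inv_hom_id _)).app _ ≪≫
      (Scheme.Modules.pullbackId _).app _
  exact ⟨e1 ≪≫ e2 ≪≫ e3 ≪≫ e4⟩

section hom

variable [Law Z] (hnorm : Pi1.IsNormalScheme Z)

/-- The class of the hull. -/
noncomputable def hullCl : Pic D.Y → Ref1Set Z :=
  Quotient.lift (s := isoSetoid D.Y) (fun L => cls ((hull D.π (V D)).obj L.1) (isRef1_hull D hnorm L.2))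
    (fun _ _ ⟨e⟩ => (cls_eq_cls_iff _ _).2 ⟨(hull D.π (V D)).mapIso e⟩)

theorem hullCl_mk {L : D.Y.Modules} (hL : PicF.IsInvertible L) :
    hullCl D hnorm (mk L hL) = cls ((hull D.π (V D)).obj L) (isRef1_hull D hnorm hL) := rfl

/-- The hull as a homomorphism. -/
noncomputable def hullHom : Pic D.Y →* Ref1Set Z :=
  MonoidHom.mk' (hullCl D hnorm) fun a b => by
    obtain ⟨L, hL, rfl⟩ := exists_mk a
    obtain ⟨M, hM, rfl⟩ := exists_mk b
    rw [mk_mul_mk, hullCl_mk, hullCl_mk, hullCl_mk, ← K938.RefCl.cls_refTensor, cls_eq_cls_iff]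
    exact hull_tensor D hnorm hL hM

theorem hullHom_mk {L : D.Y.Modules} (hL : PicF.IsInvertible L) :
    hullHom D hnorm (mk L hL) = cls ((hull D.π (V D)).obj L) (isRef1_hull D hnorm hL) := rfl

theorem hullHom_E (j : Fin D.r) : hullHom D hnorm (LocGeom.E D.S j) = 1 := by
  rw [LocGeom.E, hullHom_mk, ← K938.RefCl.cls_one, cls_eq_cls_iff]
  exact hull_E D hnorm j

theorem hullHom_surjective [IsNoetherian D.Y] : Function.Surjective (hullHom D hnorm) := by
  intro c
  obtain ⟨F, hF, rfl⟩ := exists_eq_cls c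
  obtain ⟨L, hL, h⟩ := exists_hull D hnorm hF
  refine ⟨mk L hL, ?_⟩
  rw [hullHom_mk, cls_eq_cls_iff]
  exact h

end hom

end K939.SurfCl
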