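import Groth.Agent.RefCh.K939.SurfCl
import Groth.Agent.Surf.K465.Hodge2

/-!
# The intersection form on the resolution

* `dot_E` : the intersection numbers with the exceptional curves;
* `hodge` : the Hodge index inequality if the base is projective.
-/

set_option autoImplicit false
universe u
open CategoryTheory CategoryTheory.Limits AlgebraicGeometry Opposite TopologicalSpace

namespace K939.SurfDot

open Groth.Agent Groth.Agent.Grpsch.PicGrp Groth.Agent.Dix.IdealModCartier K938 K938.LocComb K938.LocGeom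
  K938.EulerLink K939.SurfGeo K939.SurfBd K939.SurfHull Groth.Agent.Fdesc.LocGen K464.Base

section gen

variable {k : Type u} [Field k] {Y : Scheme.{u}} [Y.Over (Spec (CommRingCat.of k))]
  [IsProper (Y ↘ Spec (CommRingCat.of k))] {r : ℕ} (S : CurveData k Y r)

theorem chi_sub (j : Fin r) {L : Y.Modules} (hL : PicF.IsInvertible L) :
    chi k Y (mk L hL) = chi k Y (mk L hL * LocGeom.E S j) +
      Curv2.euler k (S.C j) ((Scheme.Modules.pullback (S.c j)).obj L) := by
  have hN := VarietyA.TwistExist.isNoetherian k Y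
  have hI := isInvertible_idealMod (S.eff j)
  have hP := isInvertible_pullback (S.c j) hL
  have cP := Fga.HodgeSec.isCoh_of_isInvertible hP
  obtain ⟨M, f, g, w, hT, ⟨e⟩⟩ := exists_shortExact (S.c j) hL
  have cM : Coh.IsCoh M := Ega3B.DevQC.isCoh_of_iso e.symm (Fga.HodgePush.isCoh_push (S.c j) cP)
  rw [LocGeom.E, mk_mul_mk, chi_mk, chi_mk, euler_add k f g w hT
    (Fga.HodgeSec.isCoh_of_isInvertible (isInvertible_tensorMod hL hI)) (Fga.HodgeSec.isCoh_of_isInvertible hL) cM,
    Fga.HodgePush.euler_congr k Y e, Fga.HodgePush.euler_push k Y (S.C j) (S.c j) (S.comm j) _ cP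
      (Fga.HodgePush.acyc_of_isAffineHom _ cP.1)]

theorem dot_E (j : Fin r) (ν : Pic Y) : dot k Y (LocGeom.E S j) ν = - LocComb.dg (dH S) j ν := by
  obtain ⟨L, hL, rfl⟩ := exists_mk ν
  have h1 := chi_sub S j hL
  have h2 := chi_sub S j (L := Coh.structureModule Y) isInvertible_structureModule
  rw [dg_mk_eq, dot_def, mul_comm (LocGeom.E S j)]
  have h3 : Curv2.deg k (S.C j) ((Scheme.Modules.pullback (S.c j)).obj L) 1 =
      Curv2.euler k (S.C j) ((Scheme.Modules.pullback (S.c j)).obj L) -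
        Curv2.euler k (S.C j) ((Scheme.Modules.pullback (S.c j)).obj (Coh.structureModule Y)) := by
    rw [Fga.HodgePush.euler_congr k (S.C j) (FlatDual.unitIso (S.c j)), Curv2.deg]
    push_cast
    ring
  have h4 : mk (Coh.structureModule Y) isInvertible_structureModule = (1 : Pic Y) := rfl
  rw [h4, one_mul] at h2
  rw [h3]
  linarith

theorem ip_eq_dot (hd : topologicalKrullDim Y ≤ (2 : ℕ)) (a b : Pic Y) :
    K465.Ip.ip k Y hd (Additive.ofMul a) (Additive.ofMul b) = dot k Y a b := by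
  obtain ⟨A, hA, rfl⟩ := exists_mk a
  obtain ⟨B, hB, rfl⟩ := exists_mk b
  rw [K465.Ip.ip_mk k hd hA hB, intNum_eq_dot k Y hd hA hB]

/-- The Hodge index inequality for an ample class. -/
theorem hodge [IsIntegral Y] (hdim : topologicalKrullDim Y = 2) {H : Y.Modules} (hH : CohB1.IsAmple H) :
    0 < dot k Y (mk H hH.1) (mk H hH.1) ∧ ∀ x : Pic Y, dot k Y (mk H hH.1) (mk H hH.1) * dot k Y x x ≤
      dot k Y (mk H hH.1) x ^ 2 := by
  have h1 := K465.Hodge2.ip_ample_pos k hdim.le hdim hH hH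
  refine ⟨by rwa [ip_eq_dot] at h1, fun x => ?_⟩
  have h2 := K465.Hodge2.hodge_ample' k hdim.le hH h1 (Additive.ofMul x)
  rwa [ip_eq_dot, ip_eq_dot, ip_eq_dot] at h2

end gen

section data

variable {k : Type u} [Field k] {Z : Scheme.{u}} [Z.Over (Spec (CommRingCat.of k))] (D : Data k Z)

theorem exists_hodge (h : ∃ A : Z.Modules, CohB1.IsAmple A) :
    ∃ h : Pic D.Y, 0 < dot k D.Y h h ∧ ∀ x : Pic D.Y, dot k D.Y h h * dot k D.Y x x ≤ dot k D.Y h x ^ 2 := by
  obtain ⟨A, hA⟩ := h
  obtain ⟨H, hH⟩ := Groth.Agent.Sga67.BlowAmple.exists_isAmple D.blow A hA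
  exact ⟨_, hodge D.dim hH⟩

end data

end K939.SurfDot
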