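import Groth.Agent.RefCh.K939.SurfRes
import Groth.Agent.RefCh.K938.LocGeom
import Groth.Agent.Ega2.AmpleAff

/-!
# Resolution data of a normal proper surface over a field

* `Data k Z` : a resolution `π : Y ⟶ Z` by one blow-up together with the exceptional curves and their numerical
  properties;
* `exists_data`.
-/

set_option autoImplicit false
universe u
open CategoryTheory CategoryTheory.Limits AlgebraicGeometry Opposite TopologicalSpace

namespace K939.SurfGeo

open Groth.Agent Groth.Agent.Grpsch.PicGrp Groth.Agent.Dix.IdealModCartier K938 K938.LocComb K938.LocGeom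
  K464.Base K464.Curves K464.DivLat

/-- Resolution data. -/
structure Data (k : Type u) [Field k] (Z : Scheme.{u}) [Z.Over (Spec (CommRingCat.of k))] where
  /-- the resolution -/
  Y : Scheme.{u}
  ov : Y.Over (Spec (CommRingCat.of k))
  π : Y ⟶ Z
  comm : π ≫ (Z ↘ Spec (CommRingCat.of k)) = Y ↘ Spec (CommRingCat.of k)
  int : IsIntegral Y
  propY : IsProper (Y ↘ Spec (CommRingCat.of k))
  prop : IsProper π
  surj : Surjective π
  dim : topologicalKrullDim Y = 2
  reg : ∀ y : Y, IsRegularLocalRing (Y.presheaf.stalk y)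
  /-- the centre -/
  I : Z.IdealSheafData
  blow : BlowUp.IsBlowUp π I
  finT : (I.support : Set Z).Finite
  closedT : ∀ x ∈ I.support, IsClosed ({x} : Set Z)
  singT : ∀ x ∈ I.support, ¬ IsRegularLocalRing (Z.presheaf.stalk x)
  /-- the number of exceptional curves -/
  r : ℕ
  S : CurveData k Y r
  curve : ∀ j, IsCurve (S.c j).ker
  inj : Function.Injective fun j => (S.c j).ker
  a : Fin r → ℕ
  apos : ∀ i, 0 < a i
  eqJ : I.comap π = cyc (fun j => (S.c j).ker) a
  cls : mk (ClSub.idealMod (I.comap π)) (isInvertible_idealMod blow.1) = tw (E S) a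
  cT : ∀ j z, π (S.c j z) ∈ I.support
  union : ∀ y, π y ∈ I.support → ∃ j z, S.c j z = y
  off : ∀ i j, i ≠ j → LocComb.dg (dH S) j (LocGeom.E S i) ≤ 0
  pos : ∀ j, 0 < LocComb.dg (dH S) j (tw (LocGeom.E S) a)

attribute [instance] Data.ov Data.int Data.propY Data.prop Data.surj

section curves

variable {k : Type u} [Field k] {Y : Scheme.{u}} [Y.Over (Spec (CommRingCat.of k))]
  [IsProper (Y ↘ Spec (CommRingCat.of k))] {r : ℕ} (C : Fin r → Y.IdealSheafData) (hC : ∀ i, IsCurve (C i))
  (hE : ∀ i, BlowUp.IsEffCartierIdeal (C i))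

/-- The curve data of curves given by ideals. -/
noncomputable def curveData : CurveData k Y r where
  C j := (C j).subscheme
  ov j := overC k Y (C j)
  int j := (hC j).integral
  prop j := isProper_sub k Y (C j)
  dim j := (dim_sub Y (C j)).trans (hC j).dim
  c j := (C j).subschemeι
  closed j := inferInstance
  comm j := rfl
  eff j := by rw [ker_subschemeι]; exact hE j

theorem E_curveData (j : Fin r) : LocGeom.E (curveData (k := k) C hC hE) j = ic (C j) (hE j) :=
  ic_congr ((curveData (k := k) C hC hE).eff j) (hE j) (ker_subschemeι (C j))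

theorem dg_curveData (j : Fin r) (ν : Pic Y) :
    LocComb.dg (dH (curveData (k := k) C hC hE)) j ν = degOn k Y (C j) ν := by
  obtain ⟨L, hL, rfl⟩ := exists_mk ν
  rw [dg_mk_eq, degOn_eq_deg]
  rfl

theorem tw_curveData (a : Fin r → ℕ) : tw (LocGeom.E (curveData (k := k) C hC hE)) a = ic (cyc C a) (isEff_cyc hE a) := by
  rw [ic_cyc, tw]
  exact Finset.prod_congr rfl fun j _ => by rw [E_curveData]

end curves

section pos

variable {k : Type u} [Field k] {Z Y : Scheme.{u}} [Z.Over (Spec (CommRingCat.of k))]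
  [Y.Over (Spec (CommRingCat.of k))] [IsProper (Y ↘ Spec (CommRingCat.of k))]

/-- The ideal of the exceptional divisor is positive on contracted curves. -/
theorem degOn_pos {π : Y ⟶ Z} [QuasiCompact π] {I : Z.IdealSheafData} (hb : BlowUp.IsBlowUp π I)
    {C : Y.IdealSheafData} (hC : IsCurve C) (x : Z) (hx : ∀ y ∈ C.support, π y = x) :
    0 < degOn k Y C (ic (I.comap π) hb.1) := by
  obtain ⟨_, ⟨W, hW, rfl⟩, hxW, -⟩ :=
    Z.isBasis_affineOpens.exists_subset_of_mem_open (Set.mem_univ x) isOpen_univ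
  have hamp := Groth.Agent.Ega1.AmpFamBlow.isAmple_restrict hb ⟨W, hW⟩ (π ⁻¹ᵁ W) rfl
  have hr : Set.range C.subschemeι ⊆ Set.range (π ⁻¹ᵁ W).ι := by
    rw [Scheme.Opens.range_ι, C.range_subschemeι]
    intro y hy
    change π y ∈ W
    rw [hx y hy]
    exact hxW
  let l : C.subscheme ⟶ (π ⁻¹ᵁ W).toScheme := IsOpenImmersion.lift (π ⁻¹ᵁ W).ι C.subschemeι hr
  have hl : l ≫ (π ⁻¹ᵁ W).ι = C.subschemeι := IsOpenImmersion.lift_fac _ _ _
  have hlc : IsClosedImmersion l := by
    have : IsClosedImmersion (l ≫ (π ⁻¹ᵁ W).ι) := by rw [hl]; infer_instance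
    exact IsClosedImmersion.of_comp l (π ⁻¹ᵁ W).ι
  have h1 := CalgB.AmpleBase.isAmple_pullback_of_isImmersion l hamp
  let e : (Scheme.Modules.pullback l).obj ((ClSub.idealMod (I.comap π)).restrict (π ⁻¹ᵁ W).ι) ≅
      (Scheme.Modules.pullback C.subschemeι).obj (ClSub.idealMod (I.comap π)) :=
    (Scheme.Modules.pullback l).mapIso ((Scheme.Modules.restrictFunctorIsoPullback (π ⁻¹ᵁ W).ι).app _) ≪≫
      (Scheme.Modules.pullbackComp l (π ⁻¹ᵁ W).ι).app _ ≪≫ (Scheme.Modules.pullbackCongr hl).app _
  have h2 := Groth.Agent.Ega2.Weight.isAmple_of_iso e h1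
  let _ := overC k Y C
  have := isProper_sub k Y C
  have := hC.integral
  have hd : topologicalKrullDim C.subscheme = 1 := (dim_sub Y C).trans hC.dim
  rw [ic, degOn_eq_deg]
  exact (S1530.result k C.subscheme hd _ (Fdesc.LocGen.isInvertible_pullback _ (isInvertible_idealMod hb.1))).1 h2

end pos

section main

variable {k : Type u} [Field k] {Z : Scheme.{u}} [Z.Over (Spec (CommRingCat.of k))]
  [IsProper (Z ↘ Spec (CommRingCat.of k))] [IsIntegral Z]

theorem exists_data (hnorm : Pi1.IsNormalScheme Z) (hdim : topologicalKrullDim Z = 2) : Nonempty (Data k Z) := by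
  obtain ⟨I, Y, π, hb, hfin, hcl, hsing, hY, hπ, hsur, hdY, hreg⟩ :=
    SurfRes.exists_blow (Z ↘ Spec (CommRingCat.of k)) hnorm hdim
  let ov : Y.Over (Spec (CommRingCat.of k)) := ⟨π ≫ (Z ↘ Spec (CommRingCat.of k))⟩
  have hp : IsProper (Y ↘ Spec (CommRingCat.of k)) :=
    inferInstanceAs (IsProper (π ≫ (Z ↘ Spec (CommRingCat.of k))))
  have hN : IsNoetherian Y := CurvesB.CurveRR.isNoetherian_of_proper k Y
  obtain ⟨r, C, a, hC, hinj, ha, hJ⟩ :=
    K464.Comp.exists_eq_cyc k (Y ↘ Spec (CommRingCat.of k)) hdY hreg (I.comap π) hb.1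
  have hE : ∀ i, BlowUp.IsEffCartierIdeal (C i) := fun i =>
    isEff_of_isCurve k (Y ↘ Spec (CommRingCat.of k)) hdY hreg (hC i)
  have hker : ∀ j, ((curveData (k := k) C hC hE).c j).ker = C j := fun j => ker_subschemeι (C j)
  have hsupp : ∀ j, ∀ y ∈ (C j).support, π y ∈ I.support := by
    intro j y hy
    have h1 : I.comap π ≤ C j := by
      rw [hJ, ← cyc_single C j]
      refine cyc_antitone fun i => ?_
      by_cases hi : i = j
      · subst hi; rw [Pi.single_eq_same]; exact ha i
      · rw [Pi.single_eq_of_ne hi]; exact Nat.zero_le _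
    have h2 : y ∈ (I.comap π).support := Scheme.IdealSheafData.support_antitone h1 hy
    rw [Scheme.IdealSheafData.support_comap] at h2
    exact h2
  have hpt : ∀ j, ∃ x : Z, ∀ y ∈ (C j).support, π y = x := by
    intro j
    refine ⟨π (gp (hC j)), fun y hy => ?_⟩
    have h1 : gp (hC j) ⤳ y := by
      rw [specializes_iff_mem_closure, closure_gp]
      exact hy
    have h2 := (h1.map π.continuous).mem_closed (hcl _ (hsupp j _ (gp_mem (hC j)))) (Set.mem_singleton _)
    exact h2
  refine ⟨{ Y := Y, ov := ov, π := π, comm := rfl, int := hY, propY := hp, prop := hπ, surj := hsur, dim := hdY,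
            reg := hreg, I := I, blow := hb, finT := hfin, closedT := hcl, singT := hsing, r := r,
            S := curveData C hC hE, curve := fun j => (hker j).symm ▸ hC j,
            inj := fun i j h => hinj ((hker i).symm.trans (h.trans (hker j))), a := a, apos := ha
            eqJ := by rw [hJ]; congr 1; funext j; exact (hker j).symm
            cls := ?_, cT := ?_, union := ?_, off := ?_, pos := ?_ }⟩
  · rw [tw_curveData]
    exact ic_congr hb.1 (isEff_cyc hE a) hJ
  · intro j z
    refine hsupp j _ ?_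
    rw [← SetLike.mem_coe, ← (C j).range_subschemeι]
    exact ⟨z, rfl⟩
  · intro y hy
    have h1 : y ∈ ((I.comap π).support : Set Y) := by
      rw [SetLike.mem_coe, Scheme.IdealSheafData.support_comap]
      exact hy
    rw [hJ] at h1
    obtain ⟨j, hj⟩ := Set.mem_iUnion.1 (support_cyc_subset a h1)
    rw [← (C j).range_subschemeι] at hj
    obtain ⟨z, hz⟩ := hj
    exact ⟨j, z, hz⟩
  · intro i j hij
    rw [dg_curveData, E_curveData]
    exact degOn_ic_nonpos k (hC j) (hE i) (gp_notMem (hC j) (hC i) (fun h => hij (hinj h.symm)))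
  · intro j
    obtain ⟨x, hx⟩ := hpt j
    rw [dg_curveData, tw_curveData, ← ic_congr hb.1 (isEff_cyc hE a) hJ]
    exact degOn_pos hb (hC j) x hx

end main

end K939.SurfGeo
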