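import Groth.Agent.RefCh.K939.SurfBd
import Groth.Agent.S13987
import Groth.Agent.S1691
import Groth.Agent.AbSch.K449.CanSec
import Groth.Agent.PerfB.BCAdapt
import Groth.Agent.CalgA.SerreLocal
import Groth.Agent.RefCh.K938.RefCl

/-!
# Hulls of invertible modules on the resolution: coherence, reflexivity, Euler characteristics
-/

set_option autoImplicit false
universe u
open CategoryTheory CategoryTheory.Limits AlgebraicGeometry Opposite TopologicalSpace

namespace K939.SurfHull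

open Groth.Agent Groth.Agent.Grpsch.PicGrp Groth.Agent.Dix.IdealModCartier K938 K938.LocComb K938.LocGeom
  K938.EulerLink K938.Defect K939.SurfGeo K939.SurfBd Groth.Agent.VarietyA.EulerLES Groth.Agent.Fdesc.LocGen

variable {k : Type u} [Field k] {Z : Scheme.{u}} [Z.Over (Spec (CommRingCat.of k))] (D : Data k Z)

/-- The complement of the exceptional curves. -/
abbrev V : D.Y.Opens := D.π ⁻¹ᵁ U D

theorem V_nonempty : ((V D : D.Y.Opens) : Set D.Y).Nonempty := ⟨genericPoint D.Y, gen_notMem D⟩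

theorem c_notMem (j : Fin D.r) (z : D.S.C j) : D.S.c j z ∉ V D := fun h => h (D.cT j z)

theorem isIso_toHull (L : D.Y.Modules) :
    IsIso ((Scheme.Modules.restrictFunctor (U D).ι).map ((toHull D.π (V D)).app L)) := by
  rw [Scheme.Modules.Hom.isIso_iff_isIso_app]
  intro W
  rw [ConcreteCategory.isIso_iff_bijective]
  have hle : D.π ⁻¹ᵁ ((U D).ι ''ᵁ W) ≤ V D := by
    refine D.π.preimage_mono ?_
    exact (U D).ι_image_le W
  have heq : (V D).ι ''ᵁ (V D).ι ⁻¹ᵁ (D.π ⁻¹ᵁ ((U D).ι ''ᵁ W)) = D.π ⁻¹ᵁ ((U D).ι ''ᵁ W) := by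
    rw [Scheme.Hom.image_preimage_eq_opensRange_inf, Scheme.Opens.opensRange_ι]
    exact inf_eq_right.2 hle
  change Function.Bijective (((Scheme.Modules.restrictAdjunction (V D).ι).unit.app L).app
    (D.π ⁻¹ᵁ ((U D).ι ''ᵁ W)))
  rw [Scheme.Modules.restrictAdjunction_unit_app_app]
  have : IsIso (homOfLE ((V D).ι.image_preimage_le (D.π ⁻¹ᵁ ((U D).ι ''ᵁ W)))) :=
    ⟨homOfLE heq.ge, Subsingleton.elim _ _, Subsingleton.elim _ _⟩
  have h2 : IsIso (L.presheaf.map (homOfLE ((V D).ι.image_preimage_le (D.π ⁻¹ᵁ ((U D).ι ''ᵁ W)))).op) := inferInstance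
  exact (ConcreteCategory.isIso_iff_bijective _).1 h2

theorem support_Q (L : D.Y.Modules) : CohB1.support (Q D.π (V D) L) ⊆ (D.I.support : Set Z) := by
  have h := ((S13987.isIso_restrict_iff (U D) ((toHull D.π (V D)).app L)).1 (isIso_toHull D L)).2
  intro x hx
  by_contra hx'
  exact h hx hx'

/-- The hull as a direct image from the open set. -/
theorem nonempty_hullIso (L : D.Y.Modules) : ∃ (_ : IsIso (D.π ∣_ U D)),
    Nonempty ((hull D.π (V D)).obj L ≅
      (Scheme.Modules.pushforward (U D).ι).obj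
        ((Scheme.Modules.pullback (inv (D.π ∣_ U D))).obj (L.restrict (V D).ι))) := by
  have hi := isIso_restrict D
  refine ⟨hi, ⟨?_⟩⟩
  let e : ((V D : D.Y.Opens) : Scheme.{u}) ≅ ((U D : Z.Opens) : Scheme.{u}) := asIso (D.π ∣_ U D)
  have h1 : (Scheme.Modules.pullback (inv (D.π ∣_ U D))) ≅ Scheme.Modules.pushforward (D.π ∣_ U D) :=
    PerfB.BCAdapt.pullIsoPush e.symm
  have h2 : Scheme.Modules.pushforward (V D).ι ⋙ Scheme.Modules.pushforward D.π ≅
      Scheme.Modules.pushforward (D.π ∣_ U D) ⋙ Scheme.Modules.pushforward (U D).ι :=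
    Scheme.Modules.pushforwardComp _ _ ≪≫ Scheme.Modules.pushforwardCongr (morphismRestrict_ι D.π (U D)).symm ≪≫
      (Scheme.Modules.pushforwardComp _ _).symm
  exact h2.app _ ≪≫ (Scheme.Modules.pushforward (U D).ι).mapIso (h1.symm.app _)

variable [IsIntegral Z] [IsLocallyNoetherian Z]

theorem isReflexive_stalk {X : Scheme.{u}} [IsIntegral X] [IsLocallyNoetherian X] {N : X.Modules}
    (hN : PicF.IsInvertible N) (x : X) : Module.IsReflexive (X.presheaf.stalk x) (N.presheaf.stalk x) := by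
  have h := K938.RefCl.isRef1_of_isInvertible hN
  exact (K476.HomSh4.isReflexive_iff_isReflexiveAt h.1).mp h.2.1 x

theorem depth_le (hnorm : Pi1.IsNormalScheme Z) (x : Z) (hx : x ∉ U D) :
    (2 : ℕ∞) ≤ LocCoh.depth (Z.presheaf.stalk x) (Z.presheaf.stalk x) := by
  have hx' : x ∈ D.I.support := not_not.1 hx
  have := (hnorm x).1
  have := (hnorm x).2
  refine CalgA.SerreLocal.two_le_depth_of_isIntegrallyClosed fun h => D.singT x hx' ?_
  exact K377.BlowCodim2.isRegular_of_normal _ h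

theorem isCoh_hull (hnorm : Pi1.IsNormalScheme Z) {L : D.Y.Modules} (hL : PicF.IsInvertible L) :
    Coh.IsCoh ((hull D.π (V D)).obj L) ∧ ∀ x : Z, Module.IsReflexive (Z.presheaf.stalk x)
      (((hull D.π (V D)).obj L).presheaf.stalk x) := by
  obtain ⟨hi, ⟨e⟩⟩ := nonempty_hullIso D L
  have hne : Nonempty ((U D : Z.Opens) : Scheme.{u}) := ⟨⟨_, gen_notMem D⟩⟩
  have hUi : IsIntegral ((U D : Z.Opens) : Scheme.{u}) := isIntegral_of_isOpenImmersion (U D).ι
  have hG : PicF.IsInvertible ((Scheme.Modules.pullback (inv (D.π ∣_ U D))).obj (L.restrict (V D).ι)) :=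
    isInvertible_pullback _ (Groth.Agent.Ega1.AmpFamBlow.isInvertible_restrict _ hL)
  have h := (S1691.result Z (U D) (depth_le D hnorm)).2 _ (Etcore.DegZero.isCoh hG) (isReflexive_stalk hG)
  exact ⟨Ega3B.DevQC.isCoh_of_iso e.symm h.1, fun x => Divis.ReflexSheaf.isReflexive_stalk_of_iso e.symm x (h.2 x)⟩

/-- The restriction of the hull to the open set. -/
theorem nonempty_hull_restrict (L : D.Y.Modules) : ∃ (_ : IsIso (D.π ∣_ U D)),
    Nonempty (((hull D.π (V D)).obj L).restrict (U D).ι ≅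
      (Scheme.Modules.pullback (inv (D.π ∣_ U D))).obj (L.restrict (V D).ι)) := by
  obtain ⟨hi, ⟨e⟩⟩ := nonempty_hullIso D L
  exact ⟨hi, ⟨(Scheme.Modules.restrictFunctor (U D).ι).mapIso e ≪≫
    asIso ((Scheme.Modules.restrictAdjunction (U D).ι).counit.app _)⟩⟩

theorem isRef1_hull (hnorm : Pi1.IsNormalScheme Z) {L : D.Y.Modules} (hL : PicF.IsInvertible L) :
    RefHull.IsRef1 ((hull D.π (V D)).obj L) := by
  obtain ⟨h1, h2⟩ := isCoh_hull D hnorm hL
  obtain ⟨hi, ⟨e⟩⟩ := nonempty_hull_restrict D L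
  refine ⟨h1, (K476.HomSh4.isReflexive_iff_isReflexiveAt h1).mpr h2, U D, ?_, ?_⟩
  · exact (U D).isOpen.dense ⟨_, gen_notMem D⟩
  · exact K476.HomSh6.isInvertible_of_iso e.symm
      (isInvertible_pullback _ (Groth.Agent.Ega1.AmpFamBlow.isInvertible_restrict _ hL))

/-! ### The Euler characteristic of the hull -/

section euler

variable [IsProper (Z ↘ Spec (CommRingCat.of k))]

theorem isCoh_Q (hnorm : Pi1.IsNormalScheme Z) {L : D.Y.Modules} (hL : PicF.IsInvertible L) :
    Coh.IsCoh (Q D.π (V D) L) := by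
  have hN := VarietyA.TwistExist.isNoetherian k Z
  have hNY := VarietyA.TwistExist.isNoetherian k D.Y
  exact CohqB.SerTw.isCoh_cokernel _ (Fga.HodgePush.isCoh_push D.π (Fga.HodgeSec.isCoh_of_isInvertible hL)).1
    (isCoh_hull D hnorm hL).1

theorem euler_hull (hnorm : Pi1.IsNormalScheme Z) {L : D.Y.Modules} (hL : PicF.IsInvertible L) :
    Curv2.euler k Z ((hull D.π (V D)).obj L) = Curv2.euler k D.Y L + ex k D.π L +
      Module.finrank k (Coh.HH Z (Q D.π (V D) L) 0) := by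
  have hN := VarietyA.TwistExist.isNoetherian k Z
  have hNY := VarietyA.TwistExist.isNoetherian k D.Y
  have hQ := isCoh_Q D hnorm hL
  have hm := mono_toHull D.π (V D) (V_nonempty D) hL
  have h3 := shortExact_cokernel ((toHull D.π (V D)).app L)
  have h4 : Curv2.euler k Z ((hull D.π (V D)).obj L) = Curv2.euler k Z ((Scheme.Modules.pushforward D.π).obj L) +
      Curv2.euler k Z (Q D.π (V D) L) :=
    euler_add k _ _ _ h3 (Fga.HodgePush.isCoh_push D.π (Fga.HodgeSec.isCoh_of_isInvertible hL))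
      (isCoh_hull D hnorm hL).1 hQ
  have h5 := euler_eq k hQ ((Fga.DimLt.topologicalKrullDim_mono (support_Q D L)).trans (dim_support D))
  rw [h4, h5, ex]
  ring

theorem dfct_bound (hnorm : Pi1.IsNormalScheme Z) (B : ℕ) :
    ∃ K : ℕ, ∀ ν : Pic D.Y, (∀ j, |LocComb.dg (dH D.S) j ν| ≤ B) → dfct D.π (V D) k ν ≤ K := by
  have hN := VarietyA.TwistExist.isNoetherian k Z
  have hNY := VarietyA.TwistExist.isNoetherian k D.Y
  have hJ := isInvertible_idealMod D.blow.1
  obtain ⟨P, hP, ⟨e⟩⟩ := exists_inverse hJ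
  obtain ⟨s, hs⟩ := K449.CanSec.exists_section (I := D.I.comap D.π) (L := P) ⟨Ega2.Tens.swap _ _ ≪≫ e⟩
  have hV : CohB1.genLocus P s = V D := by
    ext y
    rw [hs, Scheme.IdealSheafData.support_comap]
    rfl
  have hPa : mk P hP = (tw (LocGeom.E D.S) D.a)⁻¹ := by
    rw [← D.cls]
    apply eq_inv_of_mul_eq_one_right
    rw [mk_mul_mk, mk_eq_one_iff]
    exact ⟨e⟩
  refine Defect.dfct_bound D.π (V D) D.S D.comm (V_nonempty D) (c_notMem D) D.a D.off D.apos D.pos (fun ν => ?_) B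
  rw [← hV]
  exact dfct_serre s D.π hP (fun L hL => by rw [hV]; exact (isCoh_hull D hnorm hL).1) D.S D.a hPa ν

/-- **Bounded error.** -/
theorem bound (hnorm : Pi1.IsNormalScheme Z) (B : ℕ) :
    ∃ K : ℕ, ∀ (L : D.Y.Modules) (hL : PicF.IsInvertible L), (∀ j, |LocComb.dg (dH D.S) j (mk L hL)| ≤ B) →
      |Curv2.euler k Z ((hull D.π (V D)).obj L) - Curv2.euler k D.Y L| ≤ K := by
  obtain ⟨K₁, h₁⟩ := exP_bound D B
  obtain ⟨K₂, h₂⟩ := dfct_bound D hnorm B
  refine ⟨K₁ + K₂, fun L hL h => ?_⟩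
  have e1 := h₁ _ h
  have e2 := h₂ _ h
  rw [exP_mk] at e1
  rw [dfct_mk] at e2
  have hQ := isCoh_Q D hnorm hL
  have := EulerLink.finite_HH k hQ 0
  rw [Module.length_eq_finrank] at e2
  have e3 := ex_nonneg D (Fga.HodgeSec.isCoh_of_isInvertible hL)
  rw [euler_hull D hnorm hL]
  have e4 : (ex k D.π L).toNat ≤ K₁ := by exact_mod_cast e1
  have e5 : Module.finrank k (Coh.HH Z (Q D.π (V D) L) 0) ≤ K₂ := by exact_mod_cast e2
  rw [abs_le]
  push_cast
  constructor <;> omega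

end euler

end K939.SurfHull
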