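import Groth.Agent.RefCh.K424.AbsSurf
import Groth.Agent.RefCh.K939.SurfDot
import Groth.Agent.RefCh.K938.Val

/-!
# The abstract surface data of a normal proper surface
-/

set_option autoImplicit false
universe u
open CategoryTheory CategoryTheory.Limits AlgebraicGeometry Opposite TopologicalSpace

namespace K939.SurfInst

open Groth.Agent Groth.Agent.Grpsch.PicGrp K938 K938.LocComb K938.LocGeom K938.Val
  K939.SurfGeo K939.SurfBd K939.SurfHull K939.SurfCl K464.Base RefFun

variable {k : Type u} [Field k] {Z : Scheme.{u}} [Z.Over (Spec (CommRingCat.of k))]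
  [IsProper (Z ↘ Spec (CommRingCat.of k))] [IsIntegral Z] [IsLocallyNoetherian Z] [Law Z]

theorem euler_congr' (F G : Z.Modules) (h : Nonempty (F ≅ G)) : Curv2.euler k Z F = Curv2.euler k Z G :=
  Fga.HodgePush.euler_congr k Z h.some

/-- The instance. -/
noncomputable def inst (D : SurfGeo.Data k Z) (hnorm : Pi1.IsNormalScheme Z) :
    K424.AbsSurf.Data (Pic D.Y) (Ref1Set Z) D.r where
  χ := chi k D.Y
  dot_mul a b c := dot_mul_left k D.Y D.dim.le a b c
  E := LocGeom.E D.S
  dg := dH D.S
  dot_E j a := SurfDot.dot_E D.S j a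
  a := D.a
  apos := D.apos
  off := D.off
  pos := D.pos
  hull := hullHom D hnorm
  hull_surj := by
    have := VarietyA.TwistExist.isNoetherian k D.Y
    exact hullHom_surjective D hnorm
  hull_E := hullHom_E D hnorm
  Φ := val (Curv2.euler k Z)
  bound B := by
    obtain ⟨K, hK⟩ := SurfHull.bound D hnorm B
    refine ⟨K, fun ν h => ?_⟩
    obtain ⟨L, hL, rfl⟩ := exists_mk ν
    rw [hullHom_mk, val_cls euler_congr', chi_mk]
    exact hK L hL h

end K939.SurfInst
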