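import Groth.Agent.Pic13.H950.Curves
import Groth.Agent.S14812
import Groth.Agent.FBase.K106.Dim
import Groth.Agent.RefCh.K939.IntNumBC
import Groth.Agent.Surf.K464.Base

/-!
# Numerical finiteness over an arbitrary field

* `exists_detect` : finitely many integral linear forms on `Pic Y` detect the radical of the intersection form of a proper
  scheme `Y` of dimension at most two over an arbitrary field.
-/

set_option autoImplicit false
universe u
open CategoryTheory CategoryTheory.Limits AlgebraicGeometry Opposite TopologicalSpace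

namespace K939.SurfNum

open Groth.Agent Groth.Agent.Grpsch.PicGrp Groth.Agent.Fdesc.LocGen K464.Base Groth.Agent.Pic13.H950.NumCl

variable {k : Type u} [Field k] {Y : Scheme.{u}} [Y.Over (Spec (CommRingCat.of k))]
  [IsProper (Y ↘ Spec (CommRingCat.of k))]

theorem chi_pull {K : Type u} [Field K] {Y' : Scheme.{u}} [Y'.Over (Spec (CommRingCat.of K))]
    [IsProper (Y' ↘ Spec (CommRingCat.of K))]
    (g : Y' ⟶ Y) (s : Spec (CommRingCat.of K) ⟶ Spec (CommRingCat.of k))
    (hpb : IsPullback g (Y' ↘ Spec (CommRingCat.of K)) (Y ↘ Spec (CommRingCat.of k)) s) (d : ℕ)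
    (hd : topologicalKrullDim Y ≤ d) (hd' : topologicalKrullDim Y' ≤ d) (a : Pic Y) :
    chi K Y' (pull g a) = chi k Y a := by
  obtain ⟨L, hL, rfl⟩ := exists_mk a
  have hN := VarietyA.TwistExist.isNoetherian k Y
  have hN' := VarietyA.TwistExist.isNoetherian K Y'
  rw [pull_mk, chi_mk, chi_mk, ← Fga.IntAdd.eulerCharLE_eq k Y d hd, ← Fga.IntAdd.eulerCharLE_eq K Y' d hd']
  exact IntNumBC.eulerCharLE_pullback k Y K Y' g s hpb L (Ega2.QCohLocal.isQCoh_of_isInvertible hL) d

/-- Numerically trivial classes are in the radical. -/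
theorem dot_eq_zero (d : ℕ) (hd : topologicalKrullDim Y ≤ d) {a : Pic Y} (ha : a ∈ numCl k Y) (b : Pic Y) :
    dot k Y a b = 0 := by
  have hN := VarietyA.TwistExist.isNoetherian k Y
  obtain ⟨L, hL, rfl⟩ := exists_mk a
  obtain ⟨M, hM, rfl⟩ := exists_mk b
  have h := (S14812.result k Y L hL).1 ((mem_numCl_iff k Y hL).1 ha)
  have h1 := h (Coh.structureModule Y) (isCoh_unit k Y) d hd
  have h2 := h M (isCoh_of_isInvertible k Y hM) d hd
  rw [Fga.IntAdd.eulerCharLE_eq k Y d hd, Fga.IntAdd.eulerCharLE_eq k Y d hd] at h1 h2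
  rw [dot_def, mul_comm (mk L hL), mk_mul_mk, chi_mk, chi_mk, chi_mk, chi_one, h2,
    ← Fga.HodgePush.euler_congr k Y (Ega2.Tens.lunit L), h1]
  ring

theorem exists_detect (d : ℕ) (hd : topologicalKrullDim Y ≤ d) :
    ∃ (p : ℕ) (f : Fin p → (Additive (Pic Y) →+ ℤ)), ∀ a : Pic Y, (∀ j, f j (Additive.ofMul a) = 0) →
      ∀ b, dot k Y a b = 0 := by
  let K := AlgebraicClosure k
  let s : Spec (CommRingCat.of K) ⟶ Spec (CommRingCat.of k) := Spec.map (CommRingCat.ofHom (algebraMap k K))
  let Y' := pullback (Y ↘ Spec (CommRingCat.of k)) s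
  let _ : Y'.Over (Spec (CommRingCat.of K)) := ⟨pullback.snd _ _⟩
  let g : Y' ⟶ Y := pullback.fst _ _
  have hpb : IsPullback g (Y' ↘ Spec (CommRingCat.of K)) (Y ↘ Spec (CommRingCat.of k)) s :=
    IsPullback.of_hasPullback _ _
  have hp : IsProper (Y' ↘ Spec (CommRingCat.of K)) := MorphismProperty.of_isPullback (P := @IsProper) hpb inferInstance
  have hd' : topologicalKrullDim Y' ≤ d := (K106.Dim.topologicalKrullDim_bc_eq (Y ↘ Spec (CommRingCat.of k)) K).le.trans hd
  obtain ⟨p, C, hC⟩ := Pic13.H950.Curves.exists_curves K Y'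
  refine ⟨p, fun j => (degOn K Y' (C j)).comp (MonoidHom.toAdditive (pull g)), fun a ha b => ?_⟩
  have h1 : pull g a ∈ numCl K Y' := hC _ fun j => ha j
  have h2 := dot_eq_zero d hd' h1 (pull g b)
  rw [dot_def, ← map_mul, chi_pull g s hpb d hd hd', chi_pull g s hpb d hd hd', chi_pull g s hpb d hd hd'] at h2
  rw [dot_def, ← h2]
  congr 3
  rw [← map_one (pull g), chi_pull g s hpb d hd hd']

end K939.SurfNum
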