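import Groth.Agent.Models.K381.ResModel
import Groth.Agent.Sga2lef.H338.StalkDepth
import Groth.Agent.Surf.K464.Comp
import Groth.Agent.S1618
import Groth.Agent.Sga67.BlowAmple
import Groth.Agent.Ega1.AmpFamBlow
import Groth.Agent.Fga.DimLt

/-!
# Resolution of a normal proper surface over a field by one blow-up

* `exists_blow` : the blow-up of an ideal with finite support of closed points which resolves a normal proper surface.
-/

set_option autoImplicit false
universe u
open CategoryTheory CategoryTheory.Limits AlgebraicGeometry Opposite TopologicalSpace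

namespace K939.SurfRes

open Groth.Agent

variable {k : Type u} [Field k] {Z : Scheme.{u}}

theorem isExc (f : Z ⟶ Spec (CommRingCat.of k)) [LocallyOfFiniteType f] : K381.ExcSch.IsExc Z := by
  refine K381.ExcSch.IsExc.of_locallyOfFiniteType f (K381.ExcSch.IsExc.of_forall fun U => ?_)
  by_cases hU : Nonempty (U.1 : Set ↥(Spec (CommRingCat.of k)))
  · have h1 : U.1 = ⊤ := by
      obtain ⟨x, hx⟩ := hU
      ext y
      simp only [SetLike.mem_coe, TopologicalSpace.Opens.coe_top, Set.mem_univ, iff_true]
      have : y = x := Subsingleton.elim (α := PrimeSpectrum k) y x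
      rw [this]; exact hx
    have e : CommRingCat.of k ≅ Γ(Spec (CommRingCat.of k), U.1) :=
      (Scheme.ΓSpecIso (CommRingCat.of k)).symm ≪≫ eqToIso (by rw [h1])
    let _ : Algebra k Γ(Spec (CommRingCat.of k), U.1) := e.hom.hom.toAlgebra
    have : Algebra.FiniteType k Γ(Spec (CommRingCat.of k), U.1) :=
      RingHom.FiniteType.of_surjective e.hom.hom e.commRingCatIsoToRingEquiv.surjective
    exact S2651.result k (Groth.Agent.Sga2lef.H338.StalkDepth.isExcellent_field k) _
  · have h1 : U.1 = ⊥ := by
      ext y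
      simp only [SetLike.mem_coe, TopologicalSpace.Opens.coe_bot, Set.mem_empty_iff_false, iff_false]
      exact fun hy => hU ⟨⟨y, hy⟩⟩
    have : Subsingleton Γ(Spec (CommRingCat.of k), U.1) := by
      rw [h1]; infer_instance
    let φ : k →+* Γ(Spec (CommRingCat.of k), U.1) :=
      ((Spec (CommRingCat.of k)).presheaf.map (homOfLE le_top : U.1 ⟶ ⊤).op).hom.comp
        (Scheme.ΓSpecIso (CommRingCat.of k)).inv.hom
    let _ : Algebra k Γ(Spec (CommRingCat.of k), U.1) := φ.toAlgebra
    have : Algebra.FiniteType k Γ(Spec (CommRingCat.of k), U.1) :=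
      RingHom.FiniteType.of_surjective φ (fun y => ⟨0, Subsingleton.elim _ _⟩)
    exact S2651.result k (Groth.Agent.Sga2lef.H338.StalkDepth.isExcellent_field k) _

/-- A closed subset all of whose points are closed is finite. -/
theorem finite_of_closedPoints {X : Type*} [TopologicalSpace X] [T0Space X] [QuasiSober X] [NoetherianSpace X]
    (T : Set X) (hT : IsClosed T) (h : ∀ x ∈ T, IsClosed ({x} : Set X)) : T.Finite := by
  refine (K377.BlowCodim2.finite_maximal T hT).subset fun x hx => ⟨hx, fun y hy hyx => ?_⟩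
  have h1 := hyx.mem_closed (h y hy) (Set.mem_singleton y)
  exact (Set.mem_singleton_iff.1 h1).symm

/-- Points of codimension two on a surface are closed. -/
theorem isClosed_of_dim (f : Z ⟶ Spec (CommRingCat.of k)) [LocallyOfFiniteType f] [IsIntegral Z]
    (hdim : topologicalKrullDim Z = 2) (x : Z) (hx : (2 : WithBot ℕ∞) ≤ ringKrullDim (Z.presheaf.stalk x)) :
    IsClosed ({x} : Set Z) := by
  obtain ⟨a, t, n, h3, -, h5, h6, h7⟩ := CycA.IntLocal.exists_dims f x
  rw [hdim] at h6
  rw [h3] at hx
  have ha : 2 ≤ a := by exact_mod_cast hx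
  have hn : n = 2 := by exact_mod_cast h6.symm
  have ht : t = 0 := by omega
  rw [ht] at h5
  have hcl : IsClosed (closure ({x} : Set Z)) := isClosed_closure
  suffices h : closure ({x} : Set Z) = {x} by rw [← h]; exact hcl
  refine Set.Subset.antisymm (fun y hy => ?_) subset_closure
  by_contra hne
  have hyx : y ≠ x := fun h => hne (by rw [h]; rfl)
  -- the chain closure {y} < closure {x}
  have hy' : x ⤳ y := specializes_iff_mem_closure.mpr hy
  let C : Set Z := closure {x}
  let x' : C := ⟨x, subset_closure rfl⟩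
  let y' : C := ⟨y, hy⟩
  have h8 : topologicalKrullDim C ≥ 1 := by
    have hlt : (⟨closure {y'}, isIrreducible_singleton.closure, isClosed_closure⟩ : IrreducibleCloseds C) <
        ⟨closure {x'}, isIrreducible_singleton.closure, isClosed_closure⟩ := by
      refine lt_of_le_of_ne ?_ ?_
      · change closure {y'} ⊆ closure {x'}
        refine closure_minimal (Set.singleton_subset_iff.2 ?_) isClosed_closure
        rw [closure_subtype]
        simp only [Set.image_singleton]
        exact hy
      · intro h
        have h9 : closure {y'} = closure {x'} := congrArg (fun (I : IrreducibleCloseds C) => (I : Set C)) h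
        have h10 : x' ∈ closure {y'} := by rw [h9]; exact subset_closure rfl
        rw [closure_subtype] at h10
        simp only [Set.image_singleton] at h10
        have h11 : y ⤳ x := specializes_iff_mem_closure.mpr h10
        exact hyx ((h11.antisymm hy').eq)
    have : Nonempty (IrreducibleCloseds C) := ⟨⟨closure {y'}, isIrreducible_singleton.closure, isClosed_closure⟩⟩
    exact (Order.one_le_krullDim_iff).2 ⟨_, _, hlt⟩
  change topologicalKrullDim C = _ at h5
  rw [h5] at h8
  exact absurd h8 (by norm_num)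

theorem isIso_offSupport {Y : Scheme.{u}} {I : Z.IdealSheafData} {π : Y ⟶ Z} (hb : BlowUp.IsBlowUp π I) (U : Z.Opens)
    (hU : ∀ x ∈ U, x ∉ I.support) : IsIso (π ∣_ U) := by
  refine Groth.Agent.Divis.BlowUpFormal.isIso_of_isBlowUp_of_isEff
    (Groth.Agent.Divis.BlowUpFormal.isBlowUp_morphismRestrict hb U) ?_
  rw [Groth.Agent.Ega2.BlowBasic.comap_eq_top_of_range (f := U.ι) (I := I) (fun x => hU _ x.2)]
  exact Groth.Agent.Ega2.BlowBasic.isEffCartierIdeal_top

theorem exists_blow (f : Z ⟶ Spec (CommRingCat.of k)) [IsProper f] [IsIntegral Z] (hnorm : Pi1.IsNormalScheme Z)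
    (hdim : topologicalKrullDim Z = 2) :
    ∃ (I : Z.IdealSheafData) (Y : Scheme.{u}) (π : Y ⟶ Z), BlowUp.IsBlowUp π I ∧ (I.support : Set Z).Finite ∧
      (∀ x ∈ I.support, IsClosed ({x} : Set Z)) ∧ (∀ x ∈ I.support, ¬ IsRegularLocalRing (Z.presheaf.stalk x)) ∧
      IsIntegral Y ∧ IsProper π ∧ Surjective π ∧ topologicalKrullDim Y = 2 ∧
      (∀ y : Y, IsRegularLocalRing (Y.presheaf.stalk y)) := by
  have : IsNoetherian Z := by
    have := LocallyOfFiniteType.isLocallyNoetherian f
    have : CompactSpace Z := QuasiCompact.compactSpace_of_compactSpace f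
    exact ⟨⟩
  have hd : ∀ x : Z, ringKrullDim (Z.presheaf.stalk x) ≤ 2 := K464.Curves.ringKrullDim_stalk_le hdim.le
  obtain ⟨I, h1, h2⟩ := (isExc f).exists_ideal hnorm hd
  have h3 : ∀ x ∈ I.support, IsClosed ({x} : Set Z) := by
    intro x hx
    refine isClosed_of_dim f hdim x ?_
    by_contra hlt
    apply h1 x hx
    have := (hnorm x).1
    have := (hnorm x).2
    apply K377.BlowCodim2.isRegular_of_normal
    rw [not_le] at hlt
    exact Order.le_of_lt_succ hlt
  obtain ⟨Y, π, hb⟩ := Groth.Agent.Flat2C.BlowExist.exists_isBlowUp (𝓘 := I)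
  have hπ : IsProper π := Groth.Agent.Flat2C.BlowProper.isProper_of_isBlowUp hb (K381.ResModel.isFiniteTypeIdeal I)
  have hη : genericPoint Z ∉ I.support := by
    intro h
    apply h1 _ h
    have := (hnorm (genericPoint Z)).1
    have := (hnorm (genericPoint Z)).2
    apply K377.BlowCodim2.isRegular_of_normal
    have h4 : ringKrullDim (Z.presheaf.stalk (genericPoint Z)) = 0 :=
      ringKrullDim_eq_zero_of_isField (Field.toIsField Z.functionField)
    rw [h4]
    exact zero_le_one
  have hI : I ≠ ⊥ := by
    rintro rfl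
    refine hη ?_
    rw [Scheme.IdealSheafData.support_bot]
    trivial
  obtain ⟨hY, hgen, -⟩ := Groth.Agent.S2348.result I hI π hb
  have hsur : Surjective π := by
    refine ⟨Set.range_eq_univ.1 ?_⟩
    have hc : IsClosed (Set.range π) := π.isClosedMap.isClosed_range
    rw [← Set.univ_subset_iff, ← genericPoint_closure (α := Z)]
    exact closure_minimal (Set.singleton_subset_iff.2 ⟨_, hgen⟩) hc
  refine ⟨I, Y, π, hb, finite_of_closedPoints _ I.support.isClosed h3, h3, h1, hY, hπ, hsur, ?_, (h2 Y π hb).2⟩
  -- the dimension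
  let U : Z.Opens := ⟨(I.support : Set Z)ᶜ, I.support.isClosed.isOpen_compl⟩
  have hU : IsIso (π ∣_ U) := isIso_offSupport hb U fun x hx => hx
  let _ : Z.Over (Spec (CommRingCat.of k)) := ⟨f⟩
  let _ : Y.Over (Spec (CommRingCat.of k)) := ⟨π ≫ f⟩
  have i1 : LocallyOfFiniteType (Z ↘ Spec (CommRingCat.of k)) := inferInstanceAs (LocallyOfFiniteType f)
  have i2 : LocallyOfFiniteType (Y ↘ Spec (CommRingCat.of k)) := inferInstanceAs (LocallyOfFiniteType (π ≫ f))
  have e1 := S1618.result k Z U ⟨_, hη⟩
  have e2 := S1618.result k Y (π ⁻¹ᵁ U) ⟨genericPoint Y, by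
    change π (genericPoint Y) ∈ U
    exact (show π (genericPoint Y) = genericPoint Z from hgen) ▸ hη⟩
  rw [← e2, ← hdim, ← e1]
  exact IsHomeomorph.topologicalKrullDim_eq _ (π ∣_ U).homeomorph.isHomeomorph

end K939.SurfRes
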