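import Groth.Agent.RefCh.K939.SurfX
import Groth.Agent.Fga.IntAdd
import Groth.Agent.VarietyA.AmpleField

/-!
# The quadratic form on rank one reflexive modules of a normal projective scheme cut out by very ample modules
-/

set_option autoImplicit false
universe u
open CategoryTheory CategoryTheory.Limits AlgebraicGeometry Opposite TopologicalSpace Filter Topology

namespace K939.SurfRow

open Groth.Agent K938.RefCl K938.Val K939.SurfX RefFun RefHull RefPow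

section Form

variable {X : Scheme.{u}} {φ : X.Modules → ℤ} (G : Geo X φ) [IsIntegral X] [IsLocallyNoetherian X] [Law X]
  (hφ : ∀ F F' : X.Modules, Nonempty (F ≅ F') → φ F = φ F')

/-- The quadratic form on classes. -/
noncomputable def Q (c : Ref1Set X) : ℚ := G.S.q (G.ρ c)

/-- The pairing on classes. -/
noncomputable def B (c d : Ref1Set X) : ℚ := G.S.b (G.ρ c) (G.ρ d)

include hφ in
theorem val_pow (F : X.Modules) (hF : IsRef1 F) (m : ℕ) :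
    φ (refPow F m) = G.S.Φ (G.ρ (cls F hF) ^ m) := by
  rw [← map_pow, ← G.val_eq' hφ, ← cls_refPow hF m, val_cls hφ]

include hφ in
theorem lim (F : X.Modules) (hF : IsRef1 F) :
    Tendsto (fun m : ℕ => (2 : ℝ) * (φ (refPow F m) : ℝ) / ((m : ℝ) ^ 2)) atTop (𝓝 ((Q G (cls F hF) : ℚ) : ℝ)) := by
  simp only [val_pow G hφ F hF]
  exact G.S.lim _

include hφ in
theorem lim_half (F : X.Modules) (hF : IsRef1 F) :
    Tendsto (fun m : ℕ => (φ (refPow F m) : ℝ) / ((m : ℝ) ^ 2)) atTop (𝓝 ((Q G (cls F hF) / 2 : ℚ) : ℝ)) := by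
  simp only [val_pow G hφ F hF]
  exact G.S.lim_half _

include hφ in
theorem eq_Q {F : X.Modules} (hF : IsRef1 F) {t : ℝ}
    (h : Tendsto (fun m : ℕ => (2 : ℝ) * (φ (refPow F m) : ℝ) / ((m : ℝ) ^ 2)) atTop (𝓝 t)) :
    t = ((Q G (cls F hF) : ℚ) : ℝ) :=
  tendsto_nhds_unique h (lim G hφ F hF)

include hφ in
theorem eq_Q_tensor {F F' : X.Modules} (hF : IsRef1 F) (hF' : IsRef1 F') {t : ℝ}
    (h : Tendsto (fun m : ℕ => (2 : ℝ) * (φ (refPow (refTensor F F') m) : ℝ) / ((m : ℝ) ^ 2)) atTop (𝓝 t)) :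
    t = ((Q G (cls F hF * cls F' hF') : ℚ) : ℝ) := by
  rw [← cls_refTensor]
  exact eq_Q G hφ _ h

theorem Q_mul (c d : Ref1Set X) : Q G (c * d) = Q G c + Q G d + 2 * B G c d := by
  unfold Q B
  rw [map_mul, G.S.q_mul]

theorem cube (c d e : Ref1Set X) :
    Q G (c * d * e) - Q G (c * d) - Q G (c * e) - Q G (d * e) + Q G c + Q G d + Q G e = 0 := by
  unfold Q
  simp only [map_mul]
  exact G.S.cube _ _ _

include G hφ in
theorem denominators : ∃ N : ℕ, 0 < N ∧ ∀ (ℒ₁ ℒ₂ : X.Modules), IsRef1 ℒ₁ → IsRef1 ℒ₂ →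
      ∀ (q₁ q₂ q₁₂ : ℝ), Tendsto (fun m : ℕ => (2 : ℝ) * (φ (refPow ℒ₁ m) : ℝ) / ((m : ℝ) ^ 2)) atTop (𝓝 q₁) →
        Tendsto (fun m : ℕ => (2 : ℝ) * (φ (refPow ℒ₂ m) : ℝ) / ((m : ℝ) ^ 2)) atTop (𝓝 q₂) →
        Tendsto (fun m : ℕ => (2 : ℝ) * (φ (refPow (refTensor ℒ₁ ℒ₂) m) : ℝ) / ((m : ℝ) ^ 2)) atTop (𝓝 q₁₂) →
        ∃ z : ℤ, (N : ℝ) * ((q₁₂ - q₁ - q₂) / 2) = (z : ℝ) := by
  obtain ⟨N, hN, h⟩ := G.S.denominators
  refine ⟨N, hN, fun ℒ₁ ℒ₂ h₁ h₂ q₁ q₂ q₁₂ t₁ t₂ t₁₂ => ?_⟩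
  obtain ⟨z, hz⟩ := h (G.ρ (cls ℒ₁ h₁)) (G.ρ (cls ℒ₂ h₂))
  refine ⟨z, ?_⟩
  rw [eq_Q G hφ h₁ t₁, eq_Q G hφ h₂ t₂, eq_Q_tensor G hφ h₁ h₂ t₁₂, Q_mul]
  have hz' : (N : ℚ) * B G (cls ℒ₁ h₁) (cls ℒ₂ h₂) = z := hz
  have := congrArg (fun x : ℚ => (x : ℝ)) hz'
  push_cast at this ⊢
  rw [← this]
  ring

include G hφ in
theorem hodge (hample : ∃ A : X.Modules, CohB1.IsAmple A) (𝒟 ℰ : X.Modules) (h𝒟 : IsRef1 𝒟) (hℰ : IsRef1 ℰ) (d e : ℝ)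
    (hd : Tendsto (fun m : ℕ => (2 : ℝ) * (φ (refPow 𝒟 m) : ℝ) / ((m : ℝ) ^ 2)) atTop (𝓝 d))
    (he : Tendsto (fun m : ℕ => (2 : ℝ) * (φ (refPow ℰ m) : ℝ) / ((m : ℝ) ^ 2)) atTop (𝓝 e))
    (hde : Tendsto (fun m : ℕ => (2 : ℝ) * (φ (refPow (refTensor 𝒟 ℰ) m) : ℝ) / ((m : ℝ) ^ 2)) atTop (𝓝 (d + e)))
    (hdpos : 0 < d) :
    e ≤ 0 ∧ (e = 0 → ∀ (ℱ : X.Modules), IsRef1 ℱ → ∀ (f g : ℝ),
      Tendsto (fun m : ℕ => (2 : ℝ) * (φ (refPow ℱ m) : ℝ) / ((m : ℝ) ^ 2)) atTop (𝓝 f) →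
      Tendsto (fun m : ℕ => (2 : ℝ) * (φ (refPow (refTensor ℰ ℱ) m) : ℝ) / ((m : ℝ) ^ 2)) atTop (𝓝 g) → g = e + f) := by
  obtain ⟨h, hh, hodge⟩ := G.hodge hample
  have e1 := eq_Q G hφ h𝒟 hd
  have e2 := eq_Q G hφ hℰ he
  have e3 := eq_Q_tensor G hφ h𝒟 hℰ hde
  rw [Q_mul, e1, e2] at e3
  have hB : B G (cls 𝒟 h𝒟) (cls ℰ hℰ) = 0 := by
    have : ((B G (cls 𝒟 h𝒟) (cls ℰ hℰ) : ℚ) : ℝ) = 0 := by
      push_cast at e3
      linarith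
    exact_mod_cast this
  have hpos : 0 < Q G (cls 𝒟 h𝒟) := by
    rw [e1] at hdpos
    exact_mod_cast hdpos
  obtain ⟨h3, h4⟩ := G.S.hodge hh hodge (c := G.ρ (cls 𝒟 h𝒟)) (e := G.ρ (cls ℰ hℰ)) hpos hB
  refine ⟨?_, fun h0 ℱ hℱ f g hf hg => ?_⟩
  · rw [e2]
    exact_mod_cast h3
  · have h5 : Q G (cls ℰ hℰ) = 0 := by
      rw [e2] at h0
      exact_mod_cast h0
    have h6 : B G (cls ℰ hℰ) (cls ℱ hℱ) = 0 := h4 h5 _
    rw [eq_Q_tensor G hφ hℰ hℱ hg, Q_mul, h6, e2, eq_Q G hφ hℱ hf]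
    push_cast
    ring

end Form

/-! ### Very ample modules -/

/-- The surface defined by very ample modules. -/
theorem exists_geo_veryAmple (k : Type u) [Field k] (X : Scheme.{u}) [X.Over (Spec (CommRingCat.of k))]
    [IsProper (X ↘ Spec (CommRingCat.of k))] [IsIntegral X]
    (hnorm : Pi1.IsNormalScheme X) (s : ℕ) (hdim : topologicalKrullDim X = (s + 2 : ℕ)) (L M : Fin s → X.Modules)
    (hLva : ∀ i, ∃ (N : ℕ) (ι : X ⟶ CohB1.ProjSpace N k), IsClosedImmersion ι ∧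
      ι ≫ CohB1.ProjSpace.toSpec N k = X ↘ Spec (CommRingCat.of k) ∧
      Nonempty (L i ≅ (Scheme.Modules.pullback ι).obj (Twist.twistProjSpace N k 1)))
    (hLM : ∀ i, Nonempty (CohB1.tensorMod (L i) (M i) ≅ Coh.structureModule X)) :
    Nonempty (Geo X (FGA.intNum k X (s + 2) M)) := by
  refine exists_geo k X hnorm s hdim L M (fun i => ?_) (fun i => ?_) hLM (fun i => ?_)
  · exact Fga.IntAdd.isInvertible_of_tensor (Ega2.Tens.swap (M i) (L i) ≪≫ (hLM i).some)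
  · exact Fga.IntAdd.isInvertible_of_tensor (hLM i).some
  · obtain ⟨N, ι, hι, -, ⟨e⟩⟩ := hLva i
    exact K939.GenHypVA.genAff_of_veryAmple N k ι e

/-- A closed subscheme of projective space has an ample module. -/
theorem exists_ample {k : Type u} [Field k] {X : Scheme.{u}} [X.Over (Spec (CommRingCat.of k))]
    (hproj : ∃ (N : ℕ) (ι : X ⟶ CohB1.ProjSpace N k), IsClosedImmersion ι ∧
      ι ≫ CohB1.ProjSpace.toSpec N k = X ↘ Spec (CommRingCat.of k)) : ∃ A : X.Modules, CohB1.IsAmple A := by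
  obtain ⟨N, ι, hι, -⟩ := hproj
  exact ⟨_, Groth.Agent.CohqB.AmpCocycle.isAmple_pullback ι (VarietyA.AmpleField.isAmple_twistProjSpace N k)⟩

end K939.SurfRow
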