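import Groth.Agent.RefCh.K939.SurfInst
import Groth.Agent.RefCh.K939.PullCl
import Groth.Agent.RefCh.K939.GenHypIter
import Groth.Agent.RefCh.K939.GenHypVA
import Groth.Agent.RefCh.K938.Rows
import Groth.Agent.CohqB.AmpGeneric

/-!
# The abstract surface data of a normal projective scheme with very ample modules
-/

set_option autoImplicit false
universe u
open CategoryTheory CategoryTheory.Limits AlgebraicGeometry Opposite TopologicalSpace

namespace K939.SurfX

open Groth.Agent Groth.Agent.Grpsch.PicGrp K938 K938.Val K939.SurfGeo K464.Base RefFun K939.PullCl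

/-- A surface over a field computing the values of `φ`. -/
structure Geo (X : Scheme.{u}) (φ : X.Modules → ℤ) where
  K : Type u
  fK : Field K
  Z : Scheme.{u}
  ov : Z.Over (Spec (CommRingCat.of K))
  int : IsIntegral Z
  prop : IsProper (Z ↘ Spec (CommRingCat.of K))
  noeth : IsLocallyNoetherian Z
  norm : Pi1.IsNormalScheme Z
  dim : topologicalKrullDim Z = 2
  j : Z ⟶ X
  flat : Flat j
  aff : IsAffineHom j
  D : SurfGeo.Data K Z
  val_eq : ∀ F : X.Modules, Coh.IsCoh F → φ F = Curv2.euler K Z ((Scheme.Modules.pullback j).obj F)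

attribute [instance] Geo.fK Geo.ov Geo.int Geo.prop Geo.noeth Geo.flat Geo.aff

theorem exists_geo (k : Type u) [Field k] (X : Scheme.{u}) [X.Over (Spec (CommRingCat.of k))]
    [IsProper (X ↘ Spec (CommRingCat.of k))] [IsIntegral X]
    (hnorm : Pi1.IsNormalScheme X) (s : ℕ)
    (hdim : topologicalKrullDim X = (s + 2 : ℕ)) (L M : Fin s → X.Modules) (hL : ∀ i, PicF.IsInvertible (L i))
    (hM : ∀ i, PicF.IsInvertible (M i))
    (hLM : ∀ i, Nonempty (CohB1.tensorMod (L i) (M i) ≅ Coh.structureModule X)) (hgen : ∀ i, GenHyp.GenAff (L i)) :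
    Nonempty (Geo X (FGA.intNum k X (s + 2) M)) := by
  obtain ⟨K, _, _, Z, _, j, hZi, hZn, hZp, hZd, hjf, hja, -, hval, -⟩ := GenHypIter.exists_surface s 2 k X hnorm hdim L M hL hM
    (fun i => ⟨Ega2.Tens.swap _ _ ≪≫ (hLM i).some⟩) hgen
  have hZN : IsNoetherian Z := CurvesB.CurveRR.isNoetherian_of_proper K Z
  obtain ⟨D⟩ := SurfGeo.exists_data (k := K) hZn hZd
  refine ⟨{ K := K, fK := inferInstance, Z := Z, ov := inferInstance, int := hZi, prop := hZp, noeth := inferInstance,
            norm := hZn, dim := hZd, j := j, flat := hjf, aff := hja, D := D, val_eq := fun F hF => ?_ }⟩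
  rw [hval F hF (s + 2) 2 le_rfl le_rfl]
  exact Fga.IntAdd.eulerCharLE_eq K Z 2 hZd.le _

namespace Geo

variable {X : Scheme.{u}} {φ : X.Modules → ℤ} (G : Geo X φ)

/-- The group law on the class group of the surface. -/
@[reducible] noncomputable def lawZ : Law G.Z := K938.RefCl.law G.norm

/-- The class group of the surface. -/
abbrev C : Type (u + 1) := Ref1Set G.Z

noncomputable instance : CommGroup G.C := G.lawZ.toCommGroup

/-- The Picard group of the resolution. -/
abbrev P : Type (u + 1) := Pic G.D.Y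

/-- The abstract surface. -/
noncomputable def S : K424.AbsSurf.Data G.P G.C G.D.r :=
  letI := G.lawZ
  SurfInst.inst G.D G.norm

/-- The pullback of classes. -/
noncomputable def ρ [IsIntegral X] [IsLocallyNoetherian X] [Law X] : Ref1Set X →* G.C :=
  letI := G.lawZ
  pullCl G.j

theorem val_eq' [IsIntegral X] [IsLocallyNoetherian X] [Law X]
    (hφ : ∀ F F' : X.Modules, Nonempty (F ≅ F') → φ F = φ F') (c : Ref1Set X) : val φ c = G.S.Φ (G.ρ c) := by
  letI := G.lawZ
  exact val_pull G.j hφ SurfInst.euler_congr' G.val_eq c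

theorem hodge (h : ∃ A : X.Modules, CohB1.IsAmple A) :
    ∃ h : G.P, 0 < G.S.ip h h ∧ ∀ x, G.S.ip h h * G.S.ip x x ≤ G.S.ip h x ^ 2 := by
  obtain ⟨A, hA⟩ := h
  exact SurfDot.exists_hodge G.D ⟨_, Groth.Agent.CohqB.AmpCocycle.isAmple_pullback G.j hA⟩

end Geo

end K939.SurfX
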