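import Groth.Agent.RefCh.K939.Codim1
import Groth.Agent.RefCh.K939.Op
import Groth.Agent.RefCh.K939.Op2

/-!
# Tensoring with a module which is free of rank one in codimension at most one

* `sameMap_tensor`: at a point where `L_x ≅ O_x`, the stalk of `u ⊗ L` is that of `u`;
* `toQ_tensor`: `[M ⊗ L] - [N ⊗ L] = [M] - [N]` modulo `K_{n-2}` if `M_η ≅ N_η` and `L` is free of rank one
  in codimension `≤ 1`.
-/

set_option autoImplicit false
set_option linter.style.haveILetI false
universe w u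

open CategoryTheory CategoryTheory.Limits AlgebraicGeometry TopologicalSpace TensorProduct MonoidalCategory

namespace K939.TensCmp

open Groth.Agent.CycB Groth.Agent.CycB.ModStalk Groth.Agent.CycB.StalkExact K939.Idx K939.Codim1
  Groth.Agent.Fdesc.AssFlat Groth.Agent.Ega2

variable {X : Scheme.{u}} {δ : X → ℤ}

theorem tensorModStalk_natural {M N : X.Modules} (u : M ⟶ N) (L : X.Modules) (x : X)
    (t : (CohB1.tensorMod M L).presheaf.stalk x) :
    tensorModStalk N L x (stalkLin ((DCoh.tensorBi.map u).app L) x t) =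
      (stalkLin u x).rTensor (L.presheaf.stalk x) (tensorModStalk M L x t) := by
  have h := Groth.Agent.Dcoh.Stalk.tensorStalkIso_naturality_left (N := L) u x
  have h1 := congrArg (fun f => f.hom t) h
  exact h1

theorem sameMap_tensor {M N : X.Modules} (u : M ⟶ N) (L : X.Modules) (x : X)
    (e : L.presheaf.stalk x ≃ₗ[X.presheaf.stalk x] X.presheaf.stalk x) :
    SameMap (stalkLin ((DCoh.tensorBi.map u).app L) x) (stalkLin u x) := by
  refine ⟨(tensorModStalk M L x).trans ((LinearEquiv.lTensor _ e).trans (TensorProduct.rid _ _)),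
    (tensorModStalk N L x).trans ((LinearEquiv.lTensor _ e).trans (TensorProduct.rid _ _)),
    fun t => ?_⟩
  have h1 := tensorModStalk_natural u L x t
  have h2 : ∀ z : (M.presheaf.stalk x) ⊗[X.presheaf.stalk x] (L.presheaf.stalk x),
      TensorProduct.rid _ _ (LinearEquiv.lTensor (N.presheaf.stalk x) e
        ((stalkLin u x).rTensor (L.presheaf.stalk x) z)) =
      stalkLin u x (TensorProduct.rid _ _ (LinearEquiv.lTensor (M.presheaf.stalk x) e z)) := by
    intro z
    induction z using TensorProduct.induction_on with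
    | zero => simp only [map_zero]
    | tmul a b =>
      rw [LinearMap.rTensor_tmul, LinearEquiv.lTensor_tmul, LinearEquiv.lTensor_tmul,
        TensorProduct.rid_tmul, TensorProduct.rid_tmul, map_smul]
    | add a b ha hb => simp only [map_add, ha, hb]
  refine Eq.trans ?_ (h2 _)
  exact congrArg (fun z => TensorProduct.rid _ _ (LinearEquiv.lTensor (N.presheaf.stalk x) e z)) h1

section Integral

variable [IsIntegral X]

/-- Tensoring with a module free of rank one in codimension `≤ 1`. -/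
theorem toQ_tensor (hX : Cyc.IsSetup X δ) {n : ℤ} (hn : δ (genericPoint X) = n) {M N L : X.Modules}
    (hM : Coh.IsCoh M) (hN : Coh.IsCoh N) (hL : Coh.IsCoh L)
    (θ : M.presheaf.stalk (genericPoint X) ≃ₗ[X.presheaf.stalk (genericPoint X)]
      N.presheaf.stalk (genericPoint X))
    (hL1 : ∀ x, n - 1 ≤ δ x → Nonempty (L.presheaf.stalk x ≃ₗ[X.presheaf.stalk x] X.presheaf.stalk x)) :
    Cyc.toK0CohQuot δ n (n - 1 - 1) (CohB1.tensorMod M L) -
        Cyc.toK0CohQuot δ n (n - 1 - 1) (CohB1.tensorMod N L) =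
      Cyc.toK0CohQuot δ n (n - 1 - 1) M - Cyc.toK0CohQuot δ n (n - 1 - 1) N := by
  have := hX.1
  obtain ⟨H, u, v, hH, hu, hv, -, -⟩ := Gen.exists_cospan hM hN θ
  have key : ∀ (P : X.Modules) (hP : Coh.IsCoh P) (w : P ⟶ H)
      (_ : Function.Bijective (stalkLin w (genericPoint X))),
      Cyc.toK0CohQuot δ n (n - 1 - 1) (CohB1.tensorMod H L) -
        Cyc.toK0CohQuot δ n (n - 1 - 1) (CohB1.tensorMod P L) =
      Cyc.toK0CohQuot δ n (n - 1 - 1) H - Cyc.toK0CohQuot δ n (n - 1 - 1) P := by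
    intro P hP w hw
    have hb : ∀ x, n - 1 < δ x → Function.Bijective (stalkLin w x) := by
      intro x hx
      obtain rfl := Gen.eq_gen hX (x := x) (by omega)
      exact hw
    refine toQ_sub_eq_of_sameMap hX (Gen.cohLe_of_isCoh hX (isCoh_tensor hP hL) hn)
      (Gen.cohLe_of_isCoh hX (isCoh_tensor hH hL) hn) (Gen.cohLe_of_isCoh hX hP hn)
      (Gen.cohLe_of_isCoh hX hH hn) ((DCoh.tensorBi.map w).app L) w (fun x hx => ?_) hb (fun x hx => ?_)
    · obtain ⟨e⟩ := hL1 x hx.le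
      exact (sameMap_tensor w L x e).symm.bijective (hb x hx)
    · obtain ⟨e⟩ := hL1 x hx.ge
      exact sameMap_tensor w L x e
  have h1 := key M hM u hu
  have h2 := key N hN v hv
  have h3 := congrArg₂ (· - ·) h2 h1
  simp only [sub_sub_sub_cancel_left] at h3
  exact h3

/-- `[F] = [F^**]` modulo `K_{n-2}` for `F` free in codimension `≤ 1`. -/
theorem toQ_ddual (hX : Cyc.IsSetup X δ) {n : ℤ} (hn : δ (genericPoint X) = n) {F : X.Modules}
    (hF : Coh.IsCoh F)
    (hL1 : ∀ x, n - 1 ≤ δ x → Module.Free (X.presheaf.stalk x) (F.presheaf.stalk x)) :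
    Cyc.toK0CohQuot δ n (n - 1 - 1) F = Cyc.toK0CohQuot δ n (n - 1 - 1) (RefHull.ddual F) := by
  have := hX.1
  refine toQ_eq_of_bij (Gen.cohLe_of_isCoh hX hF hn)
    (Gen.cohLe_of_isCoh hX (K476.HomSh4.isCoh_ddual hF) hn) (RefHull.bidualMap F) fun x hx => ?_
  rw [← K476.HomSh1.stalkMapₗ_eq]
  exact K476.HomSh4.bijective_stalkMapₗ_bidualMap_of_free hF x (hL1 x (by omega))

omit [IsIntegral X] in
theorem free_stalk_tensor {L M : X.Modules} {x : X}
    (e : L.presheaf.stalk x ≃ₗ[X.presheaf.stalk x] X.presheaf.stalk x)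
    (e' : M.presheaf.stalk x ≃ₗ[X.presheaf.stalk x] X.presheaf.stalk x) :
    Nonempty ((CohB1.tensorMod L M).presheaf.stalk x ≃ₗ[X.presheaf.stalk x] X.presheaf.stalk x) :=
  ⟨(tensorModStalk L M x).trans ((TensorProduct.congr e e').trans (TensorProduct.rid _ _))⟩

/-- `[ℒ₁ ⊗̂ ℒ₂] + [O] = [ℒ₁] + [ℒ₂]` modulo `K_{n-2}`. -/
theorem toQ_refTensor (hX : Cyc.IsSetup X δ) {n : ℤ} (hn : δ (genericPoint X) = n) {L M : X.Modules}
    (hL : Coh.IsCoh L) (hM : Coh.IsCoh M)
    (hL1 : ∀ x, n - 1 ≤ δ x → Nonempty (L.presheaf.stalk x ≃ₗ[X.presheaf.stalk x] X.presheaf.stalk x))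
    (hM1 : ∀ x, n - 1 ≤ δ x → Nonempty (M.presheaf.stalk x ≃ₗ[X.presheaf.stalk x] X.presheaf.stalk x)) :
    Cyc.toK0CohQuot δ n (n - 1 - 1) (RefPow.refTensor L M) +
        Cyc.toK0CohQuot δ n (n - 1 - 1) (Coh.structureModule X) =
      Cyc.toK0CohQuot δ n (n - 1 - 1) L + Cyc.toK0CohQuot δ n (n - 1 - 1) M := by
  have := hX.1
  obtain ⟨e₁⟩ := hL1 (genericPoint X) (by omega)
  obtain ⟨t, ht⟩ := Ref1.exists_gen_structureModule (genericPoint X)
  have h1 := toQ_tensor hX hn hL Ref1.isCoh_structureModule hM (e₁.trans (Ref1.genEquiv ht)) hM1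
  have h2 : Cyc.toK0CohQuot δ n (n - 1 - 1) (CohB1.tensorMod (Coh.structureModule X) M) =
      Cyc.toK0CohQuot δ n (n - 1 - 1) M := by
    rw [Op.toQ_eq_iff, Op.cl_iso (Tens.lunit M), sub_self]
    exact AddSubgroup.zero_mem _
  have h3 := toQ_ddual hX hn (isCoh_tensor hL hM) fun x hx => by
    obtain ⟨e⟩ := hL1 x hx
    obtain ⟨e'⟩ := hM1 x hx
    obtain ⟨e''⟩ := free_stalk_tensor e e'
    exact Module.Free.of_equiv e''.symm
  change Cyc.toK0CohQuot δ n (n - 1 - 1) (RefHull.ddual (CohB1.tensorMod L M)) + _ = _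
  rw [← h3]
  rw [h2, sub_eq_sub_iff_add_eq_add] at h1
  exact h1

end Integral

end K939.TensCmp
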